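import Cfsg.Agent.Lib.Twisted.Exceptional
import Cfsg.Agent.Lib.Chevalley.CertAll

/-! The exceptional isogenies of B₂, F₄ (p = 2) and G₂ (p = 3): generated tables, checked in the kernel below. -/

set_option autoImplicit false
set_option maxRecDepth 100000

namespace CfsgLib.Twisted

open Cfsg.Lie

/-- the exceptional isogeny of B2 -/
def isoB2 : IsoTab where
  p := 2
  inS c := Nat.beq ((0x199 >>> c) % 2) 1
  up c := (0x8000007040000030000 >>> (8 * c)) % 256
  down c := (0x90600000502000001 >>> (8 * c)) % 256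
  rho r := (0x607040502030001 >>> (8 * r)) % 256
  lam r := (0x102020101020201 >>> (8 * r)) % 256
  cen c := Nat.beq ((0x1 >>> c) % 2) 1
  sep c := List.getD [
    [],
    [(3, 3, 1)],
    [(3, 7, 1)],
    [(0, 8, 1)],
    [(0, 7, 1)],
    [(3, 4, 1)],
    [(4, 3, 1)],
    [(0, 4, 1)],
    [(0, 3, 1)],
    [(7, 3, 1)]] c []

theorem isoB2_ok : isoB2.check chevB2 CfsgLib.Chevalley.auxB2 = true := by decide +kernel

/-- the exceptional isogeny of G2 -/
def isoG2 : IsoTab where
  p := 3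
  inS c := Nat.beq ((0xe71 >>> c) % 2) 1
  up c := (0xb0a000000090600000005040000 >>> (8 * c)) % 256
  down c := (0xd0c08000007030200000001 >>> (8 * c)) % 256
  rho r := (0x9080b0a0607040501000302 >>> (8 * r)) % 256
  lam r := (0x10103030301010303030101 >>> (8 * r)) % 256
  cen c := Nat.beq ((0x0 >>> c) % 2) 1
  sep c := List.getD [
    [(4, 4, 2)],
    [(4, 4, 2), (5, 5, 2)],
    [(4, 10, 1)],
    [(4, 9, 1)],
    [(0, 11, 1)],
    [(0, 10, 2)],
    [(0, 9, 2)],
    [(5, 6, 2)],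
    [(6, 5, 2)],
    [(0, 6, 1)],
    [(0, 5, 1)],
    [(0, 4, 2)],
    [(9, 4, 1)],
    [(10, 4, 1)]] c []

theorem isoG2_ok : isoG2.check chevG2 CfsgLib.Chevalley.auxG2 = true := by decide +kernel

/-- the exceptional isogeny of F4 -/
def isoF4 : IsoTab where
  p := 2
  inS c := Nat.beq ((0x11fe381c7f883 >>> c) % 2) 1
  up c := (0x302c2b002a28210000000000000000292720000000261f2512181100000017100e0000000000000000160f0d000c0b0700010000 >>> (8 * c)) % 256
  down c := (0x3300000032312f242e231e1c0000002d221d0000000000001a150a0000001b191409130806050000000400000000000203 >>> (8 * c)) % 256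
  rho r := (0x2c28272f26241d2e2d2b202a1f1a1825231c291e19221b210e140d161106130c0a171510050f040201120b0900080703 >>> (8 * r)) % 256
  lam r := (0x10101020101010202020202020202010101020202010101010101020202010101020202020202020201010102010101 >>> (8 * r)) % 256
  cen c := Nat.beq ((0x0 >>> c) % 2) 1
  sep c := List.getD [
    [(7, 7, 1)],
    [(7, 7, 1), (11, 11, 1)],
    [(7, 7, 1), (11, 11, 1), (12, 12, 1)],
    [(12, 12, 1), (13, 13, 1)],
    [(7, 33, 1)],
    [(7, 32, 1)],
    [(7, 31, 1)],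
    [(1, 48, 1)],
    [(7, 24, 1)],
    [(7, 23, 1)],
    [(7, 22, 1)],
    [(0, 44, 1)],
    [(0, 43, 1)],
    [(0, 42, 1)],
    [(0, 41, 1)],
    [(0, 40, 1)],
    [(0, 39, 1)],
    [(0, 38, 1)],
    [(0, 37, 1)],
    [(11, 17, 1)],
    [(11, 16, 1)],
    [(11, 15, 1)],
    [(1, 33, 1)],
    [(1, 32, 1)],
    [(1, 31, 1)],
    [(12, 14, 1)],
    [(12, 13, 1)],
    [(13, 14, 1)],
    [(14, 13, 1)],
    [(13, 12, 1)],
    [(14, 12, 1)],
    [(1, 24, 1)],
    [(1, 23, 1)],
    [(1, 22, 1)],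
    [(15, 11, 1)],
    [(16, 11, 1)],
    [(17, 11, 1)],
    [(0, 18, 1)],
    [(0, 17, 1)],
    [(0, 16, 1)],
    [(0, 15, 1)],
    [(0, 14, 1)],
    [(0, 13, 1)],
    [(0, 12, 1)],
    [(0, 11, 1)],
    [(22, 7, 1)],
    [(23, 7, 1)],
    [(24, 7, 1)],
    [(1, 7, 1)],
    [(31, 7, 1)],
    [(32, 7, 1)],
    [(33, 7, 1)]] c []

theorem isoF4_ok : isoF4.check chevF4 CfsgLib.Chevalley.auxF4 = true := by decide +kernel

end CfsgLib.Twisted
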