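import Cfsg.Prelude.Def_ChevE6
import Cfsg.Agent.Lib.Twisted.Monomial

/-! Certificate tables for the datum of type E6 (generated; every table is checked below). -/

set_option autoImplicit false

namespace CfsgLib.Twisted

open Cfsg.Lie

def sigmaE6 (i : ℕ) : ℕ → ℕ :=
  let N := List.getD [0x47464544433736353433322d2c2b2a0f4241403f3e3d31302f2e3c3b3a39292827262524232221201f1e0e0d0c0b191817160a0908070605381d1c1b1a1514131211100403020100,
    0x46474544434241403c3b3a3f3e3d39383736352d2c2b292827193433322a31302f2625242322211817161d1514132e201f1e1c1b1a1211100f0e0a09080d0c0b0706050403020001,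
    0x47464241404544433f3e3d3c3b3a383937363531302f3433322e2928271d2d2c2b2625242322211c1b1a2a201f1e191514131817161211100e0f0d0c0b0a09080403020706050100,
    0x4745464443423f3e41403d3c3b393a3837343336353231302e2f2d2c2a2b262520292824231f1e2722211c1d1b1a181917161512111413100f0d0e0c0b0a07060908050403010200,
    0x47464445434142403f3d3e3c3a3b3938363735343233312f302e2d2b2c2a2927282422262125231f201e1d1b1c1a191718161415131210110f0e0c0d0b090a080705060402030100,
    0x47464543444240413e3f3d3b3c3a393837353633343230312f2e2c2d2b2a282927252623242122201e1f1d1c1a1b191816171513141112100f0e0d0b0c0a08090607050304020100] i 0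
  fun s => (N >>> (8 * s)) % 256

def etaE6 (i : ℕ) : ℕ → ℤ :=
  let N := List.getD [0x1fc3c003c3f8000,
    0x80e01c4381c2380701,
    0x38021c0781e038401c,
    0x43046088e7110620c2,
    0x244889113c88911224,
    0x129052225a444a0948] i 0
  fun s => if (N >>> s) % 2 = 0 then 1 else -1

def parE6 (r : ℕ) : ℕ × ℕ :=
  ((0x10304050204050305040105040302000405030504020504030105040302050403050405050405030405020304050103040502040503050400020304050104050305040205040301 >>> (8 * r)) % 256,
    (0x464544434041403e3e3d3a3b3a39380036353333322f302f2e002c2b2a0028270025000024252227201f2a1d1c1b2e191817181514141211380f0e0d0c0d0a090907060704030201 >>> (8 * r)) % 256)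

def cartE6 (j : ℕ) : ℕ → ℤ :=
  let N := List.getD [0x888889999999999a77777788887777888888888888999988889999996777777777788888,
    0x9788888899977788888999999a7778777888888999899967777778888899977788888897,
    0x88999777888888978889997778999a777888888999677789997778889788888899977788,
    0x89788899778889788997788897889799a778899677978897888997788978889977888978,
    0x8897897889789788978897897889788979a7967978897889789788978897897889789788,
    0x88897897978978888979789788978897897a697897889788978979788889789797897888] j 0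
  fun s => ((N >>> (4 * s)) % 16 : ℕ) - (8 : ℤ)

def coroE6 (s : ℕ) : ℕ → ℤ :=
  fun j => ((0x9abaa99aba999aaa9999aa9989aa999aa99999a99989a9999999998999998899999999898999898899898889898888899aa99899a99889a998999998899998889998999898899898889898888898999988899988889988888988999888899888889888998888898888988888788888878888778888887888877888777888888788887788877788777788888878887878877878777878887778877778777778876778776778766778888887888787887787877787777787887777877777777777876777776777766777876677776677766677765677765667 >>> (4 * (6 * s + j))) % 16 : ℕ) - (8 : ℤ)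

def depE6 (r : ℕ) : ℕ := (0xa0908070607060505040304030201000605040403020302010003020100020100010000010102010203010203040102030403040505060701020304050405060607080708090a0b >>> (8 * r)) % 256

theorem basicE6_0 : checkBasic chevE6 (etaE6 0) 0 = true := by
  decide +kernel

theorem nwordE6_0 : checkNWord chevE6 (sigmaE6 0) (etaE6 0) 0 = true := by
  decide +kernel

theorem hwordE6_0 : checkHWord chevE6 0 = true := by
  decide +kernel

theorem addsE6_0 : checkAdds chevE6 0 = true := by
  decide +kernel

theorem reflE6_0 : checkRefl chevE6 (sigmaE6 0) (etaE6 0) 0 = true := by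
  decide +kernel

theorem autE6_0_0 :
    (List.range' (24 * 0) 24).all (checkAutRoot chevE6 cartE6 coroE6 (sigmaE6 0) (sigmaE6 0) (etaE6 0) (reflN chevE6 0)) = true := by
  decide +kernel

theorem autE6_0_1 :
    (List.range' (24 * 1) 24).all (checkAutRoot chevE6 cartE6 coroE6 (sigmaE6 0) (sigmaE6 0) (etaE6 0) (reflN chevE6 0)) = true := by
  decide +kernel

theorem autE6_0_2 :
    (List.range' (24 * 2) 24).all (checkAutRoot chevE6 cartE6 coroE6 (sigmaE6 0) (sigmaE6 0) (etaE6 0) (reflN chevE6 0)) = true := by
  decide +kernel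

theorem simpleE6_0 : checkSimple chevE6 cartE6 coroE6 (sigmaE6 0) (etaE6 0) 0 = true :=
  checkSimple_of_parts chevE6 basicE6_0 nwordE6_0 hwordE6_0 addsE6_0 reflE6_0 24 3 (by decide)
    (by
      intro k hk
      interval_cases k
      · exact autE6_0_0
      · exact autE6_0_1
      · exact autE6_0_2
    )

theorem basicE6_1 : checkBasic chevE6 (etaE6 1) 1 = true := by
  decide +kernel

theorem nwordE6_1 : checkNWord chevE6 (sigmaE6 1) (etaE6 1) 1 = true := by
  decide +kernel

theorem hwordE6_1 : checkHWord chevE6 1 = true := by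
  decide +kernel

theorem addsE6_1 : checkAdds chevE6 1 = true := by
  decide +kernel

theorem reflE6_1 : checkRefl chevE6 (sigmaE6 1) (etaE6 1) 1 = true := by
  decide +kernel

theorem autE6_1_0 :
    (List.range' (24 * 0) 24).all (checkAutRoot chevE6 cartE6 coroE6 (sigmaE6 1) (sigmaE6 1) (etaE6 1) (reflN chevE6 1)) = true := by
  decide +kernel

theorem autE6_1_1 :
    (List.range' (24 * 1) 24).all (checkAutRoot chevE6 cartE6 coroE6 (sigmaE6 1) (sigmaE6 1) (etaE6 1) (reflN chevE6 1)) = true := by
  decide +kernel

theorem autE6_1_2 :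
    (List.range' (24 * 2) 24).all (checkAutRoot chevE6 cartE6 coroE6 (sigmaE6 1) (sigmaE6 1) (etaE6 1) (reflN chevE6 1)) = true := by
  decide +kernel

theorem simpleE6_1 : checkSimple chevE6 cartE6 coroE6 (sigmaE6 1) (etaE6 1) 1 = true :=
  checkSimple_of_parts chevE6 basicE6_1 nwordE6_1 hwordE6_1 addsE6_1 reflE6_1 24 3 (by decide)
    (by
      intro k hk
      interval_cases k
      · exact autE6_1_0
      · exact autE6_1_1
      · exact autE6_1_2
    )

theorem basicE6_2 : checkBasic chevE6 (etaE6 2) 2 = true := by
  decide +kernel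

theorem nwordE6_2 : checkNWord chevE6 (sigmaE6 2) (etaE6 2) 2 = true := by
  decide +kernel

theorem hwordE6_2 : checkHWord chevE6 2 = true := by
  decide +kernel

theorem addsE6_2 : checkAdds chevE6 2 = true := by
  decide +kernel

theorem reflE6_2 : checkRefl chevE6 (sigmaE6 2) (etaE6 2) 2 = true := by
  decide +kernel

theorem autE6_2_0 :
    (List.range' (24 * 0) 24).all (checkAutRoot chevE6 cartE6 coroE6 (sigmaE6 2) (sigmaE6 2) (etaE6 2) (reflN chevE6 2)) = true := by
  decide +kernel

theorem autE6_2_1 :
    (List.range' (24 * 1) 24).all (checkAutRoot chevE6 cartE6 coroE6 (sigmaE6 2) (sigmaE6 2) (etaE6 2) (reflN chevE6 2)) = true := by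
  decide +kernel

theorem autE6_2_2 :
    (List.range' (24 * 2) 24).all (checkAutRoot chevE6 cartE6 coroE6 (sigmaE6 2) (sigmaE6 2) (etaE6 2) (reflN chevE6 2)) = true := by
  decide +kernel

theorem simpleE6_2 : checkSimple chevE6 cartE6 coroE6 (sigmaE6 2) (etaE6 2) 2 = true :=
  checkSimple_of_parts chevE6 basicE6_2 nwordE6_2 hwordE6_2 addsE6_2 reflE6_2 24 3 (by decide)
    (by
      intro k hk
      interval_cases k
      · exact autE6_2_0
      · exact autE6_2_1
      · exact autE6_2_2
    )

theorem basicE6_3 : checkBasic chevE6 (etaE6 3) 3 = true := by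
  decide +kernel

theorem nwordE6_3 : checkNWord chevE6 (sigmaE6 3) (etaE6 3) 3 = true := by
  decide +kernel

theorem hwordE6_3 : checkHWord chevE6 3 = true := by
  decide +kernel

theorem addsE6_3 : checkAdds chevE6 3 = true := by
  decide +kernel

theorem reflE6_3 : checkRefl chevE6 (sigmaE6 3) (etaE6 3) 3 = true := by
  decide +kernel

theorem autE6_3_0 :
    (List.range' (24 * 0) 24).all (checkAutRoot chevE6 cartE6 coroE6 (sigmaE6 3) (sigmaE6 3) (etaE6 3) (reflN chevE6 3)) = true := by
  decide +kernel

theorem autE6_3_1 :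
    (List.range' (24 * 1) 24).all (checkAutRoot chevE6 cartE6 coroE6 (sigmaE6 3) (sigmaE6 3) (etaE6 3) (reflN chevE6 3)) = true := by
  decide +kernel

theorem autE6_3_2 :
    (List.range' (24 * 2) 24).all (checkAutRoot chevE6 cartE6 coroE6 (sigmaE6 3) (sigmaE6 3) (etaE6 3) (reflN chevE6 3)) = true := by
  decide +kernel

theorem simpleE6_3 : checkSimple chevE6 cartE6 coroE6 (sigmaE6 3) (etaE6 3) 3 = true :=
  checkSimple_of_parts chevE6 basicE6_3 nwordE6_3 hwordE6_3 addsE6_3 reflE6_3 24 3 (by decide)
    (by
      intro k hk
      interval_cases k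
      · exact autE6_3_0
      · exact autE6_3_1
      · exact autE6_3_2
    )

theorem basicE6_4 : checkBasic chevE6 (etaE6 4) 4 = true := by
  decide +kernel

theorem nwordE6_4 : checkNWord chevE6 (sigmaE6 4) (etaE6 4) 4 = true := by
  decide +kernel

theorem hwordE6_4 : checkHWord chevE6 4 = true := by
  decide +kernel

theorem addsE6_4 : checkAdds chevE6 4 = true := by
  decide +kernel

theorem reflE6_4 : checkRefl chevE6 (sigmaE6 4) (etaE6 4) 4 = true := by
  decide +kernel

theorem autE6_4_0 :
    (List.range' (24 * 0) 24).all (checkAutRoot chevE6 cartE6 coroE6 (sigmaE6 4) (sigmaE6 4) (etaE6 4) (reflN chevE6 4)) = true := by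
  decide +kernel

theorem autE6_4_1 :
    (List.range' (24 * 1) 24).all (checkAutRoot chevE6 cartE6 coroE6 (sigmaE6 4) (sigmaE6 4) (etaE6 4) (reflN chevE6 4)) = true := by
  decide +kernel

theorem autE6_4_2 :
    (List.range' (24 * 2) 24).all (checkAutRoot chevE6 cartE6 coroE6 (sigmaE6 4) (sigmaE6 4) (etaE6 4) (reflN chevE6 4)) = true := by
  decide +kernel

theorem simpleE6_4 : checkSimple chevE6 cartE6 coroE6 (sigmaE6 4) (etaE6 4) 4 = true :=
  checkSimple_of_parts chevE6 basicE6_4 nwordE6_4 hwordE6_4 addsE6_4 reflE6_4 24 3 (by decide)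
    (by
      intro k hk
      interval_cases k
      · exact autE6_4_0
      · exact autE6_4_1
      · exact autE6_4_2
    )

theorem basicE6_5 : checkBasic chevE6 (etaE6 5) 5 = true := by
  decide +kernel

theorem nwordE6_5 : checkNWord chevE6 (sigmaE6 5) (etaE6 5) 5 = true := by
  decide +kernel

theorem hwordE6_5 : checkHWord chevE6 5 = true := by
  decide +kernel

theorem addsE6_5 : checkAdds chevE6 5 = true := by
  decide +kernel

theorem reflE6_5 : checkRefl chevE6 (sigmaE6 5) (etaE6 5) 5 = true := by
  decide +kernel

theorem autE6_5_0 :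
    (List.range' (24 * 0) 24).all (checkAutRoot chevE6 cartE6 coroE6 (sigmaE6 5) (sigmaE6 5) (etaE6 5) (reflN chevE6 5)) = true := by
  decide +kernel

theorem autE6_5_1 :
    (List.range' (24 * 1) 24).all (checkAutRoot chevE6 cartE6 coroE6 (sigmaE6 5) (sigmaE6 5) (etaE6 5) (reflN chevE6 5)) = true := by
  decide +kernel

theorem autE6_5_2 :
    (List.range' (24 * 2) 24).all (checkAutRoot chevE6 cartE6 coroE6 (sigmaE6 5) (sigmaE6 5) (etaE6 5) (reflN chevE6 5)) = true := by
  decide +kernel

theorem simpleE6_5 : checkSimple chevE6 cartE6 coroE6 (sigmaE6 5) (etaE6 5) 5 = true :=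
  checkSimple_of_parts chevE6 basicE6_5 nwordE6_5 hwordE6_5 addsE6_5 reflE6_5 24 3 (by decide)
    (by
      intro k hk
      interval_cases k
      · exact autE6_5_0
      · exact autE6_5_1
      · exact autE6_5_2
    )

theorem tablesE6 : checkTables chevE6 cartE6 coroE6 = true := by
  decide +kernel

theorem reachE6 : checkReach chevE6 sigmaE6 parE6 depE6 = true := by
  decide +kernel

theorem rootCertE6 : RootCert chevE6 cartE6 coroE6 sigmaE6 etaE6 parE6 depE6 where
  tables := tablesE6
  simple := by
    intro i hi
    have hi' : i < 6 := hi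
    interval_cases i
    · exact simpleE6_0
    · exact simpleE6_1
    · exact simpleE6_2
    · exact simpleE6_3
    · exact simpleE6_4
    · exact simpleE6_5
  reach := reachE6

end CfsgLib.Twisted
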