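import Cfsg.Agent.Lib.Twisted.CoxeterOrder
import Cfsg.Prelude.Def_ChevStructure

/-! Certificate for the Coxeter group of type F4 (generated; checked by the kernel below). -/

set_option autoImplicit false

namespace CfsgLib.Twisted.Cox

def cartF4Cox : Fin 4 → Fin 4 → ℤ := fun i j =>
  (List.getD [[2, -1, 0, 0], [-1, 2, -1, 0], [0, -2, 2, -1], [0, 0, -1, 2]] i.val []).getD j.val 0

def levelF4_0 : Level where
  width := 0
  parent := [(0, 0)]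
  act := [[1], [0]]
  deds := []
  orbit := [[1, 0, 0, 0], [-1, 1, 0, 0]]

theorem levelF4_0_ok : checkLevel CoxeterMatrix.F₄ cartF4Cox levelF4_0 = true := by
  decide +kernel

def levelF4_1 : Level where
  width := 1
  parent := [(0, 1), (1, 0)]
  act := [[0, 1], [2, 0], [1, 2]]
  deds := [(2, 1, 0)]
  orbit := [[0, 1, 0, 0], [1, -1, 2, 0], [-1, 0, 2, 0]]

theorem levelF4_1_ok : checkLevel CoxeterMatrix.F₄ cartF4Cox levelF4_1 = true := by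
  decide +kernel

def levelF4_2 : Level where
  width := 2
  parent := [(0, 2), (1, 1), (2, 0), (2, 2), (3, 2), (5, 1), (6, 2)]
  act := [[0, 0, 1], [1, 2, 0], [3, 1, 4], [2, 3, 5], [5, 4, 2], [4, 6, 3], [6, 5, 7], [7, 7, 6]]
  deds := [(1, 0, 2), (3, 1, 0), (4, 0, 2), (4, 1, 2), (5, 0, 2), (6, 0, 1), (7, 0, 2), (7, 1, 2)]
  orbit := [[0, 0, 1, 0], [0, 1, -1, 1], [1, -1, 1, 1], [-1, 0, 1, 1], [1, 0, -1, 2], [-1, 1, -1, 2], [0, -1, 1, 2], [0, 0, -1, 3]]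

theorem levelF4_2_ok : checkLevel CoxeterMatrix.F₄ cartF4Cox levelF4_2 = true := by
  decide +kernel

def levelF4_3 : Level where
  width := 3
  parent := [(0, 3), (1, 2), (2, 1), (3, 0), (3, 2), (4, 2), (5, 3), (6, 1),
    (6, 3), (8, 2), (8, 3), (10, 3), (11, 2), (12, 2), (13, 1), (14, 1),
    (15, 0), (16, 0), (16, 2), (18, 2), (20, 1), (21, 2), (22, 3)]
  act := [[0, 0, 0, 1], [1, 1, 2, 0], [2, 3, 1, 2], [4, 2, 5, 3], [3, 4, 6, 4], [6, 5, 3, 7], [5, 8, 4, 9], [9, 7, 7, 5],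
    [8, 6, 10, 11], [7, 11, 9, 6], [10, 10, 8, 12], [11, 9, 13, 8], [12, 12, 14, 10], [13, 15, 11, 14], [14, 16, 12, 13], [17, 13, 15, 16],
    [18, 14, 19, 15], [15, 17, 17, 18], [16, 18, 20, 17], [20, 19, 16, 19], [19, 21, 18, 20], [21, 20, 22, 21], [22, 22, 21, 23], [23, 23, 23, 22]]
  deds := [(1, 0, 3), (1, 1, 3), (2, 0, 2), (2, 3, 2), (3, 3, 1), (4, 1, 0), (4, 3, 0), (5, 0, 2),
    (5, 1, 2), (6, 0, 2), (7, 0, 3), (7, 1, 3), (7, 2, 3), (8, 0, 1), (9, 0, 3), (9, 1, 3),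
    (9, 2, 0), (10, 0, 2), (10, 1, 2), (11, 0, 3), (11, 1, 3), (12, 0, 3), (12, 1, 3), (13, 0, 2),
    (13, 3, 2), (14, 0, 2), (14, 3, 2), (15, 2, 1), (15, 3, 1), (16, 3, 1), (17, 1, 0), (17, 2, 0),
    (17, 3, 0), (18, 1, 0), (18, 3, 0), (19, 0, 2), (19, 1, 2), (19, 3, 2), (20, 0, 2), (20, 3, 0),
    (21, 0, 1), (21, 3, 1), (22, 0, 2), (22, 1, 2), (23, 0, 3), (23, 1, 3), (23, 2, 3)]
  orbit := [[0, 0, 0, 1], [0, 0, 1, -1], [0, 1, -1, 0], [1, -1, 1, 0], [-1, 0, 1, 0], [1, 0, -1, 1], [-1, 1, -1, 1], [1, 0, 0, -1],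
    [0, -1, 1, 1], [-1, 1, 0, -1], [0, 0, -1, 2], [0, -1, 2, -1], [0, 0, 1, -2], [0, 1, -2, 1], [0, 1, -1, -1], [1, -1, 0, 1],
    [1, -1, 1, -1], [-1, 0, 0, 1], [-1, 0, 1, -1], [1, 0, -1, 0], [-1, 1, -1, 0], [0, -1, 1, 0], [0, 0, -1, 1], [0, 0, 0, -1]]

theorem levelF4_3_ok : checkLevel CoxeterMatrix.F₄ cartF4Cox levelF4_3 = true := by
  decide +kernel

theorem relF4Cox : checkRel CoxeterMatrix.F₄ cartF4Cox = true := by
  decide +kernel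

theorem towerF4 : Tower CoxeterMatrix.F₄ cartF4Cox [levelF4_0, levelF4_1, levelF4_2, levelF4_3] where
  rel := relF4Cox
  levels := by
    intro L hL
    simp only [List.mem_cons, List.not_mem_nil, or_false] at hL
    rcases hL with rfl | rfl | rfl | rfl
    exacts [levelF4_0_ok, levelF4_1_ok, levelF4_2_ok, levelF4_3_ok]
  widths := by decide +kernel

theorem cardF4Cox : Nat.card CoxeterMatrix.F₄.Group = 1152 := by
  rw [towerF4.spec.1]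
  decide +kernel

def trajF4 : List (List (List ℤ)) :=
  [[[1, 0, 0, 0], [-1, 1, 0, 0], [0, -1, 2, 0], [-1, 0, 0, 2], [-1, -1, 2, 0], [0, -1, 0, 2], [-1, 0, 0, 0], [1, -1, 0, 0], [0, 1, -2, 0], [1, 0, 0, -2], [1, 1, -2, 0], [0, 1, 0, -2], [1, 0, 0, 0]],
   [[0, 1, 0, 0], [-1, 0, 2, 0], [-1, -1, 2, 2], [-2, -1, 2, 2], [-1, -2, 2, 2], [-1, -1, 0, 2], [0, -1, 0, 0], [1, 0, -2, 0], [1, 1, -2, -2], [2, 1, -2, -2], [1, 2, -2, -2], [1, 1, 0, -2], [0, 1, 0, 0]],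
   [[0, 0, 1, 0], [-1, 0, 1, 1], [-1, -1, 2, 1], [-1, -1, 1, 2], [-1, -1, 1, 1], [0, -1, 0, 1], [0, 0, -1, 0], [1, 0, -1, -1], [1, 1, -2, -1], [1, 1, -1, -2], [1, 1, -1, -1], [0, 1, 0, -1], [0, 0, 1, 0]],
   [[0, 0, 0, 1], [-1, 0, 1, 0], [0, -1, 1, 1], [-1, 0, 0, 1], [0, -1, 1, 0], [0, 0, -1, 1], [0, 0, 0, -1], [1, 0, -1, 0], [0, 1, -1, -1], [1, 0, 0, -1], [0, 1, -1, 0], [0, 0, 1, -1], [0, 0, 0, 1]]]

theorem trajF4_ok : checkCoxElt cartF4Cox 12 trajF4 = true := by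
  decide +kernel

theorem orderOfF4Cox : orderOf ((List.finRange 4).map (CoxeterMatrix.F₄ : CoxeterMatrix (Fin 4)).simple).prod = 12 :=
  towerF4.orderOf_coxElt trajF4_ok

end CfsgLib.Twisted.Cox
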