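import Cfsg.Agent.Lib.Twisted.CoxeterOrder
import Cfsg.Prelude.Def_ChevStructure

/-! Certificate for the Coxeter group of type D4 (generated; checked by the kernel below). -/

set_option autoImplicit false

namespace CfsgLib.Twisted.Cox

def cartD4Cox : Fin 4 → Fin 4 → ℤ := fun i j =>
  (List.getD [[2, -1, 0, 0], [-1, 2, -1, -1], [0, -1, 2, 0], [0, -1, 0, 2]] i.val []).getD j.val 0

def levelD4_0 : Level where
  width := 0
  parent := [(0, 0)]
  act := [[1], [0]]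
  deds := []
  orbit := [[1, 0, 0, 0], [-1, 1, 0, 0]]

theorem levelD4_0_ok : checkLevel Cfsg.Lie.coxeterD4 cartD4Cox levelD4_0 = true := by
  decide +kernel

def levelD4_1 : Level where
  width := 1
  parent := [(0, 1), (1, 0)]
  act := [[0, 1], [2, 0], [1, 2]]
  deds := [(2, 1, 0)]
  orbit := [[0, 1, 0, 0], [1, -1, 1, 1], [-1, 0, 1, 1]]

theorem levelD4_1_ok : checkLevel Cfsg.Lie.coxeterD4 cartD4Cox levelD4_1 = true := by
  decide +kernel

def levelD4_2 : Level where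
  width := 2
  parent := [(0, 2), (1, 1), (2, 0)]
  act := [[0, 0, 1], [1, 2, 0], [3, 1, 2], [2, 3, 3]]
  deds := [(1, 0, 2), (2, 2, 1), (3, 1, 0), (3, 2, 0)]
  orbit := [[0, 0, 1, 0], [0, 1, -1, 0], [1, -1, 0, 1], [-1, 0, 0, 1]]

theorem levelD4_2_ok : checkLevel Cfsg.Lie.coxeterD4 cartD4Cox levelD4_2 = true := by
  decide +kernel

def levelD4_3 : Level where
  width := 3
  parent := [(0, 3), (1, 1), (2, 0), (2, 2), (3, 2), (5, 1), (6, 3)]
  act := [[0, 0, 0, 1], [1, 2, 1, 0], [3, 1, 4, 2], [2, 3, 5, 3], [5, 4, 2, 4], [4, 6, 3, 5], [6, 5, 6, 7], [7, 7, 7, 6]]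
  deds := [(1, 0, 3), (1, 2, 3), (2, 3, 1), (3, 1, 0), (3, 3, 0), (4, 0, 2), (4, 1, 2), (4, 3, 2),
    (5, 0, 2), (5, 3, 0), (6, 0, 1), (6, 2, 1), (7, 0, 3), (7, 1, 3), (7, 2, 3)]
  orbit := [[0, 0, 0, 1], [0, 1, 0, -1], [1, -1, 1, 0], [-1, 0, 1, 0], [1, 0, -1, 0], [-1, 1, -1, 0], [0, -1, 0, 1], [0, 0, 0, -1]]

theorem levelD4_3_ok : checkLevel Cfsg.Lie.coxeterD4 cartD4Cox levelD4_3 = true := by
  decide +kernel

theorem relD4Cox : checkRel Cfsg.Lie.coxeterD4 cartD4Cox = true := by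
  decide +kernel

theorem towerD4 : Tower Cfsg.Lie.coxeterD4 cartD4Cox [levelD4_0, levelD4_1, levelD4_2, levelD4_3] where
  rel := relD4Cox
  levels := by
    intro L hL
    simp only [List.mem_cons, List.not_mem_nil, or_false] at hL
    rcases hL with rfl | rfl | rfl | rfl
    exacts [levelD4_0_ok, levelD4_1_ok, levelD4_2_ok, levelD4_3_ok]
  widths := by decide +kernel

theorem cardD4Cox : Nat.card Cfsg.Lie.coxeterD4.Group = 192 := by
  rw [towerD4.spec.1]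
  decide +kernel

def trajD4 : List (List (List ℤ)) :=
  [[[1, 0, 0, 0], [-1, 1, 0, 0], [0, -1, 1, 1], [-1, 0, 0, 0], [1, -1, 0, 0], [0, 1, -1, -1], [1, 0, 0, 0]],
   [[0, 1, 0, 0], [-1, 0, 1, 1], [-1, -1, 1, 1], [0, -1, 0, 0], [1, 0, -1, -1], [1, 1, -1, -1], [0, 1, 0, 0]],
   [[0, 0, 1, 0], [-1, 0, 0, 1], [0, -1, 1, 0], [0, 0, -1, 0], [1, 0, 0, -1], [0, 1, -1, 0], [0, 0, 1, 0]],
   [[0, 0, 0, 1], [-1, 0, 1, 0], [0, -1, 0, 1], [0, 0, 0, -1], [1, 0, -1, 0], [0, 1, 0, -1], [0, 0, 0, 1]]]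

theorem trajD4_ok : checkCoxElt cartD4Cox 6 trajD4 = true := by
  decide +kernel

theorem orderOfD4Cox : orderOf ((List.finRange 4).map (Cfsg.Lie.coxeterD4 : CoxeterMatrix (Fin 4)).simple).prod = 6 :=
  towerD4.orderOf_coxElt trajD4_ok

end CfsgLib.Twisted.Cox
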