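import Cfsg.Agent.Lib.Twisted.CoxeterOrder
import Cfsg.Prelude.Def_ChevStructure

/-! Certificate for the Coxeter group of type E6 (generated; checked by the kernel below). -/

set_option autoImplicit false

namespace CfsgLib.Twisted.Cox

def cartE6Cox : Fin 6 → Fin 6 → ℤ := fun i j =>
  (List.getD [[2, 0, -1, 0, 0, 0], [0, 2, 0, -1, 0, 0], [-1, 0, 2, -1, 0, 0], [0, -1, -1, 2, -1, 0], [0, 0, 0, -1, 2, -1], [0, 0, 0, 0, -1, 2]] i.val []).getD j.val 0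

def levelE6_0 : Level where
  width := 0
  parent := [(0, 0)]
  act := [[1], [0]]
  deds := []
  orbit := [[1, 0, 0, 0, 0, 0], [-1, 0, 1, 0, 0, 0]]

theorem levelE6_0_ok : checkLevel CoxeterMatrix.E₆ cartE6Cox levelE6_0 = true := by
  decide +kernel

def levelE6_1 : Level where
  width := 1
  parent := [(0, 1)]
  act := [[0, 1], [1, 0]]
  deds := [(1, 0, 1)]
  orbit := [[0, 1, 0, 0, 0, 0], [0, -1, 0, 1, 0, 0]]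

theorem levelE6_1_ok : checkLevel CoxeterMatrix.E₆ cartE6Cox levelE6_1 = true := by
  decide +kernel

def levelE6_2 : Level where
  width := 2
  parent := [(0, 2), (1, 0)]
  act := [[0, 0, 1], [2, 1, 0], [1, 2, 2]]
  deds := [(1, 1, 2), (2, 1, 0), (2, 2, 0)]
  orbit := [[0, 0, 1, 0, 0, 0], [1, 0, -1, 1, 0, 0], [-1, 0, 0, 1, 0, 0]]

theorem levelE6_2_ok : checkLevel CoxeterMatrix.E₆ cartE6Cox levelE6_2 = true := by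
  decide +kernel

def levelE6_3 : Level where
  width := 3
  parent := [(0, 3), (1, 1), (1, 2), (2, 2), (3, 0), (4, 0), (4, 3), (6, 3),
    (8, 2)]
  act := [[0, 0, 0, 1], [1, 2, 3, 0], [2, 1, 4, 2], [5, 4, 1, 3], [6, 3, 2, 7], [3, 6, 5, 5], [4, 5, 6, 8], [8, 7, 7, 4],
    [7, 8, 9, 6], [9, 9, 8, 9]]
  deds := [(1, 0, 3), (2, 0, 1), (2, 3, 1), (3, 1, 2), (3, 3, 2), (4, 1, 2), (5, 1, 0), (5, 2, 0),
    (5, 3, 0), (6, 1, 0), (6, 2, 0), (7, 0, 3), (7, 1, 3), (7, 2, 3), (8, 0, 3), (8, 1, 0),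
    (9, 0, 2), (9, 1, 2), (9, 3, 2)]
  orbit := [[0, 0, 0, 1, 0, 0], [0, 1, 1, -1, 1, 0], [0, -1, 1, 0, 1, 0], [1, 1, -1, 0, 1, 0], [1, -1, -1, 1, 1, 0], [-1, 1, 0, 0, 1, 0], [-1, -1, 0, 1, 1, 0], [1, 0, 0, -1, 2, 0],
    [-1, 0, 1, -1, 2, 0], [0, 0, -1, 0, 2, 0]]

theorem levelE6_3_ok : checkLevel CoxeterMatrix.E₆ cartE6Cox levelE6_3 = true := by
  decide +kernel

def levelE6_4 : Level where
  width := 4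
  parent := [(0, 4), (1, 3), (2, 1), (2, 2), (3, 2), (4, 0), (5, 0), (5, 3),
    (7, 3), (8, 4), (9, 2), (9, 4), (11, 4), (13, 3), (14, 1)]
  act := [[0, 0, 0, 0, 1], [1, 1, 1, 2, 0], [2, 3, 4, 1, 2], [3, 2, 5, 3, 3], [6, 5, 2, 4, 4], [7, 4, 3, 8, 5], [4, 7, 6, 6, 6], [5, 6, 7, 9, 7],
    [9, 8, 8, 5, 10], [8, 9, 11, 7, 12], [12, 10, 10, 10, 8], [11, 11, 9, 11, 13], [10, 12, 13, 12, 9], [13, 13, 12, 14, 11], [14, 15, 14, 13, 14], [15, 14, 15, 15, 15]]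
  deds := [(1, 0, 4), (1, 1, 4), (1, 2, 4), (2, 0, 3), (2, 4, 3), (3, 0, 1), (3, 3, 1), (3, 4, 1),
    (4, 1, 2), (4, 3, 2), (4, 4, 2), (5, 1, 2), (5, 4, 1), (6, 1, 0), (6, 2, 0), (6, 3, 0),
    (6, 4, 0), (7, 1, 0), (7, 2, 0), (7, 4, 0), (8, 0, 3), (8, 1, 3), (8, 2, 3), (9, 0, 3),
    (9, 1, 0), (10, 0, 4), (10, 1, 4), (10, 2, 4), (10, 3, 4), (11, 0, 2), (11, 1, 2), (11, 3, 2),
    (12, 0, 4), (12, 1, 0), (12, 2, 4), (12, 3, 0), (13, 0, 4), (13, 1, 4), (13, 2, 4), (14, 0, 3),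
    (14, 2, 3), (14, 4, 3), (15, 0, 1), (15, 2, 1), (15, 3, 1), (15, 4, 1)]
  orbit := [[0, 0, 0, 0, 1, 0], [0, 0, 0, 1, -1, 1], [0, 1, 1, -1, 0, 1], [0, -1, 1, 0, 0, 1], [1, 1, -1, 0, 0, 1], [1, -1, -1, 1, 0, 1], [-1, 1, 0, 0, 0, 1], [-1, -1, 0, 1, 0, 1],
    [1, 0, 0, -1, 1, 1], [-1, 0, 1, -1, 1, 1], [1, 0, 0, 0, -1, 2], [0, 0, -1, 0, 1, 1], [-1, 0, 1, 0, -1, 2], [0, 0, -1, 1, -1, 2], [0, 1, 0, -1, 0, 2], [0, -1, 0, 0, 0, 2]]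

theorem levelE6_4_ok : checkLevel CoxeterMatrix.E₆ cartE6Cox levelE6_4 = true := by
  decide +kernel

def levelE6_5 : Level where
  width := 5
  parent := [(0, 5), (1, 4), (2, 3), (3, 1), (3, 2), (4, 2), (5, 0), (6, 0),
    (6, 3), (8, 3), (9, 4), (10, 2), (10, 4), (11, 5), (12, 4), (13, 5),
    (15, 3), (15, 5), (17, 1), (17, 5), (19, 5), (20, 4), (21, 4), (23, 3),
    (24, 2), (25, 0)]
  act := [[0, 0, 0, 0, 0, 1], [1, 1, 1, 1, 2, 0], [2, 2, 2, 3, 1, 2], [3, 4, 5, 2, 3, 3], [4, 3, 6, 4, 4, 4], [7, 6, 3, 5, 5, 5], [8, 5, 4, 9, 6, 6], [5, 8, 7, 7, 7, 7],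
    [6, 7, 8, 10, 8, 8], [10, 9, 9, 6, 11, 9], [9, 10, 12, 8, 13, 10], [13, 11, 11, 11, 9, 14], [12, 12, 10, 12, 15, 12], [11, 13, 15, 13, 10, 16], [16, 14, 14, 14, 14, 11], [15, 15, 13, 17, 12, 18],
    [14, 16, 18, 16, 16, 13], [17, 19, 17, 15, 17, 20], [18, 18, 16, 20, 18, 15], [19, 17, 19, 19, 19, 21], [20, 21, 20, 18, 22, 17], [21, 20, 21, 21, 23, 19], [22, 23, 22, 22, 20, 22], [23, 22, 23, 24, 21, 23],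
    [24, 24, 25, 23, 24, 24], [26, 25, 24, 25, 25, 25], [25, 26, 26, 26, 26, 26]]
  deds := [(1, 0, 5), (1, 1, 5), (1, 2, 5), (1, 3, 5), (2, 0, 4), (2, 1, 4), (2, 2, 4), (2, 5, 4),
    (3, 0, 3), (3, 4, 3), (3, 5, 3), (4, 0, 1), (4, 3, 1), (4, 4, 1), (4, 5, 1), (5, 1, 2),
    (5, 3, 2), (5, 4, 2), (5, 5, 2), (6, 1, 2), (6, 4, 1), (6, 5, 1), (7, 1, 0), (7, 2, 0),
    (7, 3, 0), (7, 4, 0), (7, 5, 0), (8, 1, 0), (8, 2, 0), (8, 4, 0), (8, 5, 0), (9, 0, 3),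
    (9, 1, 3), (9, 2, 3), (9, 5, 3), (10, 0, 3), (10, 1, 0), (10, 5, 0), (11, 0, 4), (11, 1, 4),
    (11, 2, 4), (11, 3, 4), (12, 0, 2), (12, 1, 2), (12, 3, 2), (12, 5, 2), (13, 0, 4), (13, 1, 0),
    (13, 2, 4), (13, 3, 0), (14, 0, 5), (14, 1, 5), (14, 2, 5), (14, 3, 5), (14, 4, 5), (15, 0, 4),
    (15, 1, 4), (15, 2, 4), (16, 0, 5), (16, 1, 0), (16, 2, 5), (16, 3, 0), (16, 4, 0), (17, 0, 3),
    (17, 2, 3), (17, 4, 3), (18, 0, 5), (18, 1, 5), (18, 2, 5), (18, 3, 5), (18, 4, 2), (19, 0, 1),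
    (19, 2, 1), (19, 3, 1), (19, 4, 1), (20, 0, 5), (20, 1, 5), (20, 2, 5), (20, 3, 5), (21, 0, 5),
    (21, 1, 5), (21, 2, 1), (21, 3, 1), (22, 0, 4), (22, 1, 4), (22, 2, 4), (22, 3, 4), (22, 5, 4),
    (23, 0, 4), (23, 1, 4), (23, 2, 1), (23, 5, 1), (24, 0, 3), (24, 1, 3), (24, 4, 3), (24, 5, 3),
    (25, 1, 2), (25, 3, 2), (25, 4, 2), (25, 5, 2), (26, 1, 0), (26, 2, 0), (26, 3, 0), (26, 4, 0),
    (26, 5, 0)]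
  orbit := [[0, 0, 0, 0, 0, 1], [0, 0, 0, 0, 1, -1], [0, 0, 0, 1, -1, 0], [0, 1, 1, -1, 0, 0], [0, -1, 1, 0, 0, 0], [1, 1, -1, 0, 0, 0], [1, -1, -1, 1, 0, 0], [-1, 1, 0, 0, 0, 0],
    [-1, -1, 0, 1, 0, 0], [1, 0, 0, -1, 1, 0], [-1, 0, 1, -1, 1, 0], [1, 0, 0, 0, -1, 1], [0, 0, -1, 0, 1, 0], [-1, 0, 1, 0, -1, 1], [1, 0, 0, 0, 0, -1], [0, 0, -1, 1, -1, 1],
    [-1, 0, 1, 0, 0, -1], [0, 1, 0, -1, 0, 1], [0, 0, -1, 1, 0, -1], [0, -1, 0, 0, 0, 1], [0, 1, 0, -1, 1, -1], [0, -1, 0, 0, 1, -1], [0, 1, 0, 0, -1, 0], [0, -1, 0, 1, -1, 0],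
    [0, 0, 1, -1, 0, 0], [1, 0, -1, 0, 0, 0], [-1, 0, 0, 0, 0, 0]]

theorem levelE6_5_ok : checkLevel CoxeterMatrix.E₆ cartE6Cox levelE6_5 = true := by
  decide +kernel

theorem relE6Cox : checkRel CoxeterMatrix.E₆ cartE6Cox = true := by
  decide +kernel

theorem towerE6 : Tower CoxeterMatrix.E₆ cartE6Cox [levelE6_0, levelE6_1, levelE6_2, levelE6_3, levelE6_4, levelE6_5] where
  rel := relE6Cox
  levels := by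
    intro L hL
    simp only [List.mem_cons, List.not_mem_nil, or_false] at hL
    rcases hL with rfl | rfl | rfl | rfl | rfl | rfl
    exacts [levelE6_0_ok, levelE6_1_ok, levelE6_2_ok, levelE6_3_ok, levelE6_4_ok, levelE6_5_ok]
  widths := by decide +kernel

theorem cardE6Cox : Nat.card CoxeterMatrix.E₆.Group = 51840 := by
  rw [towerE6.spec.1]
  decide +kernel

def trajE6 : List (List (List ℤ)) :=
  [[[1, 0, 0, 0, 0, 0], [-1, 0, 1, 0, 0, 0], [0, 0, -1, 1, 0, 0], [0, -1, 0, 0, 1, 0], [-1, 0, 0, 0, 0, 1], [0, -1, -1, 1, 0, 0], [0, 0, 0, -1, 1, 0], [0, 0, 0, 0, -1, 1], [0, 0, 0, 0, 0, -1], [1, 1, 0, -1, 0, 0], [0, 0, 1, 0, -1, 0], [0, 1, 0, 0, 0, -1], [1, 0, 0, 0, 0, 0]],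
   [[0, 1, 0, 0, 0, 0], [0, -1, 0, 1, 0, 0], [-1, 0, 0, 0, 1, 0], [0, -1, -1, 1, 0, 1], [-1, -1, 0, 0, 1, 0], [0, 0, -1, 0, 0, 1], [0, -1, 0, 0, 0, 0], [0, 1, 0, -1, 0, 0], [1, 0, 0, 0, -1, 0], [0, 1, 1, -1, 0, -1], [1, 1, 0, 0, -1, 0], [0, 0, 1, 0, 0, -1], [0, 1, 0, 0, 0, 0]],
   [[0, 0, 1, 0, 0, 0], [-1, 0, 0, 1, 0, 0], [0, -1, -1, 1, 1, 0], [-1, -1, 0, 0, 1, 1], [-1, -1, -1, 1, 0, 1], [0, -1, -1, 0, 1, 0], [0, 0, 0, -1, 0, 1], [0, 0, 0, 0, -1, 0], [1, 1, 0, -1, 0, -1], [1, 1, 1, -1, -1, 0], [0, 1, 1, 0, -1, -1], [1, 1, 0, 0, 0, -1], [0, 0, 1, 0, 0, 0]],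
   [[0, 0, 0, 1, 0, 0], [-1, -1, 0, 1, 1, 0], [-1, -1, -1, 1, 1, 1], [-1, -2, -1, 1, 1, 1], [-1, -1, -1, 0, 1, 1], [0, -1, -1, 0, 0, 1], [0, 0, 0, -1, 0, 0], [1, 1, 0, -1, -1, 0], [1, 1, 1, -1, -1, -1], [1, 2, 1, -1, -1, -1], [1, 1, 1, 0, -1, -1], [0, 1, 1, 0, 0, -1], [0, 0, 0, 1, 0, 0]],
   [[0, 0, 0, 0, 1, 0], [-1, -1, 0, 1, 0, 1], [-1, -1, -1, 1, 1, 0], [0, -1, -1, 0, 1, 1], [-1, -1, 0, 0, 0, 1], [0, 0, -1, 0, 0, 0], [1, 0, 0, -1, 0, 0], [0, 1, 1, -1, -1, 0], [1, 1, 0, 0, -1, -1], [1, 1, 1, -1, 0, -1], [0, 1, 1, 0, -1, 0], [0, 0, 0, 1, 0, -1], [0, 0, 0, 0, 1, 0]],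
   [[0, 0, 0, 0, 0, 1], [-1, -1, 0, 1, 0, 0], [0, 0, -1, 0, 1, 0], [0, -1, 0, 0, 0, 1], [-1, 0, 0, 0, 0, 0], [1, 0, -1, 0, 0, 0], [0, 0, 1, -1, 0, 0], [0, 1, 0, 0, -1, 0], [1, 0, 0, 0, 0, -1], [0, 1, 1, -1, 0, 0], [0, 0, 0, 1, -1, 0], [0, 0, 0, 0, 1, -1], [0, 0, 0, 0, 0, 1]]]

theorem trajE6_ok : checkCoxElt cartE6Cox 12 trajE6 = true := by
  decide +kernel

theorem orderOfE6Cox : orderOf ((List.finRange 6).map (CoxeterMatrix.E₆ : CoxeterMatrix (Fin 6)).simple).prod = 12 :=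
  towerE6.orderOf_coxElt trajE6_ok

end CfsgLib.Twisted.Cox
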