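import Cfsg.Agent.Lib.Twisted.CoxeterOrder
import Cfsg.Prelude.Def_ChevStructure

/-! Certificate for the Coxeter group of type E7 (generated; checked by the kernel below). -/

set_option autoImplicit false

namespace CfsgLib.Twisted.Cox

def cartE7Cox : Fin 7 → Fin 7 → ℤ := fun i j =>
  (List.getD [[2, 0, -1, 0, 0, 0, 0], [0, 2, 0, -1, 0, 0, 0], [-1, 0, 2, -1, 0, 0, 0], [0, -1, -1, 2, -1, 0, 0], [0, 0, 0, -1, 2, -1, 0], [0, 0, 0, 0, -1, 2, -1], [0, 0, 0, 0, 0, -1, 2]] i.val []).getD j.val 0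

def levelE7_0 : Level where
  width := 0
  parent := [(0, 0)]
  act := [[1], [0]]
  deds := []
  orbit := [[1, 0, 0, 0, 0, 0, 0], [-1, 0, 1, 0, 0, 0, 0]]

theorem levelE7_0_ok : checkLevel CoxeterMatrix.E₇ cartE7Cox levelE7_0 = true := by
  decide +kernel

def levelE7_1 : Level where
  width := 1
  parent := [(0, 1)]
  act := [[0, 1], [1, 0]]
  deds := [(1, 0, 1)]
  orbit := [[0, 1, 0, 0, 0, 0, 0], [0, -1, 0, 1, 0, 0, 0]]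

theorem levelE7_1_ok : checkLevel CoxeterMatrix.E₇ cartE7Cox levelE7_1 = true := by
  decide +kernel

def levelE7_2 : Level where
  width := 2
  parent := [(0, 2), (1, 0)]
  act := [[0, 0, 1], [2, 1, 0], [1, 2, 2]]
  deds := [(1, 1, 2), (2, 1, 0), (2, 2, 0)]
  orbit := [[0, 0, 1, 0, 0, 0, 0], [1, 0, -1, 1, 0, 0, 0], [-1, 0, 0, 1, 0, 0, 0]]

theorem levelE7_2_ok : checkLevel CoxeterMatrix.E₇ cartE7Cox levelE7_2 = true := by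
  decide +kernel

def levelE7_3 : Level where
  width := 3
  parent := [(0, 3), (1, 1), (1, 2), (2, 2), (3, 0), (4, 0), (4, 3), (6, 3),
    (8, 2)]
  act := [[0, 0, 0, 1], [1, 2, 3, 0], [2, 1, 4, 2], [5, 4, 1, 3], [6, 3, 2, 7], [3, 6, 5, 5], [4, 5, 6, 8], [8, 7, 7, 4],
    [7, 8, 9, 6], [9, 9, 8, 9]]
  deds := [(1, 0, 3), (2, 0, 1), (2, 3, 1), (3, 1, 2), (3, 3, 2), (4, 1, 2), (5, 1, 0), (5, 2, 0),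
    (5, 3, 0), (6, 1, 0), (6, 2, 0), (7, 0, 3), (7, 1, 3), (7, 2, 3), (8, 0, 3), (8, 1, 0),
    (9, 0, 2), (9, 1, 2), (9, 3, 2)]
  orbit := [[0, 0, 0, 1, 0, 0, 0], [0, 1, 1, -1, 1, 0, 0], [0, -1, 1, 0, 1, 0, 0], [1, 1, -1, 0, 1, 0, 0], [1, -1, -1, 1, 1, 0, 0], [-1, 1, 0, 0, 1, 0, 0], [-1, -1, 0, 1, 1, 0, 0], [1, 0, 0, -1, 2, 0, 0],
    [-1, 0, 1, -1, 2, 0, 0], [0, 0, -1, 0, 2, 0, 0]]

theorem levelE7_3_ok : checkLevel CoxeterMatrix.E₇ cartE7Cox levelE7_3 = true := by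
  decide +kernel

def levelE7_4 : Level where
  width := 4
  parent := [(0, 4), (1, 3), (2, 1), (2, 2), (3, 2), (4, 0), (5, 0), (5, 3),
    (7, 3), (8, 4), (9, 2), (9, 4), (11, 4), (13, 3), (14, 1)]
  act := [[0, 0, 0, 0, 1], [1, 1, 1, 2, 0], [2, 3, 4, 1, 2], [3, 2, 5, 3, 3], [6, 5, 2, 4, 4], [7, 4, 3, 8, 5], [4, 7, 6, 6, 6], [5, 6, 7, 9, 7],
    [9, 8, 8, 5, 10], [8, 9, 11, 7, 12], [12, 10, 10, 10, 8], [11, 11, 9, 11, 13], [10, 12, 13, 12, 9], [13, 13, 12, 14, 11], [14, 15, 14, 13, 14], [15, 14, 15, 15, 15]]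
  deds := [(1, 0, 4), (1, 1, 4), (1, 2, 4), (2, 0, 3), (2, 4, 3), (3, 0, 1), (3, 3, 1), (3, 4, 1),
    (4, 1, 2), (4, 3, 2), (4, 4, 2), (5, 1, 2), (5, 4, 1), (6, 1, 0), (6, 2, 0), (6, 3, 0),
    (6, 4, 0), (7, 1, 0), (7, 2, 0), (7, 4, 0), (8, 0, 3), (8, 1, 3), (8, 2, 3), (9, 0, 3),
    (9, 1, 0), (10, 0, 4), (10, 1, 4), (10, 2, 4), (10, 3, 4), (11, 0, 2), (11, 1, 2), (11, 3, 2),
    (12, 0, 4), (12, 1, 0), (12, 2, 4), (12, 3, 0), (13, 0, 4), (13, 1, 4), (13, 2, 4), (14, 0, 3),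
    (14, 2, 3), (14, 4, 3), (15, 0, 1), (15, 2, 1), (15, 3, 1), (15, 4, 1)]
  orbit := [[0, 0, 0, 0, 1, 0, 0], [0, 0, 0, 1, -1, 1, 0], [0, 1, 1, -1, 0, 1, 0], [0, -1, 1, 0, 0, 1, 0], [1, 1, -1, 0, 0, 1, 0], [1, -1, -1, 1, 0, 1, 0], [-1, 1, 0, 0, 0, 1, 0], [-1, -1, 0, 1, 0, 1, 0],
    [1, 0, 0, -1, 1, 1, 0], [-1, 0, 1, -1, 1, 1, 0], [1, 0, 0, 0, -1, 2, 0], [0, 0, -1, 0, 1, 1, 0], [-1, 0, 1, 0, -1, 2, 0], [0, 0, -1, 1, -1, 2, 0], [0, 1, 0, -1, 0, 2, 0], [0, -1, 0, 0, 0, 2, 0]]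

theorem levelE7_4_ok : checkLevel CoxeterMatrix.E₇ cartE7Cox levelE7_4 = true := by
  decide +kernel

def levelE7_5 : Level where
  width := 5
  parent := [(0, 5), (1, 4), (2, 3), (3, 1), (3, 2), (4, 2), (5, 0), (6, 0),
    (6, 3), (8, 3), (9, 4), (10, 2), (10, 4), (11, 5), (12, 4), (13, 5),
    (15, 3), (15, 5), (17, 1), (17, 5), (19, 5), (20, 4), (21, 4), (23, 3),
    (24, 2), (25, 0)]
  act := [[0, 0, 0, 0, 0, 1], [1, 1, 1, 1, 2, 0], [2, 2, 2, 3, 1, 2], [3, 4, 5, 2, 3, 3], [4, 3, 6, 4, 4, 4], [7, 6, 3, 5, 5, 5], [8, 5, 4, 9, 6, 6], [5, 8, 7, 7, 7, 7],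
    [6, 7, 8, 10, 8, 8], [10, 9, 9, 6, 11, 9], [9, 10, 12, 8, 13, 10], [13, 11, 11, 11, 9, 14], [12, 12, 10, 12, 15, 12], [11, 13, 15, 13, 10, 16], [16, 14, 14, 14, 14, 11], [15, 15, 13, 17, 12, 18],
    [14, 16, 18, 16, 16, 13], [17, 19, 17, 15, 17, 20], [18, 18, 16, 20, 18, 15], [19, 17, 19, 19, 19, 21], [20, 21, 20, 18, 22, 17], [21, 20, 21, 21, 23, 19], [22, 23, 22, 22, 20, 22], [23, 22, 23, 24, 21, 23],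
    [24, 24, 25, 23, 24, 24], [26, 25, 24, 25, 25, 25], [25, 26, 26, 26, 26, 26]]
  deds := [(1, 0, 5), (1, 1, 5), (1, 2, 5), (1, 3, 5), (2, 0, 4), (2, 1, 4), (2, 2, 4), (2, 5, 4),
    (3, 0, 3), (3, 4, 3), (3, 5, 3), (4, 0, 1), (4, 3, 1), (4, 4, 1), (4, 5, 1), (5, 1, 2),
    (5, 3, 2), (5, 4, 2), (5, 5, 2), (6, 1, 2), (6, 4, 1), (6, 5, 1), (7, 1, 0), (7, 2, 0),
    (7, 3, 0), (7, 4, 0), (7, 5, 0), (8, 1, 0), (8, 2, 0), (8, 4, 0), (8, 5, 0), (9, 0, 3),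
    (9, 1, 3), (9, 2, 3), (9, 5, 3), (10, 0, 3), (10, 1, 0), (10, 5, 0), (11, 0, 4), (11, 1, 4),
    (11, 2, 4), (11, 3, 4), (12, 0, 2), (12, 1, 2), (12, 3, 2), (12, 5, 2), (13, 0, 4), (13, 1, 0),
    (13, 2, 4), (13, 3, 0), (14, 0, 5), (14, 1, 5), (14, 2, 5), (14, 3, 5), (14, 4, 5), (15, 0, 4),
    (15, 1, 4), (15, 2, 4), (16, 0, 5), (16, 1, 0), (16, 2, 5), (16, 3, 0), (16, 4, 0), (17, 0, 3),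
    (17, 2, 3), (17, 4, 3), (18, 0, 5), (18, 1, 5), (18, 2, 5), (18, 3, 5), (18, 4, 2), (19, 0, 1),
    (19, 2, 1), (19, 3, 1), (19, 4, 1), (20, 0, 5), (20, 1, 5), (20, 2, 5), (20, 3, 5), (21, 0, 5),
    (21, 1, 5), (21, 2, 1), (21, 3, 1), (22, 0, 4), (22, 1, 4), (22, 2, 4), (22, 3, 4), (22, 5, 4),
    (23, 0, 4), (23, 1, 4), (23, 2, 1), (23, 5, 1), (24, 0, 3), (24, 1, 3), (24, 4, 3), (24, 5, 3),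
    (25, 1, 2), (25, 3, 2), (25, 4, 2), (25, 5, 2), (26, 1, 0), (26, 2, 0), (26, 3, 0), (26, 4, 0),
    (26, 5, 0)]
  orbit := [[0, 0, 0, 0, 0, 1, 0], [0, 0, 0, 0, 1, -1, 1], [0, 0, 0, 1, -1, 0, 1], [0, 1, 1, -1, 0, 0, 1], [0, -1, 1, 0, 0, 0, 1], [1, 1, -1, 0, 0, 0, 1], [1, -1, -1, 1, 0, 0, 1], [-1, 1, 0, 0, 0, 0, 1],
    [-1, -1, 0, 1, 0, 0, 1], [1, 0, 0, -1, 1, 0, 1], [-1, 0, 1, -1, 1, 0, 1], [1, 0, 0, 0, -1, 1, 1], [0, 0, -1, 0, 1, 0, 1], [-1, 0, 1, 0, -1, 1, 1], [1, 0, 0, 0, 0, -1, 2], [0, 0, -1, 1, -1, 1, 1],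
    [-1, 0, 1, 0, 0, -1, 2], [0, 1, 0, -1, 0, 1, 1], [0, 0, -1, 1, 0, -1, 2], [0, -1, 0, 0, 0, 1, 1], [0, 1, 0, -1, 1, -1, 2], [0, -1, 0, 0, 1, -1, 2], [0, 1, 0, 0, -1, 0, 2], [0, -1, 0, 1, -1, 0, 2],
    [0, 0, 1, -1, 0, 0, 2], [1, 0, -1, 0, 0, 0, 2], [-1, 0, 0, 0, 0, 0, 2]]

theorem levelE7_5_ok : checkLevel CoxeterMatrix.E₇ cartE7Cox levelE7_5 = true := by
  decide +kernel

def levelE7_6 : Level where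
  width := 6
  parent := [(0, 6), (1, 5), (2, 4), (3, 3), (4, 1), (4, 2), (5, 2), (6, 0),
    (7, 0), (7, 3), (9, 3), (10, 4), (11, 2), (11, 4), (12, 5), (13, 4),
    (14, 5), (15, 6), (16, 3), (16, 5), (17, 6), (19, 1), (19, 5), (20, 6),
    (22, 5), (23, 4), (23, 6), (25, 4), (25, 6), (26, 6), (28, 3), (28, 6),
    (30, 5), (31, 2), (31, 6), (32, 5), (34, 0), (34, 6), (35, 5), (37, 6),
    (38, 5), (39, 4), (40, 5), (41, 4), (43, 4), (44, 3), (45, 3), (46, 1),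
    (47, 1), (47, 2), (49, 2), (51, 3), (52, 4), (53, 5), (54, 6)]
  act := [[0, 0, 0, 0, 0, 0, 1], [1, 1, 1, 1, 1, 2, 0], [2, 2, 2, 2, 3, 1, 2], [3, 3, 3, 4, 2, 3, 3], [4, 5, 6, 3, 4, 4, 4], [5, 4, 7, 5, 5, 5, 5], [8, 7, 4, 6, 6, 6, 6], [9, 6, 5, 10, 7, 7, 7],
    [6, 9, 8, 8, 8, 8, 8], [7, 8, 9, 11, 9, 9, 9], [11, 10, 10, 7, 12, 10, 10], [10, 11, 13, 9, 14, 11, 11], [14, 12, 12, 12, 10, 15, 12], [13, 13, 11, 13, 16, 13, 13], [12, 14, 16, 14, 11, 17, 14], [17, 15, 15, 15, 15, 12, 18],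
    [16, 16, 14, 19, 13, 20, 16], [15, 17, 20, 17, 17, 14, 21], [21, 18, 18, 18, 18, 18, 15], [19, 22, 19, 16, 19, 23, 19], [20, 20, 17, 23, 20, 16, 24], [18, 21, 24, 21, 21, 21, 17], [22, 19, 22, 22, 22, 25, 22], [23, 25, 23, 20, 26, 19, 27],
    [24, 24, 21, 27, 24, 24, 20], [25, 23, 25, 25, 28, 22, 29], [26, 28, 26, 26, 23, 26, 30], [27, 29, 27, 24, 30, 27, 23], [28, 26, 28, 31, 25, 28, 32], [29, 27, 29, 29, 32, 29, 25], [30, 32, 30, 30, 27, 33, 26], [31, 31, 34, 28, 31, 31, 35],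
    [32, 30, 32, 35, 29, 36, 28], [33, 36, 33, 33, 33, 30, 33], [37, 34, 31, 34, 34, 34, 38], [35, 35, 38, 32, 35, 39, 31], [36, 33, 36, 39, 36, 32, 36], [34, 37, 37, 37, 37, 37, 40], [40, 38, 35, 38, 38, 41, 34], [39, 39, 41, 36, 42, 35, 39],
    [38, 40, 40, 40, 40, 43, 37], [43, 41, 39, 41, 44, 38, 41], [42, 42, 44, 42, 39, 42, 42], [41, 43, 43, 43, 45, 40, 43], [45, 44, 42, 46, 41, 44, 44], [44, 45, 45, 47, 43, 45, 45], [47, 48, 46, 44, 46, 46, 46], [46, 49, 50, 45, 47, 47, 47],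
    [49, 46, 48, 48, 48, 48, 48], [48, 47, 51, 49, 49, 49, 49], [50, 51, 47, 50, 50, 50, 50], [51, 50, 49, 52, 51, 51, 51], [52, 52, 52, 51, 53, 52, 52], [53, 53, 53, 53, 52, 54, 53], [54, 54, 54, 54, 54, 53, 55], [55, 55, 55, 55, 55, 55, 54]]
  deds := [(1, 0, 6), (1, 1, 6), (1, 2, 6), (1, 3, 6), (1, 4, 6), (2, 0, 5), (2, 1, 5), (2, 2, 5),
    (2, 3, 5), (2, 6, 5), (3, 0, 4), (3, 1, 4), (3, 2, 4), (3, 5, 4), (3, 6, 4), (4, 0, 3),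
    (4, 4, 3), (4, 5, 3), (4, 6, 3), (5, 0, 1), (5, 3, 1), (5, 4, 1), (5, 5, 1), (5, 6, 1),
    (6, 1, 2), (6, 3, 2), (6, 4, 2), (6, 5, 2), (6, 6, 2), (7, 1, 2), (7, 4, 1), (7, 5, 1),
    (7, 6, 1), (8, 1, 0), (8, 2, 0), (8, 3, 0), (8, 4, 0), (8, 5, 0), (8, 6, 0), (9, 1, 0),
    (9, 2, 0), (9, 4, 0), (9, 5, 0), (9, 6, 0), (10, 0, 3), (10, 1, 3), (10, 2, 3), (10, 5, 3),
    (10, 6, 3), (11, 0, 3), (11, 1, 0), (11, 5, 0), (11, 6, 0), (12, 0, 4), (12, 1, 4), (12, 2, 4),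
    (12, 3, 4), (12, 6, 4), (13, 0, 2), (13, 1, 2), (13, 3, 2), (13, 5, 2), (13, 6, 2), (14, 0, 4),
    (14, 1, 0), (14, 2, 4), (14, 3, 0), (14, 6, 0), (15, 0, 5), (15, 1, 5), (15, 2, 5), (15, 3, 5),
    (15, 4, 5), (16, 0, 4), (16, 1, 4), (16, 2, 4), (16, 6, 2), (17, 0, 5), (17, 1, 0), (17, 2, 5),
    (17, 3, 0), (17, 4, 0), (18, 0, 6), (18, 1, 6), (18, 2, 6), (18, 3, 6), (18, 4, 6), (18, 5, 6),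
    (19, 0, 3), (19, 2, 3), (19, 4, 3), (19, 6, 3), (20, 0, 5), (20, 1, 5), (20, 2, 5), (20, 3, 5),
    (20, 4, 2), (21, 0, 6), (21, 1, 0), (21, 2, 6), (21, 3, 0), (21, 4, 0), (21, 5, 0), (22, 0, 1),
    (22, 2, 1), (22, 3, 1), (22, 4, 1), (22, 6, 1), (23, 0, 5), (23, 1, 5), (23, 2, 5), (23, 3, 5),
    (24, 0, 6), (24, 1, 6), (24, 2, 6), (24, 3, 6), (24, 4, 2), (24, 5, 2), (25, 0, 5), (25, 1, 5),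
    (25, 2, 1), (25, 3, 1), (26, 0, 4), (26, 1, 4), (26, 2, 4), (26, 3, 4), (26, 5, 4), (27, 0, 6),
    (27, 1, 6), (27, 2, 6), (27, 3, 6), (27, 4, 6), (27, 5, 3), (28, 0, 4), (28, 1, 4), (28, 2, 1),
    (28, 5, 1), (29, 0, 6), (29, 1, 6), (29, 2, 1), (29, 3, 1), (29, 4, 6), (29, 5, 1), (30, 0, 6),
    (30, 1, 6), (30, 2, 6), (30, 3, 6), (30, 4, 6), (31, 0, 3), (31, 1, 3), (31, 4, 3), (31, 5, 3),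
    (32, 0, 6), (32, 1, 6), (32, 2, 1), (32, 3, 6), (32, 4, 1), (33, 0, 5), (33, 1, 5), (33, 2, 5),
    (33, 3, 5), (33, 4, 5), (33, 6, 5), (34, 1, 2), (34, 3, 2), (34, 4, 2), (34, 5, 2), (35, 0, 6),
    (35, 1, 6), (35, 2, 6), (35, 3, 6), (35, 4, 3), (36, 0, 5), (36, 1, 5), (36, 2, 1), (36, 3, 5),
    (36, 4, 1), (36, 6, 1), (37, 1, 0), (37, 2, 0), (37, 3, 0), (37, 4, 0), (37, 5, 0), (38, 0, 6),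
    (38, 1, 6), (38, 2, 6), (38, 3, 2), (38, 4, 2), (39, 0, 5), (39, 1, 5), (39, 2, 5), (39, 3, 5),
    (39, 6, 3), (40, 0, 6), (40, 1, 0), (40, 2, 0), (40, 3, 0), (40, 4, 0), (41, 0, 5), (41, 1, 5),
    (41, 2, 5), (41, 3, 2), (41, 6, 2), (42, 0, 4), (42, 1, 4), (42, 2, 4), (42, 3, 4), (42, 5, 4),
    (42, 6, 4), (43, 0, 5), (43, 1, 0), (43, 2, 0), (43, 3, 0), (43, 6, 0), (44, 0, 4), (44, 1, 4),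
    (44, 2, 4), (44, 5, 2), (44, 6, 2), (45, 0, 4), (45, 1, 0), (45, 2, 0), (45, 5, 0), (45, 6, 0),
    (46, 0, 3), (46, 2, 3), (46, 4, 3), (46, 5, 3), (46, 6, 3), (47, 0, 3), (47, 4, 0), (47, 5, 0),
    (47, 6, 0), (48, 0, 1), (48, 2, 1), (48, 3, 1), (48, 4, 1), (48, 5, 1), (48, 6, 1), (49, 0, 1),
    (49, 3, 0), (49, 4, 0), (49, 5, 0), (49, 6, 0), (50, 0, 2), (50, 1, 2), (50, 3, 2), (50, 4, 2),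
    (50, 5, 2), (50, 6, 2), (51, 0, 2), (51, 1, 2), (51, 4, 1), (51, 5, 1), (51, 6, 1), (52, 0, 3),
    (52, 1, 3), (52, 2, 3), (52, 5, 3), (52, 6, 3), (53, 0, 4), (53, 1, 4), (53, 2, 4), (53, 3, 4),
    (53, 6, 4), (54, 0, 5), (54, 1, 5), (54, 2, 5), (54, 3, 5), (54, 4, 5), (55, 0, 6), (55, 1, 6),
    (55, 2, 6), (55, 3, 6), (55, 4, 6), (55, 5, 6)]
  orbit := [[0, 0, 0, 0, 0, 0, 1], [0, 0, 0, 0, 0, 1, -1], [0, 0, 0, 0, 1, -1, 0], [0, 0, 0, 1, -1, 0, 0], [0, 1, 1, -1, 0, 0, 0], [0, -1, 1, 0, 0, 0, 0], [1, 1, -1, 0, 0, 0, 0], [1, -1, -1, 1, 0, 0, 0],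
    [-1, 1, 0, 0, 0, 0, 0], [-1, -1, 0, 1, 0, 0, 0], [1, 0, 0, -1, 1, 0, 0], [-1, 0, 1, -1, 1, 0, 0], [1, 0, 0, 0, -1, 1, 0], [0, 0, -1, 0, 1, 0, 0], [-1, 0, 1, 0, -1, 1, 0], [1, 0, 0, 0, 0, -1, 1],
    [0, 0, -1, 1, -1, 1, 0], [-1, 0, 1, 0, 0, -1, 1], [1, 0, 0, 0, 0, 0, -1], [0, 1, 0, -1, 0, 1, 0], [0, 0, -1, 1, 0, -1, 1], [-1, 0, 1, 0, 0, 0, -1], [0, -1, 0, 0, 0, 1, 0], [0, 1, 0, -1, 1, -1, 1],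
    [0, 0, -1, 1, 0, 0, -1], [0, -1, 0, 0, 1, -1, 1], [0, 1, 0, 0, -1, 0, 1], [0, 1, 0, -1, 1, 0, -1], [0, -1, 0, 1, -1, 0, 1], [0, -1, 0, 0, 1, 0, -1], [0, 1, 0, 0, -1, 1, -1], [0, 0, 1, -1, 0, 0, 1],
    [0, -1, 0, 1, -1, 1, -1], [0, 1, 0, 0, 0, -1, 0], [1, 0, -1, 0, 0, 0, 1], [0, 0, 1, -1, 0, 1, -1], [0, -1, 0, 1, 0, -1, 0], [-1, 0, 0, 0, 0, 0, 1], [1, 0, -1, 0, 0, 1, -1], [0, 0, 1, -1, 1, -1, 0],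
    [-1, 0, 0, 0, 0, 1, -1], [1, 0, -1, 0, 1, -1, 0], [0, 0, 1, 0, -1, 0, 0], [-1, 0, 0, 0, 1, -1, 0], [1, 0, -1, 1, -1, 0, 0], [-1, 0, 0, 1, -1, 0, 0], [1, 1, 0, -1, 0, 0, 0], [-1, 1, 1, -1, 0, 0, 0],
    [1, -1, 0, 0, 0, 0, 0], [-1, -1, 1, 0, 0, 0, 0], [0, 1, -1, 0, 0, 0, 0], [0, -1, -1, 1, 0, 0, 0], [0, 0, 0, -1, 1, 0, 0], [0, 0, 0, 0, -1, 1, 0], [0, 0, 0, 0, 0, -1, 1], [0, 0, 0, 0, 0, 0, -1]]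

theorem levelE7_6_ok : checkLevel CoxeterMatrix.E₇ cartE7Cox levelE7_6 = true := by
  decide +kernel

theorem relE7Cox : checkRel CoxeterMatrix.E₇ cartE7Cox = true := by
  decide +kernel

theorem towerE7 : Tower CoxeterMatrix.E₇ cartE7Cox [levelE7_0, levelE7_1, levelE7_2, levelE7_3, levelE7_4, levelE7_5, levelE7_6] where
  rel := relE7Cox
  levels := by
    intro L hL
    simp only [List.mem_cons, List.not_mem_nil, or_false] at hL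
    rcases hL with rfl | rfl | rfl | rfl | rfl | rfl | rfl
    exacts [levelE7_0_ok, levelE7_1_ok, levelE7_2_ok, levelE7_3_ok, levelE7_4_ok, levelE7_5_ok, levelE7_6_ok]
  widths := by decide +kernel

theorem cardE7Cox : Nat.card CoxeterMatrix.E₇.Group = 2903040 := by
  rw [towerE7.spec.1]
  decide +kernel

def trajE7 : List (List (List ℤ)) :=
  [[[1, 0, 0, 0, 0, 0, 0], [-1, 0, 1, 0, 0, 0, 0], [0, 0, -1, 1, 0, 0, 0], [0, -1, 0, 0, 1, 0, 0], [-1, 0, 0, 0, 0, 1, 0], [0, -1, -1, 1, 0, 0, 1], [-1, -1, 0, 0, 1, 0, 0], [0, 0, -1, 0, 0, 1, 0], [0, -1, 0, 0, 0, 0, 1], [-1, 0, 0, 0, 0, 0, 0], [1, 0, -1, 0, 0, 0, 0], [0, 0, 1, -1, 0, 0, 0], [0, 1, 0, 0, -1, 0, 0], [1, 0, 0, 0, 0, -1, 0], [0, 1, 1, -1, 0, 0, -1], [1, 1, 0, 0, -1, 0, 0], [0, 0, 1, 0, 0, -1, 0], [0, 1, 0, 0, 0, 0, -1], [1, 0,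 0, 0, 0, 0, 0]],
   [[0, 1, 0, 0, 0, 0, 0], [0, -1, 0, 1, 0, 0, 0], [-1, 0, 0, 0, 1, 0, 0], [0, -1, -1, 1, 0, 1, 0], [-1, -1, 0, 0, 1, 0, 1], [-1, -1, -1, 1, 0, 1, 0], [0, -1, -1, 0, 1, 0, 1], [-1, -1, 0, 0, 0, 1, 0], [0, 0, -1, 0, 0, 0, 1], [0, -1, 0, 0, 0, 0, 0], [0, 1, 0, -1, 0, 0, 0], [1, 0, 0, 0, -1, 0, 0], [0, 1, 1, -1, 0, -1, 0], [1, 1, 0, 0, -1, 0, -1], [1, 1, 1, -1, 0, -1, 0], [0, 1, 1, 0, -1, 0, -1], [1, 1, 0, 0, 0, -1, 0], [0, 0, 1, 0, 0, 0, -1], [0, 1, 0, 0, 0, 0, 0]],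
   [[0, 0, 1, 0, 0, 0, 0], [-1, 0, 0, 1, 0, 0, 0], [0, -1, -1, 1, 1, 0, 0], [-1, -1, 0, 0, 1, 1, 0], [-1, -1, -1, 1, 0, 1, 1], [-1, -2, -1, 1, 1, 0, 1], [-1, -1, -1, 0, 1, 1, 0], [0, -1, -1, 0, 0, 1, 1], [-1, -1, 0, 0, 0, 0, 1], [0, 0, -1, 0, 0, 0, 0], [1, 0, 0, -1, 0, 0, 0], [0, 1, 1, -1, -1, 0, 0], [1, 1, 0, 0, -1, -1, 0], [1, 1, 1, -1, 0, -1, -1], [1, 2, 1, -1, -1, 0, -1], [1, 1, 1, 0, -1, -1, 0], [0, 1, 1, 0, 0, -1, -1], [1, 1, 0, 0, 0, 0, -1], [0, 0, 1, 0, 0, 0, 0]],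
   [[0, 0, 0, 1, 0, 0, 0], [-1, -1, 0, 1, 1, 0, 0], [-1, -1, -1, 1, 1, 1, 0], [-1, -2, -1, 1, 1, 1, 1], [-2, -2, -1, 1, 1, 1, 1], [-1, -2, -2, 1, 1, 1, 1], [-1, -2, -1, 0, 1, 1, 1], [-1, -1, -1, 0, 0, 1, 1], [0, -1, -1, 0, 0, 0, 1], [0, 0, 0, -1, 0, 0, 0], [1, 1, 0, -1, -1, 0, 0], [1, 1, 1, -1, -1, -1, 0], [1, 2, 1, -1, -1, -1, -1], [2, 2, 1, -1, -1, -1, -1], [1, 2, 2, -1, -1, -1, -1], [1, 2, 1, 0, -1, -1, -1], [1, 1, 1, 0, 0, -1, -1], [0, 1, 1, 0, 0, 0, -1], [0, 0, 0, 1, 0, 0, 0]],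
   [[0, 0, 0, 0, 1, 0, 0], [-1, -1, 0, 1, 0, 1, 0], [-1, -1, -1, 1, 1, 0, 1], [-1, -2, -1, 1, 1, 1, 0], [-1, -1, -1, 0, 1, 1, 1], [-1, -2, -1, 1, 0, 1, 1], [-1, -1, -1, 0, 1, 0, 1], [0, -1, -1, 0, 0, 1, 0], [0, 0, 0, -1, 0, 0, 1], [0, 0, 0, 0, -1, 0, 0], [1, 1, 0, -1, 0, -1, 0], [1, 1, 1, -1, -1, 0, -1], [1, 2, 1, -1, -1, -1, 0], [1, 1, 1, 0, -1, -1, -1], [1, 2, 1, -1, 0, -1, -1], [1, 1, 1, 0, -1, 0, -1], [0, 1, 1, 0, 0, -1, 0], [0, 0, 0, 1, 0, 0, -1], [0, 0, 0, 0, 1, 0, 0]],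
   [[0, 0, 0, 0, 0, 1, 0], [-1, -1, 0, 1, 0, 0, 1], [-1, -1, -1, 1, 1, 0, 0], [0, -1, -1, 0, 1, 1, 0], [-1, -1, 0, 0, 0, 1, 1], [-1, -1, -1, 1, 0, 0, 1], [0, -1, -1, 0, 1, 0, 0], [0, 0, 0, -1, 0, 1, 0], [0, 0, 0, 0, -1, 0, 1], [0, 0, 0, 0, 0, -1, 0], [1, 1, 0, -1, 0, 0, -1], [1, 1, 1, -1, -1, 0, 0], [0, 1, 1, 0, -1, -1, 0], [1, 1, 0, 0, 0, -1, -1], [1, 1, 1, -1, 0, 0, -1], [0, 1, 1, 0, -1, 0, 0], [0, 0, 0, 1, 0, -1, 0], [0, 0, 0, 0, 1, 0, -1], [0, 0, 0, 0, 0, 1, 0]],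
   [[0, 0, 0, 0, 0, 0, 1], [-1, -1, 0, 1, 0, 0, 0], [0, 0, -1, 0, 1, 0, 0], [0, -1, 0, 0, 0, 1, 0], [-1, 0, 0, 0, 0, 0, 1], [0, -1, -1, 1, 0, 0, 0], [0, 0, 0, -1, 1, 0, 0], [0, 0, 0, 0, -1, 1, 0], [0, 0, 0, 0, 0, -1, 1], [0, 0, 0, 0, 0, 0, -1], [1, 1, 0, -1, 0, 0, 0], [0, 0, 1, 0, -1, 0, 0], [0, 1, 0, 0, 0, -1, 0], [1, 0, 0, 0, 0, 0, -1], [0, 1, 1, -1, 0, 0, 0], [0, 0, 0, 1, -1, 0, 0], [0, 0, 0, 0, 1, -1, 0], [0, 0, 0, 0, 0, 1, -1], [0, 0, 0, 0, 0, 0, 1]]]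

theorem trajE7_ok : checkCoxElt cartE7Cox 18 trajE7 = true := by
  decide +kernel

theorem orderOfE7Cox : orderOf ((List.finRange 7).map (CoxeterMatrix.E₇ : CoxeterMatrix (Fin 7)).simple).prod = 18 :=
  towerE7.orderOf_coxElt trajE7_ok

end CfsgLib.Twisted.Cox
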