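import Cfsg.Agent.Lib.Twisted.CoxeterOrder
import Cfsg.Prelude.Def_ChevStructure

/-! Certificate for the Coxeter group of type E8 (generated; checked by the kernel below). -/

set_option autoImplicit false

namespace CfsgLib.Twisted.Cox

def cartE8Cox : Fin 8 → Fin 8 → ℤ := fun i j =>
  (List.getD [[2, 0, -1, 0, 0, 0, 0, 0], [0, 2, 0, -1, 0, 0, 0, 0], [-1, 0, 2, -1, 0, 0, 0, 0], [0, -1, -1, 2, -1, 0, 0, 0], [0, 0, 0, -1, 2, -1, 0, 0], [0, 0, 0, 0, -1, 2, -1, 0], [0, 0, 0, 0, 0, -1, 2, -1], [0, 0, 0, 0, 0, 0, -1, 2]] i.val []).getD j.val 0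

def levelE8_0 : Level where
  width := 0
  parent := [(0, 0)]
  act := [[1], [0]]
  deds := []
  orbit := [[1, 0, 0, 0, 0, 0, 0, 0], [-1, 0, 1, 0, 0, 0, 0, 0]]

theorem levelE8_0_ok : checkLevel CoxeterMatrix.E₈ cartE8Cox levelE8_0 = true := by
  decide +kernel

def levelE8_1 : Level where
  width := 1
  parent := [(0, 1)]
  act := [[0, 1], [1, 0]]
  deds := [(1, 0, 1)]
  orbit := [[0, 1, 0, 0, 0, 0, 0, 0], [0, -1, 0, 1, 0, 0, 0, 0]]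

theorem levelE8_1_ok : checkLevel CoxeterMatrix.E₈ cartE8Cox levelE8_1 = true := by
  decide +kernel

def levelE8_2 : Level where
  width := 2
  parent := [(0, 2), (1, 0)]
  act := [[0, 0, 1], [2, 1, 0], [1, 2, 2]]
  deds := [(1, 1, 2), (2, 1, 0), (2, 2, 0)]
  orbit := [[0, 0, 1, 0, 0, 0, 0, 0], [1, 0, -1, 1, 0, 0, 0, 0], [-1, 0, 0, 1, 0, 0, 0, 0]]

theorem levelE8_2_ok : checkLevel CoxeterMatrix.E₈ cartE8Cox levelE8_2 = true := by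
  decide +kernel

def levelE8_3 : Level where
  width := 3
  parent := [(0, 3), (1, 1), (1, 2), (2, 2), (3, 0), (4, 0), (4, 3), (6, 3),
    (8, 2)]
  act := [[0, 0, 0, 1], [1, 2, 3, 0], [2, 1, 4, 2], [5, 4, 1, 3], [6, 3, 2, 7], [3, 6, 5, 5], [4, 5, 6, 8], [8, 7, 7, 4],
    [7, 8, 9, 6], [9, 9, 8, 9]]
  deds := [(1, 0, 3), (2, 0, 1), (2, 3, 1), (3, 1, 2), (3, 3, 2), (4, 1, 2), (5, 1, 0), (5, 2, 0),
    (5, 3, 0), (6, 1, 0), (6, 2, 0), (7, 0, 3), (7, 1, 3), (7, 2, 3), (8, 0, 3), (8, 1, 0),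
    (9, 0, 2), (9, 1, 2), (9, 3, 2)]
  orbit := [[0, 0, 0, 1, 0, 0, 0, 0], [0, 1, 1, -1, 1, 0, 0, 0], [0, -1, 1, 0, 1, 0, 0, 0], [1, 1, -1, 0, 1, 0, 0, 0], [1, -1, -1, 1, 1, 0, 0, 0], [-1, 1, 0, 0, 1, 0, 0, 0], [-1, -1, 0, 1, 1, 0, 0, 0], [1, 0, 0, -1, 2, 0, 0, 0],
    [-1, 0, 1, -1, 2, 0, 0, 0], [0, 0, -1, 0, 2, 0, 0, 0]]

theorem levelE8_3_ok : checkLevel CoxeterMatrix.E₈ cartE8Cox levelE8_3 = true := by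
  decide +kernel

def levelE8_4 : Level where
  width := 4
  parent := [(0, 4), (1, 3), (2, 1), (2, 2), (3, 2), (4, 0), (5, 0), (5, 3),
    (7, 3), (8, 4), (9, 2), (9, 4), (11, 4), (13, 3), (14, 1)]
  act := [[0, 0, 0, 0, 1], [1, 1, 1, 2, 0], [2, 3, 4, 1, 2], [3, 2, 5, 3, 3], [6, 5, 2, 4, 4], [7, 4, 3, 8, 5], [4, 7, 6, 6, 6], [5, 6, 7, 9, 7],
    [9, 8, 8, 5, 10], [8, 9, 11, 7, 12], [12, 10, 10, 10, 8], [11, 11, 9, 11, 13], [10, 12, 13, 12, 9], [13, 13, 12, 14, 11], [14, 15, 14, 13, 14], [15, 14, 15, 15, 15]]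
  deds := [(1, 0, 4), (1, 1, 4), (1, 2, 4), (2, 0, 3), (2, 4, 3), (3, 0, 1), (3, 3, 1), (3, 4, 1),
    (4, 1, 2), (4, 3, 2), (4, 4, 2), (5, 1, 2), (5, 4, 1), (6, 1, 0), (6, 2, 0), (6, 3, 0),
    (6, 4, 0), (7, 1, 0), (7, 2, 0), (7, 4, 0), (8, 0, 3), (8, 1, 3), (8, 2, 3), (9, 0, 3),
    (9, 1, 0), (10, 0, 4), (10, 1, 4), (10, 2, 4), (10, 3, 4), (11, 0, 2), (11, 1, 2), (11, 3, 2),
    (12, 0, 4), (12, 1, 0), (12, 2, 4), (12, 3, 0), (13, 0, 4), (13, 1, 4), (13, 2, 4), (14, 0, 3),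
    (14, 2, 3), (14, 4, 3), (15, 0, 1), (15, 2, 1), (15, 3, 1), (15, 4, 1)]
  orbit := [[0, 0, 0, 0, 1, 0, 0, 0], [0, 0, 0, 1, -1, 1, 0, 0], [0, 1, 1, -1, 0, 1, 0, 0], [0, -1, 1, 0, 0, 1, 0, 0], [1, 1, -1, 0, 0, 1, 0, 0], [1, -1, -1, 1, 0, 1, 0, 0], [-1, 1, 0, 0, 0, 1, 0, 0], [-1, -1, 0, 1, 0, 1, 0, 0],
    [1, 0, 0, -1, 1, 1, 0, 0], [-1, 0, 1, -1, 1, 1, 0, 0], [1, 0, 0, 0, -1, 2, 0, 0], [0, 0, -1, 0, 1, 1, 0, 0], [-1, 0, 1, 0, -1, 2, 0, 0], [0, 0, -1, 1, -1, 2, 0, 0], [0, 1, 0, -1, 0, 2, 0, 0], [0, -1, 0, 0, 0, 2, 0, 0]]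

theorem levelE8_4_ok : checkLevel CoxeterMatrix.E₈ cartE8Cox levelE8_4 = true := by
  decide +kernel

def levelE8_5 : Level where
  width := 5
  parent := [(0, 5), (1, 4), (2, 3), (3, 1), (3, 2), (4, 2), (5, 0), (6, 0),
    (6, 3), (8, 3), (9, 4), (10, 2), (10, 4), (11, 5), (12, 4), (13, 5),
    (15, 3), (15, 5), (17, 1), (17, 5), (19, 5), (20, 4), (21, 4), (23, 3),
    (24, 2), (25, 0)]
  act := [[0, 0, 0, 0, 0, 1], [1, 1, 1, 1, 2, 0], [2, 2, 2, 3, 1, 2], [3, 4, 5, 2, 3, 3], [4, 3, 6, 4, 4, 4], [7, 6, 3, 5, 5, 5], [8, 5, 4, 9, 6, 6], [5, 8, 7, 7, 7, 7],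
    [6, 7, 8, 10, 8, 8], [10, 9, 9, 6, 11, 9], [9, 10, 12, 8, 13, 10], [13, 11, 11, 11, 9, 14], [12, 12, 10, 12, 15, 12], [11, 13, 15, 13, 10, 16], [16, 14, 14, 14, 14, 11], [15, 15, 13, 17, 12, 18],
    [14, 16, 18, 16, 16, 13], [17, 19, 17, 15, 17, 20], [18, 18, 16, 20, 18, 15], [19, 17, 19, 19, 19, 21], [20, 21, 20, 18, 22, 17], [21, 20, 21, 21, 23, 19], [22, 23, 22, 22, 20, 22], [23, 22, 23, 24, 21, 23],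
    [24, 24, 25, 23, 24, 24], [26, 25, 24, 25, 25, 25], [25, 26, 26, 26, 26, 26]]
  deds := [(1, 0, 5), (1, 1, 5), (1, 2, 5), (1, 3, 5), (2, 0, 4), (2, 1, 4), (2, 2, 4), (2, 5, 4),
    (3, 0, 3), (3, 4, 3), (3, 5, 3), (4, 0, 1), (4, 3, 1), (4, 4, 1), (4, 5, 1), (5, 1, 2),
    (5, 3, 2), (5, 4, 2), (5, 5, 2), (6, 1, 2), (6, 4, 1), (6, 5, 1), (7, 1, 0), (7, 2, 0),
    (7, 3, 0), (7, 4, 0), (7, 5, 0), (8, 1, 0), (8, 2, 0), (8, 4, 0), (8, 5, 0), (9, 0, 3),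
    (9, 1, 3), (9, 2, 3), (9, 5, 3), (10, 0, 3), (10, 1, 0), (10, 5, 0), (11, 0, 4), (11, 1, 4),
    (11, 2, 4), (11, 3, 4), (12, 0, 2), (12, 1, 2), (12, 3, 2), (12, 5, 2), (13, 0, 4), (13, 1, 0),
    (13, 2, 4), (13, 3, 0), (14, 0, 5), (14, 1, 5), (14, 2, 5), (14, 3, 5), (14, 4, 5), (15, 0, 4),
    (15, 1, 4), (15, 2, 4), (16, 0, 5), (16, 1, 0), (16, 2, 5), (16, 3, 0), (16, 4, 0), (17, 0, 3),
    (17, 2, 3), (17, 4, 3), (18, 0, 5), (18, 1, 5), (18, 2, 5), (18, 3, 5), (18, 4, 2), (19, 0, 1),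
    (19, 2, 1), (19, 3, 1), (19, 4, 1), (20, 0, 5), (20, 1, 5), (20, 2, 5), (20, 3, 5), (21, 0, 5),
    (21, 1, 5), (21, 2, 1), (21, 3, 1), (22, 0, 4), (22, 1, 4), (22, 2, 4), (22, 3, 4), (22, 5, 4),
    (23, 0, 4), (23, 1, 4), (23, 2, 1), (23, 5, 1), (24, 0, 3), (24, 1, 3), (24, 4, 3), (24, 5, 3),
    (25, 1, 2), (25, 3, 2), (25, 4, 2), (25, 5, 2), (26, 1, 0), (26, 2, 0), (26, 3, 0), (26, 4, 0),
    (26, 5, 0)]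
  orbit := [[0, 0, 0, 0, 0, 1, 0, 0], [0, 0, 0, 0, 1, -1, 1, 0], [0, 0, 0, 1, -1, 0, 1, 0], [0, 1, 1, -1, 0, 0, 1, 0], [0, -1, 1, 0, 0, 0, 1, 0], [1, 1, -1, 0, 0, 0, 1, 0], [1, -1, -1, 1, 0, 0, 1, 0], [-1, 1, 0, 0, 0, 0, 1, 0],
    [-1, -1, 0, 1, 0, 0, 1, 0], [1, 0, 0, -1, 1, 0, 1, 0], [-1, 0, 1, -1, 1, 0, 1, 0], [1, 0, 0, 0, -1, 1, 1, 0], [0, 0, -1, 0, 1, 0, 1, 0], [-1, 0, 1, 0, -1, 1, 1, 0], [1, 0, 0, 0, 0, -1, 2, 0], [0, 0, -1, 1, -1, 1, 1, 0],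
    [-1, 0, 1, 0, 0, -1, 2, 0], [0, 1, 0, -1, 0, 1, 1, 0], [0, 0, -1, 1, 0, -1, 2, 0], [0, -1, 0, 0, 0, 1, 1, 0], [0, 1, 0, -1, 1, -1, 2, 0], [0, -1, 0, 0, 1, -1, 2, 0], [0, 1, 0, 0, -1, 0, 2, 0], [0, -1, 0, 1, -1, 0, 2, 0],
    [0, 0, 1, -1, 0, 0, 2, 0], [1, 0, -1, 0, 0, 0, 2, 0], [-1, 0, 0, 0, 0, 0, 2, 0]]

theorem levelE8_5_ok : checkLevel CoxeterMatrix.E₈ cartE8Cox levelE8_5 = true := by
  decide +kernel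

def levelE8_6 : Level where
  width := 6
  parent := [(0, 6), (1, 5), (2, 4), (3, 3), (4, 1), (4, 2), (5, 2), (6, 0),
    (7, 0), (7, 3), (9, 3), (10, 4), (11, 2), (11, 4), (12, 5), (13, 4),
    (14, 5), (15, 6), (16, 3), (16, 5), (17, 6), (19, 1), (19, 5), (20, 6),
    (22, 5), (23, 4), (23, 6), (25, 4), (25, 6), (26, 6), (28, 3), (28, 6),
    (30, 5), (31, 2), (31, 6), (32, 5), (34, 0), (34, 6), (35, 5), (37, 6),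
    (38, 5), (39, 4), (40, 5), (41, 4), (43, 4), (44, 3), (45, 3), (46, 1),
    (47, 1), (47, 2), (49, 2), (51, 3), (52, 4), (53, 5), (54, 6)]
  act := [[0, 0, 0, 0, 0, 0, 1], [1, 1, 1, 1, 1, 2, 0], [2, 2, 2, 2, 3, 1, 2], [3, 3, 3, 4, 2, 3, 3], [4, 5, 6, 3, 4, 4, 4], [5, 4, 7, 5, 5, 5, 5], [8, 7, 4, 6, 6, 6, 6], [9, 6, 5, 10, 7, 7, 7],
    [6, 9, 8, 8, 8, 8, 8], [7, 8, 9, 11, 9, 9, 9], [11, 10, 10, 7, 12, 10, 10], [10, 11, 13, 9, 14, 11, 11], [14, 12, 12, 12, 10, 15, 12], [13, 13, 11, 13, 16, 13, 13], [12, 14, 16, 14, 11, 17, 14], [17, 15, 15, 15, 15, 12, 18],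
    [16, 16, 14, 19, 13, 20, 16], [15, 17, 20, 17, 17, 14, 21], [21, 18, 18, 18, 18, 18, 15], [19, 22, 19, 16, 19, 23, 19], [20, 20, 17, 23, 20, 16, 24], [18, 21, 24, 21, 21, 21, 17], [22, 19, 22, 22, 22, 25, 22], [23, 25, 23, 20, 26, 19, 27],
    [24, 24, 21, 27, 24, 24, 20], [25, 23, 25, 25, 28, 22, 29], [26, 28, 26, 26, 23, 26, 30], [27, 29, 27, 24, 30, 27, 23], [28, 26, 28, 31, 25, 28, 32], [29, 27, 29, 29, 32, 29, 25], [30, 32, 30, 30, 27, 33, 26], [31, 31, 34, 28, 31, 31, 35],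
    [32, 30, 32, 35, 29, 36, 28], [33, 36, 33, 33, 33, 30, 33], [37, 34, 31, 34, 34, 34, 38], [35, 35, 38, 32, 35, 39, 31], [36, 33, 36, 39, 36, 32, 36], [34, 37, 37, 37, 37, 37, 40], [40, 38, 35, 38, 38, 41, 34], [39, 39, 41, 36, 42, 35, 39],
    [38, 40, 40, 40, 40, 43, 37], [43, 41, 39, 41, 44, 38, 41], [42, 42, 44, 42, 39, 42, 42], [41, 43, 43, 43, 45, 40, 43], [45, 44, 42, 46, 41, 44, 44], [44, 45, 45, 47, 43, 45, 45], [47, 48, 46, 44, 46, 46, 46], [46, 49, 50, 45, 47, 47, 47],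
    [49, 46, 48, 48, 48, 48, 48], [48, 47, 51, 49, 49, 49, 49], [50, 51, 47, 50, 50, 50, 50], [51, 50, 49, 52, 51, 51, 51], [52, 52, 52, 51, 53, 52, 52], [53, 53, 53, 53, 52, 54, 53], [54, 54, 54, 54, 54, 53, 55], [55, 55, 55, 55, 55, 55, 54]]
  deds := [(1, 0, 6), (1, 1, 6), (1, 2, 6), (1, 3, 6), (1, 4, 6), (2, 0, 5), (2, 1, 5), (2, 2, 5),
    (2, 3, 5), (2, 6, 5), (3, 0, 4), (3, 1, 4), (3, 2, 4), (3, 5, 4), (3, 6, 4), (4, 0, 3),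
    (4, 4, 3), (4, 5, 3), (4, 6, 3), (5, 0, 1), (5, 3, 1), (5, 4, 1), (5, 5, 1), (5, 6, 1),
    (6, 1, 2), (6, 3, 2), (6, 4, 2), (6, 5, 2), (6, 6, 2), (7, 1, 2), (7, 4, 1), (7, 5, 1),
    (7, 6, 1), (8, 1, 0), (8, 2, 0), (8, 3, 0), (8, 4, 0), (8, 5, 0), (8, 6, 0), (9, 1, 0),
    (9, 2, 0), (9, 4, 0), (9, 5, 0), (9, 6, 0), (10, 0, 3), (10, 1, 3), (10, 2, 3), (10, 5, 3),
    (10, 6, 3), (11, 0, 3), (11, 1, 0), (11, 5, 0), (11, 6, 0), (12, 0, 4), (12, 1, 4), (12, 2, 4),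
    (12, 3, 4), (12, 6, 4), (13, 0, 2), (13, 1, 2), (13, 3, 2), (13, 5, 2), (13, 6, 2), (14, 0, 4),
    (14, 1, 0), (14, 2, 4), (14, 3, 0), (14, 6, 0), (15, 0, 5), (15, 1, 5), (15, 2, 5), (15, 3, 5),
    (15, 4, 5), (16, 0, 4), (16, 1, 4), (16, 2, 4), (16, 6, 2), (17, 0, 5), (17, 1, 0), (17, 2, 5),
    (17, 3, 0), (17, 4, 0), (18, 0, 6), (18, 1, 6), (18, 2, 6), (18, 3, 6), (18, 4, 6), (18, 5, 6),
    (19, 0, 3), (19, 2, 3), (19, 4, 3), (19, 6, 3), (20, 0, 5), (20, 1, 5), (20, 2, 5), (20, 3, 5),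
    (20, 4, 2), (21, 0, 6), (21, 1, 0), (21, 2, 6), (21, 3, 0), (21, 4, 0), (21, 5, 0), (22, 0, 1),
    (22, 2, 1), (22, 3, 1), (22, 4, 1), (22, 6, 1), (23, 0, 5), (23, 1, 5), (23, 2, 5), (23, 3, 5),
    (24, 0, 6), (24, 1, 6), (24, 2, 6), (24, 3, 6), (24, 4, 2), (24, 5, 2), (25, 0, 5), (25, 1, 5),
    (25, 2, 1), (25, 3, 1), (26, 0, 4), (26, 1, 4), (26, 2, 4), (26, 3, 4), (26, 5, 4), (27, 0, 6),
    (27, 1, 6), (27, 2, 6), (27, 3, 6), (27, 4, 6), (27, 5, 3), (28, 0, 4), (28, 1, 4), (28, 2, 1),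
    (28, 5, 1), (29, 0, 6), (29, 1, 6), (29, 2, 1), (29, 3, 1), (29, 4, 6), (29, 5, 1), (30, 0, 6),
    (30, 1, 6), (30, 2, 6), (30, 3, 6), (30, 4, 6), (31, 0, 3), (31, 1, 3), (31, 4, 3), (31, 5, 3),
    (32, 0, 6), (32, 1, 6), (32, 2, 1), (32, 3, 6), (32, 4, 1), (33, 0, 5), (33, 1, 5), (33, 2, 5),
    (33, 3, 5), (33, 4, 5), (33, 6, 5), (34, 1, 2), (34, 3, 2), (34, 4, 2), (34, 5, 2), (35, 0, 6),
    (35, 1, 6), (35, 2, 6), (35, 3, 6), (35, 4, 3), (36, 0, 5), (36, 1, 5), (36, 2, 1), (36, 3, 5),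
    (36, 4, 1), (36, 6, 1), (37, 1, 0), (37, 2, 0), (37, 3, 0), (37, 4, 0), (37, 5, 0), (38, 0, 6),
    (38, 1, 6), (38, 2, 6), (38, 3, 2), (38, 4, 2), (39, 0, 5), (39, 1, 5), (39, 2, 5), (39, 3, 5),
    (39, 6, 3), (40, 0, 6), (40, 1, 0), (40, 2, 0), (40, 3, 0), (40, 4, 0), (41, 0, 5), (41, 1, 5),
    (41, 2, 5), (41, 3, 2), (41, 6, 2), (42, 0, 4), (42, 1, 4), (42, 2, 4), (42, 3, 4), (42, 5, 4),
    (42, 6, 4), (43, 0, 5), (43, 1, 0), (43, 2, 0), (43, 3, 0), (43, 6, 0), (44, 0, 4), (44, 1, 4),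
    (44, 2, 4), (44, 5, 2), (44, 6, 2), (45, 0, 4), (45, 1, 0), (45, 2, 0), (45, 5, 0), (45, 6, 0),
    (46, 0, 3), (46, 2, 3), (46, 4, 3), (46, 5, 3), (46, 6, 3), (47, 0, 3), (47, 4, 0), (47, 5, 0),
    (47, 6, 0), (48, 0, 1), (48, 2, 1), (48, 3, 1), (48, 4, 1), (48, 5, 1), (48, 6, 1), (49, 0, 1),
    (49, 3, 0), (49, 4, 0), (49, 5, 0), (49, 6, 0), (50, 0, 2), (50, 1, 2), (50, 3, 2), (50, 4, 2),
    (50, 5, 2), (50, 6, 2), (51, 0, 2), (51, 1, 2), (51, 4, 1), (51, 5, 1), (51, 6, 1), (52, 0, 3),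
    (52, 1, 3), (52, 2, 3), (52, 5, 3), (52, 6, 3), (53, 0, 4), (53, 1, 4), (53, 2, 4), (53, 3, 4),
    (53, 6, 4), (54, 0, 5), (54, 1, 5), (54, 2, 5), (54, 3, 5), (54, 4, 5), (55, 0, 6), (55, 1, 6),
    (55, 2, 6), (55, 3, 6), (55, 4, 6), (55, 5, 6)]
  orbit := [[0, 0, 0, 0, 0, 0, 1, 0], [0, 0, 0, 0, 0, 1, -1, 1], [0, 0, 0, 0, 1, -1, 0, 1], [0, 0, 0, 1, -1, 0, 0, 1], [0, 1, 1, -1, 0, 0, 0, 1], [0, -1, 1, 0, 0, 0, 0, 1], [1, 1, -1, 0, 0, 0, 0, 1], [1, -1, -1, 1, 0, 0, 0, 1],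
    [-1, 1, 0, 0, 0, 0, 0, 1], [-1, -1, 0, 1, 0, 0, 0, 1], [1, 0, 0, -1, 1, 0, 0, 1], [-1, 0, 1, -1, 1, 0, 0, 1], [1, 0, 0, 0, -1, 1, 0, 1], [0, 0, -1, 0, 1, 0, 0, 1], [-1, 0, 1, 0, -1, 1, 0, 1], [1, 0, 0, 0, 0, -1, 1, 1],
    [0, 0, -1, 1, -1, 1, 0, 1], [-1, 0, 1, 0, 0, -1, 1, 1], [1, 0, 0, 0, 0, 0, -1, 2], [0, 1, 0, -1, 0, 1, 0, 1], [0, 0, -1, 1, 0, -1, 1, 1], [-1, 0, 1, 0, 0, 0, -1, 2], [0, -1, 0, 0, 0, 1, 0, 1], [0, 1, 0, -1, 1, -1, 1, 1],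
    [0, 0, -1, 1, 0, 0, -1, 2], [0, -1, 0, 0, 1, -1, 1, 1], [0, 1, 0, 0, -1, 0, 1, 1], [0, 1, 0, -1, 1, 0, -1, 2], [0, -1, 0, 1, -1, 0, 1, 1], [0, -1, 0, 0, 1, 0, -1, 2], [0, 1, 0, 0, -1, 1, -1, 2], [0, 0, 1, -1, 0, 0, 1, 1],
    [0, -1, 0, 1, -1, 1, -1, 2], [0, 1, 0, 0, 0, -1, 0, 2], [1, 0, -1, 0, 0, 0, 1, 1], [0, 0, 1, -1, 0, 1, -1, 2], [0, -1, 0, 1, 0, -1, 0, 2], [-1, 0, 0, 0, 0, 0, 1, 1], [1, 0, -1, 0, 0, 1, -1, 2], [0, 0, 1, -1, 1, -1, 0, 2],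
    [-1, 0, 0, 0, 0, 1, -1, 2], [1, 0, -1, 0, 1, -1, 0, 2], [0, 0, 1, 0, -1, 0, 0, 2], [-1, 0, 0, 0, 1, -1, 0, 2], [1, 0, -1, 1, -1, 0, 0, 2], [-1, 0, 0, 1, -1, 0, 0, 2], [1, 1, 0, -1, 0, 0, 0, 2], [-1, 1, 1, -1, 0, 0, 0, 2],
    [1, -1, 0, 0, 0, 0, 0, 2], [-1, -1, 1, 0, 0, 0, 0, 2], [0, 1, -1, 0, 0, 0, 0, 2], [0, -1, -1, 1, 0, 0, 0, 2], [0, 0, 0, -1, 1, 0, 0, 2], [0, 0, 0, 0, -1, 1, 0, 2], [0, 0, 0, 0, 0, -1, 1, 2], [0, 0, 0, 0, 0, 0, -1, 3]]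

theorem levelE8_6_ok : checkLevel CoxeterMatrix.E₈ cartE8Cox levelE8_6 = true := by
  decide +kernel

def levelE8_7 : Level where
  width := 7
  parent := [(0, 7), (1, 6), (2, 5), (3, 4), (4, 3), (5, 1), (5, 2), (6, 2),
    (7, 0), (8, 0), (8, 3), (10, 3), (11, 4), (12, 2), (12, 4), (13, 5),
    (14, 4), (15, 5), (16, 6), (17, 3), (17, 5), (18, 6), (19, 7), (20, 1),
    (20, 5), (21, 6), (22, 7), (24, 5), (25, 4), (25, 6), (26, 7), (28, 4),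
    (28, 6), (29, 6), (30, 7), (32, 3), (32, 6), (33, 7), (34, 5), (34, 7),
    (36, 2), (36, 6), (37, 5), (37, 7), (39, 7), (41, 0), (41, 6), (42, 5),
    (42, 7), (43, 7), (45, 6), (46, 6), (47, 5), (47, 7), (48, 4), (48, 7),
    (50, 6), (52, 5), (52, 7), (53, 4), (53, 7), (55, 7), (56, 6), (58, 4),
    (58, 7), (60, 3), (60, 7), (61, 6), (62, 6), (64, 3), (64, 7), (65, 6),
    (66, 1), (66, 7), (67, 6), (69, 5), (70, 1), (70, 2), (70, 7), (71, 6),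
    (73, 7), (74, 6), (75, 5), (77, 2), (77, 7), (78, 7), (79, 6), (80, 5),
    (81, 6), (82, 5), (84, 3), (84, 7), (85, 6), (86, 6), (87, 5), (89, 5),
    (90, 4), (91, 4), (91, 7), (92, 6), (93, 5), (94, 5), (95, 4), (96, 4),
    (98, 5), (98, 7), (99, 6), (100, 5), (101, 4), (102, 4), (104, 3), (105, 6),
    (105, 7), (106, 6), (107, 5), (108, 4), (109, 3), (110, 3), (111, 2), (112, 7),
    (113, 6), (114, 5), (115, 4), (116, 3), (117, 2), (118, 1), (119, 0), (120, 6),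
    (121, 5), (122, 4), (123, 3), (124, 1), (124, 2), (125, 0), (128, 5), (129, 4),
    (130, 3), (131, 1), (131, 2), (132, 2), (133, 0), (135, 4), (136, 3), (137, 1),
    (137, 2), (138, 2), (139, 0), (140, 0), (142, 3), (143, 1), (143, 2), (144, 2),
    (145, 0), (146, 0), (146, 3), (149, 1), (149, 2), (150, 2), (151, 0), (152, 0),
    (152, 3), (154, 3), (156, 2), (157, 0), (158, 0), (158, 3), (160, 3), (161, 4),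
    (162, 2), (163, 0), (163, 3), (165, 3), (166, 4), (167, 2), (167, 4), (170, 3),
    (171, 4), (172, 2), (172, 4), (173, 5), (174, 4), (176, 2), (176, 4), (177, 5),
    (178, 4), (179, 5), (181, 3), (182, 4), (183, 5), (184, 6), (185, 3), (185, 5),
    (187, 1), (188, 3), (188, 5), (189, 6), (191, 1), (191, 5), (194, 1), (194, 5),
    (195, 6), (197, 5), (198, 4), (199, 5), (200, 4), (200, 6), (202, 4), (204, 4),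
    (204, 6), (205, 6), (207, 3), (208, 3), (208, 6), (210, 5), (211, 2), (212, 2),
    (212, 6), (213, 5), (215, 0), (216, 0), (216, 6), (217, 5), (220, 6), (221, 5),
    (222, 4), (223, 5), (224, 4), (226, 4), (227, 3), (228, 3), (229, 1), (230, 1),
    (230, 2), (232, 2), (234, 3), (235, 4), (236, 5), (237, 6), (238, 7)]
  act := [[0, 0, 0, 0, 0, 0, 0, 1], [1, 1, 1, 1, 1, 1, 2, 0], [2, 2, 2, 2, 2, 3, 1, 2], [3, 3, 3, 3, 4, 2, 3, 3], [4, 4, 4, 5, 3, 4, 4, 4], [5, 6, 7, 4, 5, 5, 5, 5], [6, 5, 8, 6, 6, 6, 6, 6], [9, 8, 5, 7, 7, 7, 7, 7],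
    [10, 7, 6, 11, 8, 8, 8, 8], [7, 10, 9, 9, 9, 9, 9, 9], [8, 9, 10, 12, 10, 10, 10, 10], [12, 11, 11, 8, 13, 11, 11, 11], [11, 12, 14, 10, 15, 12, 12, 12], [15, 13, 13, 13, 11, 16, 13, 13], [14, 14, 12, 14, 17, 14, 14, 14], [13, 15, 17, 15, 12, 18, 15, 15],
    [18, 16, 16, 16, 16, 13, 19, 16], [17, 17, 15, 20, 14, 21, 17, 17], [16, 18, 21, 18, 18, 15, 22, 18], [22, 19, 19, 19, 19, 19, 16, 23], [20, 24, 20, 17, 20, 25, 20, 20], [21, 21, 18, 25, 21, 17, 26, 21], [19, 22, 26, 22, 22, 22, 18, 27], [27, 23, 23, 23, 23, 23, 23, 19],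
    [24, 20, 24, 24, 24, 28, 24, 24], [25, 28, 25, 21, 29, 20, 30, 25], [26, 26, 22, 30, 26, 26, 21, 31], [23, 27, 31, 27, 27, 27, 27, 22], [28, 25, 28, 28, 32, 24, 33, 28], [29, 32, 29, 29, 25, 29, 34, 29], [30, 33, 30, 26, 34, 30, 25, 35], [31, 31, 27, 35, 31, 31, 31, 26],
    [32, 29, 32, 36, 28, 32, 37, 32], [33, 30, 33, 33, 37, 33, 28, 38], [34, 37, 34, 34, 30, 39, 29, 40], [35, 38, 35, 31, 40, 35, 35, 30], [36, 36, 41, 32, 36, 36, 42, 36], [37, 34, 37, 42, 33, 43, 32, 44], [38, 35, 38, 38, 44, 38, 38, 33], [39, 43, 39, 39, 39, 34, 39, 45],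
    [40, 44, 40, 40, 35, 45, 40, 34], [46, 41, 36, 41, 41, 41, 47, 41], [42, 42, 47, 37, 42, 48, 36, 49], [43, 39, 43, 48, 43, 37, 43, 50], [44, 40, 44, 49, 38, 50, 44, 37], [45, 50, 45, 45, 45, 40, 51, 39], [41, 46, 46, 46, 46, 46, 52, 46], [52, 47, 42, 47, 47, 53, 41, 54],
    [48, 48, 53, 43, 55, 42, 48, 56], [49, 49, 54, 44, 49, 56, 49, 42], [50, 45, 50, 56, 50, 44, 57, 43], [51, 57, 51, 51, 51, 51, 45, 51], [47, 52, 52, 52, 52, 58, 46, 59], [58, 53, 48, 53, 60, 47, 53, 61], [59, 54, 49, 54, 54, 61, 54, 47], [55, 55, 60, 55, 48, 55, 55, 62],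
    [56, 56, 61, 50, 62, 49, 63, 48], [57, 51, 57, 63, 57, 57, 50, 57], [53, 58, 58, 58, 64, 52, 58, 65], [54, 59, 59, 59, 59, 65, 59, 52], [64, 60, 55, 66, 53, 60, 60, 67], [65, 61, 56, 61, 67, 54, 68, 53], [62, 62, 67, 62, 56, 62, 69, 55], [63, 63, 68, 57, 69, 63, 56, 63],
    [60, 64, 64, 70, 58, 64, 64, 71], [61, 65, 65, 65, 71, 59, 72, 58], [70, 73, 66, 60, 66, 66, 66, 74], [71, 67, 62, 74, 61, 67, 75, 60], [72, 68, 63, 68, 75, 68, 61, 68], [69, 69, 75, 69, 63, 76, 62, 69], [66, 77, 78, 64, 70, 70, 70, 79], [67, 71, 71, 79, 65, 71, 80, 64],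
    [68, 72, 72, 72, 80, 72, 65, 72], [77, 66, 73, 73, 73, 73, 73, 81], [79, 81, 74, 67, 74, 74, 82, 66], [80, 75, 69, 82, 68, 83, 67, 75], [76, 76, 83, 76, 76, 69, 76, 76], [73, 70, 84, 77, 77, 77, 77, 85], [78, 84, 70, 78, 78, 78, 78, 86], [74, 85, 86, 71, 79, 79, 87, 70],
    [75, 80, 80, 87, 72, 88, 71, 80], [85, 74, 81, 81, 81, 81, 89, 73], [87, 89, 82, 75, 82, 90, 74, 82], [88, 83, 76, 90, 83, 75, 83, 83], [84, 78, 77, 91, 84, 84, 84, 92], [81, 79, 92, 85, 85, 85, 93, 77], [86, 92, 79, 86, 86, 86, 94, 78], [82, 93, 94, 80, 87, 95, 79, 87],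
    [83, 88, 88, 95, 88, 80, 88, 88], [93, 82, 89, 89, 89, 96, 81, 89], [95, 96, 90, 83, 97, 82, 90, 90], [91, 91, 91, 84, 98, 91, 91, 99], [92, 86, 85, 99, 92, 92, 100, 84], [89, 87, 100, 93, 93, 101, 85, 93], [94, 100, 87, 94, 94, 102, 86, 94], [90, 101, 102, 88, 103, 87, 95, 95],
    [101, 90, 96, 96, 104, 89, 96, 96], [103, 104, 97, 97, 90, 97, 97, 97], [98, 98, 98, 98, 91, 105, 98, 106], [99, 99, 99, 92, 106, 99, 107, 91], [100, 94, 93, 107, 100, 108, 92, 100], [96, 95, 108, 101, 109, 93, 101, 101], [102, 108, 95, 102, 110, 94, 102, 102], [97, 109, 110, 103, 95, 103, 103, 103],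
    [109, 97, 104, 111, 96, 104, 104, 104], [105, 105, 105, 105, 105, 98, 112, 113], [106, 106, 106, 106, 99, 113, 114, 98], [107, 107, 107, 100, 114, 115, 99, 107], [108, 102, 101, 115, 116, 100, 108, 108], [104, 103, 116, 117, 101, 109, 109, 109], [110, 116, 103, 118, 102, 110, 110, 110], [117, 111, 119, 104, 111, 111, 111, 111],
    [112, 112, 112, 112, 112, 112, 105, 120], [113, 113, 113, 113, 113, 106, 121, 105], [114, 114, 114, 114, 107, 122, 106, 114], [115, 115, 115, 108, 123, 107, 115, 115], [116, 110, 109, 124, 108, 116, 116, 116], [111, 117, 125, 109, 117, 117, 117, 117], [118, 126, 118, 110, 118, 118, 118, 118], [127, 119, 111, 119, 119, 119, 119, 119],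
    [120, 120, 120, 120, 120, 120, 128, 112], [121, 121, 121, 121, 121, 129, 113, 128], [122, 122, 122, 122, 130, 114, 129, 122], [123, 123, 123, 131, 115, 130, 123, 123], [124, 132, 133, 116, 131, 124, 124, 124], [134, 125, 117, 133, 125, 125, 125, 125], [126, 118, 126, 132, 126, 126, 126, 126], [119, 127, 134, 127, 127, 127, 127, 127],
    [128, 128, 128, 128, 128, 135, 120, 121], [129, 129, 129, 129, 136, 121, 122, 135], [130, 130, 130, 137, 122, 123, 136, 130], [131, 138, 139, 123, 124, 137, 131, 131], [132, 124, 140, 126, 138, 132, 132, 132], [141, 140, 124, 125, 139, 133, 133, 133], [125, 134, 127, 141, 134, 134, 134, 134], [135, 135, 135, 135, 142, 128, 135, 129],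
    [136, 136, 136, 143, 129, 136, 130, 142], [137, 144, 145, 130, 137, 131, 143, 137], [138, 131, 146, 138, 132, 144, 138, 138], [147, 146, 131, 139, 133, 145, 139, 139], [148, 133, 132, 140, 146, 140, 140, 140], [133, 148, 141, 134, 147, 141, 141, 141], [142, 142, 142, 149, 135, 142, 142, 136], [143, 150, 151, 136, 143, 143, 137, 149],
    [144, 137, 152, 144, 144, 138, 150, 144], [153, 152, 137, 145, 145, 139, 151, 145], [154, 139, 138, 155, 140, 152, 146, 146], [139, 154, 147, 147, 141, 153, 147, 147], [140, 141, 148, 148, 154, 148, 148, 148], [149, 156, 157, 142, 149, 149, 149, 143], [150, 143, 158, 150, 150, 150, 144, 156], [159, 158, 143, 151, 151, 151, 145, 157],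
    [160, 145, 144, 161, 152, 146, 158, 152], [145, 160, 153, 153, 153, 147, 159, 153], [146, 147, 154, 162, 148, 160, 154, 154], [162, 155, 155, 146, 155, 161, 155, 155], [156, 149, 163, 156, 156, 156, 156, 150], [164, 163, 149, 157, 157, 157, 157, 151], [165, 151, 150, 166, 158, 158, 152, 163], [151, 165, 159, 159, 159, 159, 153, 164],
    [152, 153, 160, 167, 160, 154, 165, 160], [167, 161, 161, 152, 168, 155, 166, 161], [155, 162, 169, 154, 162, 167, 162, 162], [170, 157, 156, 171, 163, 163, 163, 158], [157, 170, 164, 164, 164, 164, 164, 159], [158, 159, 165, 172, 165, 165, 160, 170], [172, 166, 166, 158, 173, 166, 161, 171], [161, 167, 174, 160, 175, 162, 172, 167],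
    [175, 168, 168, 168, 161, 168, 173, 168], [169, 169, 162, 169, 169, 174, 169, 169], [163, 164, 170, 176, 170, 170, 170, 165], [176, 171, 171, 163, 177, 171, 171, 166], [166, 172, 178, 165, 179, 172, 167, 176], [179, 173, 173, 173, 166, 180, 168, 177], [174, 174, 167, 174, 181, 169, 178, 174], [168, 175, 181, 175, 167, 175, 179, 175],
    [171, 176, 182, 170, 183, 176, 176, 172], [183, 177, 177, 177, 171, 184, 177, 173], [178, 178, 172, 178, 185, 178, 174, 182], [173, 179, 185, 179, 172, 186, 175, 183], [186, 180, 180, 180, 180, 173, 180, 184], [181, 181, 175, 187, 174, 181, 185, 181], [182, 182, 176, 182, 188, 182, 182, 178], [177, 183, 188, 183, 176, 189, 183, 179],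
    [189, 184, 184, 184, 184, 177, 190, 180], [185, 185, 179, 191, 178, 192, 181, 188], [180, 186, 192, 186, 186, 179, 186, 189], [187, 193, 187, 181, 187, 187, 191, 187], [188, 188, 183, 194, 182, 195, 188, 185], [184, 189, 195, 189, 189, 183, 196, 186], [196, 190, 190, 190, 190, 190, 184, 190], [191, 197, 191, 185, 191, 198, 187, 194],
    [192, 192, 186, 198, 192, 185, 192, 195], [193, 187, 193, 193, 193, 193, 197, 193], [194, 199, 194, 188, 194, 200, 194, 191], [195, 195, 189, 200, 195, 188, 201, 192], [190, 196, 201, 196, 196, 196, 189, 196], [197, 191, 197, 197, 197, 202, 193, 199], [198, 202, 198, 192, 203, 191, 198, 200], [199, 194, 199, 199, 199, 204, 199, 197],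
    [200, 204, 200, 195, 205, 194, 206, 198], [201, 201, 196, 206, 201, 201, 195, 201], [202, 198, 202, 202, 207, 197, 202, 204], [203, 207, 203, 203, 198, 203, 203, 205], [204, 200, 204, 204, 208, 199, 209, 202], [205, 208, 205, 205, 200, 205, 210, 203], [206, 209, 206, 201, 210, 206, 200, 206], [207, 203, 207, 211, 202, 207, 207, 208],
    [208, 205, 208, 212, 204, 208, 213, 207], [209, 206, 209, 209, 213, 209, 204, 209], [210, 213, 210, 210, 206, 214, 205, 210], [211, 211, 215, 207, 211, 211, 211, 212], [212, 212, 216, 208, 212, 212, 217, 211], [213, 210, 213, 217, 209, 218, 208, 213], [214, 218, 214, 214, 214, 210, 214, 214], [219, 215, 211, 215, 215, 215, 215, 216],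
    [220, 216, 212, 216, 216, 216, 221, 215], [217, 217, 221, 213, 217, 222, 212, 217], [218, 214, 218, 222, 218, 213, 218, 218], [215, 219, 219, 219, 219, 219, 219, 220], [216, 220, 220, 220, 220, 220, 223, 219], [223, 221, 217, 221, 221, 224, 216, 221], [222, 222, 224, 218, 225, 217, 222, 222], [221, 223, 223, 223, 223, 226, 220, 223],
    [226, 224, 222, 224, 227, 221, 224, 224], [225, 225, 227, 225, 222, 225, 225, 225], [224, 226, 226, 226, 228, 223, 226, 226], [228, 227, 225, 229, 224, 227, 227, 227], [227, 228, 228, 230, 226, 228, 228, 228], [230, 231, 229, 227, 229, 229, 229, 229], [229, 232, 233, 228, 230, 230, 230, 230], [232, 229, 231, 231, 231, 231, 231, 231],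
    [231, 230, 234, 232, 232, 232, 232, 232], [233, 234, 230, 233, 233, 233, 233, 233], [234, 233, 232, 235, 234, 234, 234, 234], [235, 235, 235, 234, 236, 235, 235, 235], [236, 236, 236, 236, 235, 237, 236, 236], [237, 237, 237, 237, 237, 236, 238, 237], [238, 238, 238, 238, 238, 238, 237, 239], [239, 239, 239, 239, 239, 239, 239, 238]]
  deds := [(1, 0, 7), (1, 1, 7), (1, 2, 7), (1, 3, 7), (1, 4, 7), (1, 5, 7), (2, 0, 6), (2, 1, 6),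
    (2, 2, 6), (2, 3, 6), (2, 4, 6), (2, 7, 6), (3, 0, 5), (3, 1, 5), (3, 2, 5), (3, 3, 5),
    (3, 6, 5), (3, 7, 5), (4, 0, 4), (4, 1, 4), (4, 2, 4), (4, 5, 4), (4, 6, 4), (4, 7, 4),
    (5, 0, 3), (5, 4, 3), (5, 5, 3), (5, 6, 3), (5, 7, 3), (6, 0, 1), (6, 3, 1), (6, 4, 1),
    (6, 5, 1), (6, 6, 1), (6, 7, 1), (7, 1, 2), (7, 3, 2), (7, 4, 2), (7, 5, 2), (7, 6, 2),
    (7, 7, 2), (8, 1, 2), (8, 4, 1), (8, 5, 1), (8, 6, 1), (8, 7, 1), (9, 1, 0), (9, 2, 0),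
    (9, 3, 0), (9, 4, 0), (9, 5, 0), (9, 6, 0), (9, 7, 0), (10, 1, 0), (10, 2, 0), (10, 4, 0),
    (10, 5, 0), (10, 6, 0), (10, 7, 0), (11, 0, 3), (11, 1, 3), (11, 2, 3), (11, 5, 3), (11, 6, 3),
    (11, 7, 3), (12, 0, 3), (12, 1, 0), (12, 5, 0), (12, 6, 0), (12, 7, 0), (13, 0, 4), (13, 1, 4),
    (13, 2, 4), (13, 3, 4), (13, 6, 4), (13, 7, 4), (14, 0, 2), (14, 1, 2), (14, 3, 2), (14, 5, 2),
    (14, 6, 2), (14, 7, 2), (15, 0, 4), (15, 1, 0), (15, 2, 4), (15, 3, 0), (15, 6, 0), (15, 7, 0),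
    (16, 0, 5), (16, 1, 5), (16, 2, 5), (16, 3, 5), (16, 4, 5), (16, 7, 5), (17, 0, 4), (17, 1, 4),
    (17, 2, 4), (17, 6, 2), (17, 7, 2), (18, 0, 5), (18, 1, 0), (18, 2, 5), (18, 3, 0), (18, 4, 0),
    (18, 7, 0), (19, 0, 6), (19, 1, 6), (19, 2, 6), (19, 3, 6), (19, 4, 6), (19, 5, 6), (20, 0, 3),
    (20, 2, 3), (20, 4, 3), (20, 6, 3), (20, 7, 3), (21, 0, 5), (21, 1, 5), (21, 2, 5), (21, 3, 5),
    (21, 4, 2), (21, 7, 2), (22, 0, 6), (22, 1, 0), (22, 2, 6), (22, 3, 0), (22, 4, 0), (22, 5, 0),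
    (23, 0, 7), (23, 1, 7), (23, 2, 7), (23, 3, 7), (23, 4, 7), (23, 5, 7), (23, 6, 7), (24, 0, 1),
    (24, 2, 1), (24, 3, 1), (24, 4, 1), (24, 6, 1), (24, 7, 1), (25, 0, 5), (25, 1, 5), (25, 2, 5),
    (25, 3, 5), (25, 7, 3), (26, 0, 6), (26, 1, 6), (26, 2, 6), (26, 3, 6), (26, 4, 2), (26, 5, 2),
    (27, 0, 7), (27, 1, 0), (27, 2, 7), (27, 3, 0), (27, 4, 0), (27, 5, 0), (27, 6, 0), (28, 0, 5),
    (28, 1, 5), (28, 2, 1), (28, 3, 1), (28, 7, 1), (29, 0, 4), (29, 1, 4), (29, 2, 4), (29, 3, 4),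
    (29, 5, 4), (29, 7, 4), (30, 0, 6), (30, 1, 6), (30, 2, 6), (30, 3, 6), (30, 4, 6), (30, 5, 3),
    (31, 0, 7), (31, 1, 7), (31, 2, 7), (31, 3, 7), (31, 4, 2), (31, 5, 2), (31, 6, 2), (32, 0, 4),
    (32, 1, 4), (32, 2, 1), (32, 5, 1), (32, 7, 1), (33, 0, 6), (33, 1, 6), (33, 2, 1), (33, 3, 1),
    (33, 4, 6), (33, 5, 1), (34, 0, 6), (34, 1, 6), (34, 2, 6), (34, 3, 6), (34, 4, 6), (35, 0, 7),
    (35, 1, 7), (35, 2, 7), (35, 3, 7), (35, 4, 7), (35, 5, 3), (35, 6, 3), (36, 0, 3), (36, 1, 3),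
    (36, 4, 3), (36, 5, 3), (36, 7, 3), (37, 0, 6), (37, 1, 6), (37, 2, 1), (37, 3, 6), (37, 4, 1),
    (38, 0, 7), (38, 1, 7), (38, 2, 1), (38, 3, 1), (38, 4, 7), (38, 5, 1), (38, 6, 1), (39, 0, 5),
    (39, 1, 5), (39, 2, 5), (39, 3, 5), (39, 4, 5), (39, 6, 5), (40, 0, 7), (40, 1, 7), (40, 2, 7),
    (40, 3, 7), (40, 4, 7), (40, 5, 7), (40, 6, 4), (41, 1, 2), (41, 3, 2), (41, 4, 2), (41, 5, 2),
    (41, 7, 2), (42, 0, 6), (42, 1, 6), (42, 2, 6), (42, 3, 6), (42, 4, 3), (43, 0, 5), (43, 1, 5),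
    (43, 2, 1), (43, 3, 5), (43, 4, 1), (43, 6, 1), (44, 0, 7), (44, 1, 7), (44, 2, 1), (44, 3, 7),
    (44, 4, 1), (44, 5, 7), (44, 6, 1), (45, 0, 7), (45, 1, 7), (45, 2, 7), (45, 3, 7), (45, 4, 7),
    (45, 5, 7), (46, 1, 0), (46, 2, 0), (46, 3, 0), (46, 4, 0), (46, 5, 0), (46, 7, 0), (47, 0, 6),
    (47, 1, 6), (47, 2, 6), (47, 3, 2), (47, 4, 2), (48, 0, 5), (48, 1, 5), (48, 2, 5), (48, 3, 5),
    (48, 6, 3), (49, 0, 7), (49, 1, 7), (49, 2, 7), (49, 3, 7), (49, 4, 3), (49, 5, 7), (49, 6, 3),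
    (50, 0, 7), (50, 1, 7), (50, 2, 1), (50, 3, 7), (50, 4, 1), (50, 5, 1), (51, 0, 6), (51, 1, 6),
    (51, 2, 6), (51, 3, 6), (51, 4, 6), (51, 5, 6), (51, 7, 6), (52, 0, 6), (52, 1, 0), (52, 2, 0),
    (52, 3, 0), (52, 4, 0), (53, 0, 5), (53, 1, 5), (53, 2, 5), (53, 3, 2), (53, 6, 2), (54, 0, 7),
    (54, 1, 7), (54, 2, 7), (54, 3, 2), (54, 4, 2), (54, 5, 7), (54, 6, 2), (55, 0, 4), (55, 1, 4),
    (55, 2, 4), (55, 3, 4), (55, 5, 4), (55, 6, 4), (56, 0, 7), (56, 1, 7), (56, 2, 7), (56, 3, 7),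
    (56, 4, 7), (56, 5, 3), (57, 0, 6), (57, 1, 6), (57, 2, 1), (57, 3, 6), (57, 4, 1), (57, 5, 1),
    (57, 7, 1), (58, 0, 5), (58, 1, 0), (58, 2, 0), (58, 3, 0), (58, 6, 0), (59, 0, 7), (59, 1, 0),
    (59, 2, 0), (59, 3, 0), (59, 4, 0), (59, 5, 7), (59, 6, 0), (60, 0, 4), (60, 1, 4), (60, 2, 4),
    (60, 5, 2), (60, 6, 2), (61, 0, 7), (61, 1, 7), (61, 2, 7), (61, 3, 2), (61, 4, 7), (61, 5, 2),
    (62, 0, 7), (62, 1, 7), (62, 2, 7), (62, 3, 7), (62, 4, 7), (62, 5, 4), (63, 0, 6), (63, 1, 6),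
    (63, 2, 6), (63, 3, 6), (63, 4, 6), (63, 5, 3), (63, 7, 3), (64, 0, 4), (64, 1, 0), (64, 2, 0),
    (64, 5, 0), (64, 6, 0), (65, 0, 7), (65, 1, 0), (65, 2, 0), (65, 3, 0), (65, 4, 7), (65, 5, 0),
    (66, 0, 3), (66, 2, 3), (66, 4, 3), (66, 5, 3), (66, 6, 3), (67, 0, 7), (67, 1, 7), (67, 2, 7),
    (67, 3, 7), (67, 4, 2), (67, 5, 2), (68, 0, 6), (68, 1, 6), (68, 2, 6), (68, 3, 2), (68, 4, 6),
    (68, 5, 2), (68, 7, 2), (69, 0, 6), (69, 1, 6), (69, 2, 6), (69, 3, 6), (69, 4, 6), (69, 7, 4),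
    (70, 0, 3), (70, 4, 0), (70, 5, 0), (70, 6, 0), (71, 0, 7), (71, 1, 0), (71, 2, 0), (71, 3, 7),
    (71, 4, 0), (71, 5, 0), (72, 0, 6), (72, 1, 0), (72, 2, 0), (72, 3, 0), (72, 4, 6), (72, 5, 0),
    (72, 7, 0), (73, 0, 1), (73, 2, 1), (73, 3, 1), (73, 4, 1), (73, 5, 1), (73, 6, 1), (74, 0, 7),
    (74, 1, 7), (74, 2, 7), (74, 3, 7), (74, 4, 3), (74, 5, 3), (75, 0, 6), (75, 1, 6), (75, 2, 6),
    (75, 3, 6), (75, 4, 2), (75, 7, 2), (76, 0, 5), (76, 1, 5), (76, 2, 5), (76, 3, 5), (76, 4, 5),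
    (76, 6, 5), (76, 7, 5), (77, 0, 1), (77, 3, 0), (77, 4, 0), (77, 5, 0), (77, 6, 0), (78, 0, 2),
    (78, 1, 2), (78, 3, 2), (78, 4, 2), (78, 5, 2), (78, 6, 2), (79, 0, 7), (79, 1, 7), (79, 2, 7),
    (79, 3, 0), (79, 4, 0), (79, 5, 0), (80, 0, 6), (80, 1, 0), (80, 2, 0), (80, 3, 6), (80, 4, 0),
    (80, 7, 0), (81, 0, 7), (81, 1, 7), (81, 2, 1), (81, 3, 1), (81, 4, 1), (81, 5, 1), (82, 0, 6),
    (82, 1, 6), (82, 2, 6), (82, 3, 6), (82, 4, 3), (82, 7, 3), (83, 0, 5), (83, 1, 5), (83, 2, 5),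
    (83, 3, 5), (83, 4, 2), (83, 6, 2), (83, 7, 2), (84, 0, 2), (84, 1, 2), (84, 4, 1), (84, 5, 1),
    (84, 6, 1), (85, 0, 7), (85, 1, 0), (85, 2, 7), (85, 3, 0), (85, 4, 0), (85, 5, 0), (86, 0, 7),
    (86, 1, 7), (86, 2, 7), (86, 3, 2), (86, 4, 2), (86, 5, 2), (87, 0, 6), (87, 1, 6), (87, 2, 6),
    (87, 3, 0), (87, 4, 0), (87, 7, 0), (88, 0, 5), (88, 1, 0), (88, 2, 0), (88, 3, 5), (88, 4, 0),
    (88, 6, 0), (88, 7, 0), (89, 0, 6), (89, 1, 6), (89, 2, 1), (89, 3, 1), (89, 4, 1), (89, 7, 1),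
    (90, 0, 5), (90, 1, 5), (90, 2, 5), (90, 3, 5), (90, 6, 3), (90, 7, 3), (91, 0, 3), (91, 1, 3),
    (91, 2, 3), (91, 5, 3), (91, 6, 3), (92, 0, 7), (92, 1, 7), (92, 2, 1), (92, 3, 7), (92, 4, 1),
    (92, 5, 1), (93, 0, 6), (93, 1, 0), (93, 2, 6), (93, 3, 0), (93, 4, 0), (93, 7, 0), (94, 0, 6),
    (94, 1, 6), (94, 2, 6), (94, 3, 2), (94, 4, 2), (94, 7, 2), (95, 0, 5), (95, 1, 5), (95, 2, 5),
    (95, 3, 0), (95, 6, 0), (95, 7, 0), (96, 0, 5), (96, 1, 5), (96, 2, 1), (96, 3, 1), (96, 6, 1),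
    (96, 7, 1), (97, 0, 4), (97, 1, 4), (97, 2, 4), (97, 3, 4), (97, 5, 4), (97, 6, 4), (97, 7, 4),
    (98, 0, 4), (98, 1, 4), (98, 2, 4), (98, 3, 4), (98, 6, 4), (99, 0, 7), (99, 1, 7), (99, 2, 7),
    (99, 3, 7), (99, 4, 7), (99, 5, 3), (100, 0, 6), (100, 1, 6), (100, 2, 1), (100, 3, 6), (100, 4, 1),
    (100, 7, 1), (101, 0, 5), (101, 1, 0), (101, 2, 5), (101, 3, 0), (101, 6, 0), (101, 7, 0), (102, 0, 5),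
    (102, 1, 5), (102, 2, 5), (102, 3, 2), (102, 6, 2), (102, 7, 2), (103, 0, 4), (103, 1, 4), (103, 2, 4),
    (103, 3, 0), (103, 5, 0), (103, 6, 0), (103, 7, 0), (104, 0, 4), (104, 1, 4), (104, 2, 1), (104, 5, 1),
    (104, 6, 1), (104, 7, 1), (105, 0, 5), (105, 1, 5), (105, 2, 5), (105, 3, 5), (105, 4, 5), (106, 0, 7),
    (106, 1, 7), (106, 2, 7), (106, 3, 7), (106, 4, 7), (106, 5, 7), (107, 0, 6), (107, 1, 6), (107, 2, 6),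
    (107, 3, 6), (107, 4, 6), (107, 7, 3), (108, 0, 5), (108, 1, 5), (108, 2, 1), (108, 3, 5), (108, 6, 1),
    (108, 7, 1), (109, 0, 4), (109, 1, 0), (109, 2, 4), (109, 5, 0), (109, 6, 0), (109, 7, 0), (110, 0, 4),
    (110, 1, 4), (110, 2, 4), (110, 5, 2), (110, 6, 2), (110, 7, 2), (111, 0, 3), (111, 1, 3), (111, 4, 3),
    (111, 5, 3), (111, 6, 3), (111, 7, 3), (112, 0, 6), (112, 1, 6), (112, 2, 6), (112, 3, 6), (112, 4, 6),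
    (112, 5, 6), (113, 0, 7), (113, 1, 7), (113, 2, 7), (113, 3, 7), (113, 4, 7), (113, 5, 7), (114, 0, 6),
    (114, 1, 6), (114, 2, 6), (114, 3, 6), (114, 4, 6), (114, 7, 4), (115, 0, 5), (115, 1, 5), (115, 2, 5),
    (115, 3, 5), (115, 6, 3), (115, 7, 3), (116, 0, 4), (116, 1, 4), (116, 2, 1), (116, 5, 1), (116, 6, 1),
    (116, 7, 1), (117, 0, 3), (117, 1, 0), (117, 4, 0), (117, 5, 0), (117, 6, 0), (117, 7, 0), (118, 0, 3),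
    (118, 2, 3), (118, 4, 3), (118, 5, 3), (118, 6, 3), (118, 7, 3), (119, 1, 2), (119, 3, 2), (119, 4, 2),
    (119, 5, 2), (119, 6, 2), (119, 7, 2), (120, 0, 7), (120, 1, 7), (120, 2, 7), (120, 3, 7), (120, 4, 7),
    (120, 5, 7), (121, 0, 6), (121, 1, 6), (121, 2, 6), (121, 3, 6), (121, 4, 6), (121, 7, 6), (122, 0, 5),
    (122, 1, 5), (122, 2, 5), (122, 3, 5), (122, 6, 5), (122, 7, 5), (123, 0, 4), (123, 1, 4), (123, 2, 4),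
    (123, 5, 4), (123, 6, 4), (123, 7, 4), (124, 0, 3), (124, 4, 3), (124, 5, 3), (124, 6, 3), (124, 7, 3),
    (125, 1, 2), (125, 3, 2), (125, 4, 2), (125, 5, 2), (125, 6, 2), (125, 7, 2), (126, 0, 1), (126, 2, 1),
    (126, 3, 1), (126, 4, 1), (126, 5, 1), (126, 6, 1), (126, 7, 1), (127, 1, 0), (127, 2, 0), (127, 3, 0),
    (127, 4, 0), (127, 5, 0), (127, 6, 0), (127, 7, 0), (128, 0, 6), (128, 1, 6), (128, 2, 6), (128, 3, 6),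
    (128, 4, 6), (128, 7, 6), (129, 0, 5), (129, 1, 5), (129, 2, 5), (129, 3, 5), (129, 6, 5), (129, 7, 5),
    (130, 0, 4), (130, 1, 4), (130, 2, 4), (130, 5, 4), (130, 6, 4), (130, 7, 4), (131, 0, 3), (131, 4, 3),
    (131, 5, 3), (131, 6, 3), (131, 7, 3), (132, 0, 1), (132, 3, 1), (132, 4, 1), (132, 5, 1), (132, 6, 1),
    (132, 7, 1), (133, 1, 2), (133, 3, 2), (133, 4, 2), (133, 5, 2), (133, 6, 2), (133, 7, 2), (134, 1, 0),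
    (134, 2, 0), (134, 3, 0), (134, 4, 0), (134, 5, 0), (134, 6, 0), (134, 7, 0), (135, 0, 5), (135, 1, 5),
    (135, 2, 5), (135, 3, 5), (135, 6, 5), (135, 7, 5), (136, 0, 4), (136, 1, 4), (136, 2, 4), (136, 5, 4),
    (136, 6, 4), (136, 7, 4), (137, 0, 3), (137, 4, 3), (137, 5, 3), (137, 6, 3), (137, 7, 3), (138, 0, 1),
    (138, 3, 1), (138, 4, 1), (138, 5, 1), (138, 6, 1), (138, 7, 1), (139, 1, 2), (139, 3, 2), (139, 4, 2),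
    (139, 5, 2), (139, 6, 2), (139, 7, 2), (140, 1, 2), (140, 3, 1), (140, 4, 1), (140, 5, 1), (140, 6, 1),
    (140, 7, 1), (141, 1, 0), (141, 2, 0), (141, 3, 0), (141, 4, 0), (141, 5, 0), (141, 6, 0), (141, 7, 0),
    (142, 0, 4), (142, 1, 4), (142, 2, 4), (142, 5, 4), (142, 6, 4), (142, 7, 4), (143, 0, 3), (143, 4, 3),
    (143, 5, 3), (143, 6, 3), (143, 7, 3), (144, 0, 1), (144, 3, 1), (144, 4, 1), (144, 5, 1), (144, 6, 1),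
    (144, 7, 1), (145, 1, 2), (145, 3, 2), (145, 4, 2), (145, 5, 2), (145, 6, 2), (145, 7, 2), (146, 1, 2),
    (146, 4, 1), (146, 5, 1), (146, 6, 1), (146, 7, 1), (147, 1, 0), (147, 2, 0), (147, 3, 0), (147, 4, 0),
    (147, 5, 0), (147, 6, 0), (147, 7, 0), (148, 1, 0), (148, 2, 0), (148, 3, 0), (148, 4, 0), (148, 5, 0),
    (148, 6, 0), (148, 7, 0), (149, 0, 3), (149, 4, 3), (149, 5, 3), (149, 6, 3), (149, 7, 3), (150, 0, 1),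
    (150, 3, 1), (150, 4, 1), (150, 5, 1), (150, 6, 1), (150, 7, 1), (151, 1, 2), (151, 3, 2), (151, 4, 2),
    (151, 5, 2), (151, 6, 2), (151, 7, 2), (152, 1, 2), (152, 4, 1), (152, 5, 1), (152, 6, 1), (152, 7, 1),
    (153, 1, 0), (153, 2, 0), (153, 3, 0), (153, 4, 0), (153, 5, 0), (153, 6, 0), (153, 7, 0), (154, 1, 0),
    (154, 2, 0), (154, 4, 0), (154, 5, 0), (154, 6, 0), (154, 7, 0), (155, 0, 3), (155, 1, 3), (155, 2, 3),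
    (155, 4, 3), (155, 5, 3), (155, 6, 3), (155, 7, 3), (156, 0, 1), (156, 3, 1), (156, 4, 1), (156, 5, 1),
    (156, 6, 1), (156, 7, 1), (157, 1, 2), (157, 3, 2), (157, 4, 2), (157, 5, 2), (157, 6, 2), (157, 7, 2),
    (158, 1, 2), (158, 4, 1), (158, 5, 1), (158, 6, 1), (158, 7, 1), (159, 1, 0), (159, 2, 0), (159, 3, 0),
    (159, 4, 0), (159, 5, 0), (159, 6, 0), (159, 7, 0), (160, 1, 0), (160, 2, 0), (160, 4, 0), (160, 5, 0),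
    (160, 6, 0), (160, 7, 0), (161, 0, 3), (161, 1, 3), (161, 2, 3), (161, 5, 3), (161, 6, 3), (161, 7, 3),
    (162, 0, 3), (162, 1, 0), (162, 4, 0), (162, 5, 0), (162, 6, 0), (162, 7, 0), (163, 1, 2), (163, 4, 1),
    (163, 5, 1), (163, 6, 1), (163, 7, 1), (164, 1, 0), (164, 2, 0), (164, 3, 0), (164, 4, 0), (164, 5, 0),
    (164, 6, 0), (164, 7, 0), (165, 1, 0), (165, 2, 0), (165, 4, 0), (165, 5, 0), (165, 6, 0), (165, 7, 0),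
    (166, 0, 3), (166, 1, 3), (166, 2, 3), (166, 5, 3), (166, 6, 3), (166, 7, 3), (167, 0, 3), (167, 1, 0),
    (167, 5, 0), (167, 6, 0), (167, 7, 0), (168, 0, 4), (168, 1, 4), (168, 2, 4), (168, 3, 4), (168, 5, 4),
    (168, 6, 4), (168, 7, 4), (169, 0, 2), (169, 1, 2), (169, 3, 2), (169, 4, 2), (169, 5, 2), (169, 6, 2),
    (169, 7, 2), (170, 1, 0), (170, 2, 0), (170, 4, 0), (170, 5, 0), (170, 6, 0), (170, 7, 0), (171, 0, 3),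
    (171, 1, 3), (171, 2, 3), (171, 5, 3), (171, 6, 3), (171, 7, 3), (172, 0, 3), (172, 1, 0), (172, 5, 0),
    (172, 6, 0), (172, 7, 0), (173, 0, 4), (173, 1, 4), (173, 2, 4), (173, 3, 4), (173, 6, 4), (173, 7, 4),
    (174, 0, 2), (174, 1, 2), (174, 3, 2), (174, 5, 2), (174, 6, 2), (174, 7, 2), (175, 0, 4), (175, 1, 0),
    (175, 2, 4), (175, 3, 0), (175, 5, 0), (175, 6, 0), (175, 7, 0), (176, 0, 3), (176, 1, 0), (176, 5, 0),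
    (176, 6, 0), (176, 7, 0), (177, 0, 4), (177, 1, 4), (177, 2, 4), (177, 3, 4), (177, 6, 4), (177, 7, 4),
    (178, 0, 2), (178, 1, 2), (178, 3, 2), (178, 5, 2), (178, 6, 2), (178, 7, 2), (179, 0, 4), (179, 1, 0),
    (179, 2, 4), (179, 3, 0), (179, 6, 0), (179, 7, 0), (180, 0, 5), (180, 1, 5), (180, 2, 5), (180, 3, 5),
    (180, 4, 5), (180, 6, 5), (180, 7, 5), (181, 0, 4), (181, 1, 4), (181, 2, 4), (181, 5, 2), (181, 6, 2),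
    (181, 7, 2), (182, 0, 2), (182, 1, 2), (182, 3, 2), (182, 5, 2), (182, 6, 2), (182, 7, 2), (183, 0, 4),
    (183, 1, 0), (183, 2, 4), (183, 3, 0), (183, 6, 0), (183, 7, 0), (184, 0, 5), (184, 1, 5), (184, 2, 5),
    (184, 3, 5), (184, 4, 5), (184, 7, 5), (185, 0, 4), (185, 1, 4), (185, 2, 4), (185, 6, 2), (185, 7, 2),
    (186, 0, 5), (186, 1, 0), (186, 2, 5), (186, 3, 0), (186, 4, 0), (186, 6, 0), (186, 7, 0), (187, 0, 3),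
    (187, 2, 3), (187, 4, 3), (187, 5, 3), (187, 6, 3), (187, 7, 3), (188, 0, 4), (188, 1, 4), (188, 2, 4),
    (188, 6, 2), (188, 7, 2), (189, 0, 5), (189, 1, 0), (189, 2, 5), (189, 3, 0), (189, 4, 0), (189, 7, 0),
    (190, 0, 6), (190, 1, 6), (190, 2, 6), (190, 3, 6), (190, 4, 6), (190, 5, 6), (190, 7, 6), (191, 0, 3),
    (191, 2, 3), (191, 4, 3), (191, 6, 3), (191, 7, 3), (192, 0, 5), (192, 1, 5), (192, 2, 5), (192, 3, 5),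
    (192, 4, 2), (192, 6, 2), (192, 7, 2), (193, 0, 1), (193, 2, 1), (193, 3, 1), (193, 4, 1), (193, 5, 1),
    (193, 6, 1), (193, 7, 1), (194, 0, 3), (194, 2, 3), (194, 4, 3), (194, 6, 3), (194, 7, 3), (195, 0, 5),
    (195, 1, 5), (195, 2, 5), (195, 3, 5), (195, 4, 2), (195, 7, 2), (196, 0, 6), (196, 1, 0), (196, 2, 6),
    (196, 3, 0), (196, 4, 0), (196, 5, 0), (196, 7, 0), (197, 0, 1), (197, 2, 1), (197, 3, 1), (197, 4, 1),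
    (197, 6, 1), (197, 7, 1), (198, 0, 5), (198, 1, 5), (198, 2, 5), (198, 3, 5), (198, 6, 3), (198, 7, 3),
    (199, 0, 1), (199, 2, 1), (199, 3, 1), (199, 4, 1), (199, 6, 1), (199, 7, 1), (200, 0, 5), (200, 1, 5),
    (200, 2, 5), (200, 3, 5), (200, 7, 3), (201, 0, 6), (201, 1, 6), (201, 2, 6), (201, 3, 6), (201, 4, 2),
    (201, 5, 2), (201, 7, 2), (202, 0, 5), (202, 1, 5), (202, 2, 1), (202, 3, 1), (202, 6, 1), (202, 7, 1),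
    (203, 0, 4), (203, 1, 4), (203, 2, 4), (203, 3, 4), (203, 5, 4), (203, 6, 4), (203, 7, 4), (204, 0, 5),
    (204, 1, 5), (204, 2, 1), (204, 3, 1), (204, 7, 1), (205, 0, 4), (205, 1, 4), (205, 2, 4), (205, 3, 4),
    (205, 5, 4), (205, 7, 4), (206, 0, 6), (206, 1, 6), (206, 2, 6), (206, 3, 6), (206, 4, 6), (206, 5, 3),
    (206, 7, 3), (207, 0, 4), (207, 1, 4), (207, 2, 1), (207, 5, 1), (207, 6, 1), (207, 7, 1), (208, 0, 4),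
    (208, 1, 4), (208, 2, 1), (208, 5, 1), (208, 7, 1), (209, 0, 6), (209, 1, 6), (209, 2, 1), (209, 3, 1),
    (209, 4, 6), (209, 5, 1), (209, 7, 1), (210, 0, 6), (210, 1, 6), (210, 2, 6), (210, 3, 6), (210, 4, 6),
    (210, 7, 4), (211, 0, 3), (211, 1, 3), (211, 4, 3), (211, 5, 3), (211, 6, 3), (211, 7, 3), (212, 0, 3),
    (212, 1, 3), (212, 4, 3), (212, 5, 3), (212, 7, 3), (213, 0, 6), (213, 1, 6), (213, 2, 1), (213, 3, 6),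
    (213, 4, 1), (213, 7, 1), (214, 0, 5), (214, 1, 5), (214, 2, 5), (214, 3, 5), (214, 4, 5), (214, 6, 5),
    (214, 7, 5), (215, 1, 2), (215, 3, 2), (215, 4, 2), (215, 5, 2), (215, 6, 2), (215, 7, 2), (216, 1, 2),
    (216, 3, 2), (216, 4, 2), (216, 5, 2), (216, 7, 2), (217, 0, 6), (217, 1, 6), (217, 2, 6), (217, 3, 6),
    (217, 4, 3), (217, 7, 3), (218, 0, 5), (218, 1, 5), (218, 2, 1), (218, 3, 5), (218, 4, 1), (218, 6, 1),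
    (218, 7, 1), (219, 1, 0), (219, 2, 0), (219, 3, 0), (219, 4, 0), (219, 5, 0), (219, 6, 0), (219, 7, 0),
    (220, 1, 0), (220, 2, 0), (220, 3, 0), (220, 4, 0), (220, 5, 0), (220, 7, 0), (221, 0, 6), (221, 1, 6),
    (221, 2, 6), (221, 3, 2), (221, 4, 2), (221, 7, 2), (222, 0, 5), (222, 1, 5), (222, 2, 5), (222, 3, 5),
    (222, 6, 3), (222, 7, 3), (223, 0, 6), (223, 1, 0), (223, 2, 0), (223, 3, 0), (223, 4, 0), (223, 7, 0),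
    (224, 0, 5), (224, 1, 5), (224, 2, 5), (224, 3, 2), (224, 6, 2), (224, 7, 2), (225, 0, 4), (225, 1, 4),
    (225, 2, 4), (225, 3, 4), (225, 5, 4), (225, 6, 4), (225, 7, 4), (226, 0, 5), (226, 1, 0), (226, 2, 0),
    (226, 3, 0), (226, 6, 0), (226, 7, 0), (227, 0, 4), (227, 1, 4), (227, 2, 4), (227, 5, 2), (227, 6, 2),
    (227, 7, 2), (228, 0, 4), (228, 1, 0), (228, 2, 0), (228, 5, 0), (228, 6, 0), (228, 7, 0), (229, 0, 3),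
    (229, 2, 3), (229, 4, 3), (229, 5, 3), (229, 6, 3), (229, 7, 3), (230, 0, 3), (230, 4, 0), (230, 5, 0),
    (230, 6, 0), (230, 7, 0), (231, 0, 1), (231, 2, 1), (231, 3, 1), (231, 4, 1), (231, 5, 1), (231, 6, 1),
    (231, 7, 1), (232, 0, 1), (232, 3, 0), (232, 4, 0), (232, 5, 0), (232, 6, 0), (232, 7, 0), (233, 0, 2),
    (233, 1, 2), (233, 3, 2), (233, 4, 2), (233, 5, 2), (233, 6, 2), (233, 7, 2), (234, 0, 2), (234, 1, 2),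
    (234, 4, 1), (234, 5, 1), (234, 6, 1), (234, 7, 1), (235, 0, 3), (235, 1, 3), (235, 2, 3), (235, 5, 3),
    (235, 6, 3), (235, 7, 3), (236, 0, 4), (236, 1, 4), (236, 2, 4), (236, 3, 4), (236, 6, 4), (236, 7, 4),
    (237, 0, 5), (237, 1, 5), (237, 2, 5), (237, 3, 5), (237, 4, 5), (237, 7, 5), (238, 0, 6), (238, 1, 6),
    (238, 2, 6), (238, 3, 6), (238, 4, 6), (238, 5, 6), (239, 0, 7), (239, 1, 7), (239, 2, 7), (239, 3, 7),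
    (239, 4, 7), (239, 5, 7), (239, 6, 7)]
  orbit := [[0, 0, 0, 0, 0, 0, 0, 1], [0, 0, 0, 0, 0, 0, 1, -1], [0, 0, 0, 0, 0, 1, -1, 0], [0, 0, 0, 0, 1, -1, 0, 0], [0, 0, 0, 1, -1, 0, 0, 0], [0, 1, 1, -1, 0, 0, 0, 0], [0, -1, 1, 0, 0, 0, 0, 0], [1, 1, -1, 0, 0, 0, 0, 0],
    [1, -1, -1, 1, 0, 0, 0, 0], [-1, 1, 0, 0, 0, 0, 0, 0], [-1, -1, 0, 1, 0, 0, 0, 0], [1, 0, 0, -1, 1, 0, 0, 0], [-1, 0, 1, -1, 1, 0, 0, 0], [1, 0, 0, 0, -1, 1, 0, 0], [0, 0, -1, 0, 1, 0, 0, 0], [-1, 0, 1, 0, -1, 1, 0, 0],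
    [1, 0, 0, 0, 0, -1, 1, 0], [0, 0, -1, 1, -1, 1, 0, 0], [-1, 0, 1, 0, 0, -1, 1, 0], [1, 0, 0, 0, 0, 0, -1, 1], [0, 1, 0, -1, 0, 1, 0, 0], [0, 0, -1, 1, 0, -1, 1, 0], [-1, 0, 1, 0, 0, 0, -1, 1], [1, 0, 0, 0, 0, 0, 0, -1],
    [0, -1, 0, 0, 0, 1, 0, 0], [0, 1, 0, -1, 1, -1, 1, 0], [0, 0, -1, 1, 0, 0, -1, 1], [-1, 0, 1, 0, 0, 0, 0, -1], [0, -1, 0, 0, 1, -1, 1, 0], [0, 1, 0, 0, -1, 0, 1, 0], [0, 1, 0, -1, 1, 0, -1, 1], [0, 0, -1, 1, 0, 0, 0, -1],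
    [0, -1, 0, 1, -1, 0, 1, 0], [0, -1, 0, 0, 1, 0, -1, 1], [0, 1, 0, 0, -1, 1, -1, 1], [0, 1, 0, -1, 1, 0, 0, -1], [0, 0, 1, -1, 0, 0, 1, 0], [0, -1, 0, 1, -1, 1, -1, 1], [0, -1, 0, 0, 1, 0, 0, -1], [0, 1, 0, 0, 0, -1, 0, 1],
    [0, 1, 0, 0, -1, 1, 0, -1], [1, 0, -1, 0, 0, 0, 1, 0], [0, 0, 1, -1, 0, 1, -1, 1], [0, -1, 0, 1, 0, -1, 0, 1], [0, -1, 0, 1, -1, 1, 0, -1], [0, 1, 0, 0, 0, -1, 1, -1], [-1, 0, 0, 0, 0, 0, 1, 0], [1, 0, -1, 0, 0, 1, -1, 1],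
    [0, 0, 1, -1, 1, -1, 0, 1], [0, 0, 1, -1, 0, 1, 0, -1], [0, -1, 0, 1, 0, -1, 1, -1], [0, 1, 0, 0, 0, 0, -1, 0], [-1, 0, 0, 0, 0, 1, -1, 1], [1, 0, -1, 0, 1, -1, 0, 1], [1, 0, -1, 0, 0, 1, 0, -1], [0, 0, 1, 0, -1, 0, 0, 1],
    [0, 0, 1, -1, 1, -1, 1, -1], [0, -1, 0, 1, 0, 0, -1, 0], [-1, 0, 0, 0, 1, -1, 0, 1], [-1, 0, 0, 0, 0, 1, 0, -1], [1, 0, -1, 1, -1, 0, 0, 1], [1, 0, -1, 0, 1, -1, 1, -1], [0, 0, 1, 0, -1, 0, 1, -1], [0, 0, 1, -1, 1, 0, -1, 0],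
    [-1, 0, 0, 1, -1, 0, 0, 1], [-1, 0, 0, 0, 1, -1, 1, -1], [1, 1, 0, -1, 0, 0, 0, 1], [1, 0, -1, 1, -1, 0, 1, -1], [1, 0, -1, 0, 1, 0, -1, 0], [0, 0, 1, 0, -1, 1, -1, 0], [-1, 1, 1, -1, 0, 0, 0, 1], [-1, 0, 0, 1, -1, 0, 1, -1],
    [-1, 0, 0, 0, 1, 0, -1, 0], [1, -1, 0, 0, 0, 0, 0, 1], [1, 1, 0, -1, 0, 0, 1, -1], [1, 0, -1, 1, -1, 1, -1, 0], [0, 0, 1, 0, 0, -1, 0, 0], [-1, -1, 1, 0, 0, 0, 0, 1], [0, 1, -1, 0, 0, 0, 0, 1], [-1, 1, 1, -1, 0, 0, 1, -1],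
    [-1, 0, 0, 1, -1, 1, -1, 0], [1, -1, 0, 0, 0, 0, 1, -1], [1, 1, 0, -1, 0, 1, -1, 0], [1, 0, -1, 1, 0, -1, 0, 0], [0, -1, -1, 1, 0, 0, 0, 1], [-1, -1, 1, 0, 0, 0, 1, -1], [0, 1, -1, 0, 0, 0, 1, -1], [-1, 1, 1, -1, 0, 1, -1, 0],
    [-1, 0, 0, 1, 0, -1, 0, 0], [1, -1, 0, 0, 0, 1, -1, 0], [1, 1, 0, -1, 1, -1, 0, 0], [0, 0, 0, -1, 1, 0, 0, 1], [0, -1, -1, 1, 0, 0, 1, -1], [-1, -1, 1, 0, 0, 1, -1, 0], [0, 1, -1, 0, 0, 1, -1, 0], [-1, 1, 1, -1, 1, -1, 0, 0],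
    [1, -1, 0, 0, 1, -1, 0, 0], [1, 1, 0, 0, -1, 0, 0, 0], [0, 0, 0, 0, -1, 1, 0, 1], [0, 0, 0, -1, 1, 0, 1, -1], [0, -1, -1, 1, 0, 1, -1, 0], [-1, -1, 1, 0, 1, -1, 0, 0], [0, 1, -1, 0, 1, -1, 0, 0], [-1, 1, 1, 0, -1, 0, 0, 0],
    [1, -1, 0, 1, -1, 0, 0, 0], [0, 0, 0, 0, 0, -1, 1, 1], [0, 0, 0, 0, -1, 1, 1, -1], [0, 0, 0, -1, 1, 1, -1, 0], [0, -1, -1, 1, 1, -1, 0, 0], [-1, -1, 1, 1, -1, 0, 0, 0], [0, 1, -1, 1, -1, 0, 0, 0], [1, 0, 1, -1, 0, 0, 0, 0],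
    [0, 0, 0, 0, 0, 0, -1, 2], [0, 0, 0, 0, 0, -1, 2, -1], [0, 0, 0, 0, -1, 2, -1, 0], [0, 0, 0, -1, 2, -1, 0, 0], [0, -1, -1, 2, -1, 0, 0, 0], [-1, 0, 2, -1, 0, 0, 0, 0], [0, 2, 0, -1, 0, 0, 0, 0], [2, 0, -1, 0, 0, 0, 0, 0],
    [0, 0, 0, 0, 0, 0, 1, -2], [0, 0, 0, 0, 0, 1, -2, 1], [0, 0, 0, 0, 1, -2, 1, 0], [0, 0, 0, 1, -2, 1, 0, 0], [0, 1, 1, -2, 1, 0, 0, 0], [1, 0, -2, 1, 0, 0, 0, 0], [0, -2, 0, 1, 0, 0, 0, 0], [-2, 0, 1, 0, 0, 0, 0, 0],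
    [0, 0, 0, 0, 0, 1, -1, -1], [0, 0, 0, 0, 1, -1, -1, 1], [0, 0, 0, 1, -1, -1, 1, 0], [0, 1, 1, -1, -1, 1, 0, 0], [0, -1, 1, -1, 1, 0, 0, 0], [1, 1, -1, -1, 1, 0, 0, 0], [-1, 0, -1, 1, 0, 0, 0, 0], [0, 0, 0, 0, 1, -1, 0, -1],
    [0, 0, 0, 1, -1, 0, -1, 1], [0, 1, 1, -1, 0, -1, 1, 0], [0, -1, 1, 0, -1, 1, 0, 0], [1, 1, -1, 0, -1, 1, 0, 0], [1, -1, -1, 0, 1, 0, 0, 0], [-1, 1, 0, -1, 1, 0, 0, 0], [0, 0, 0, 1, -1, 0, 0, -1], [0, 1, 1, -1, 0, 0, -1, 1],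
    [0, -1, 1, 0, 0, -1, 1, 0], [1, 1, -1, 0, 0, -1, 1, 0], [1, -1, -1, 1, -1, 1, 0, 0], [-1, 1, 0, 0, -1, 1, 0, 0], [-1, -1, 0, 0, 1, 0, 0, 0], [0, 1, 1, -1, 0, 0, 0, -1], [0, -1, 1, 0, 0, 0, -1, 1], [1, 1, -1, 0, 0, 0, -1, 1],
    [1, -1, -1, 1, 0, -1, 1, 0], [-1, 1, 0, 0, 0, -1, 1, 0], [-1, -1, 0, 1, -1, 1, 0, 0], [1, 0, 0, -1, 0, 1, 0, 0], [0, -1, 1, 0, 0, 0, 0, -1], [1, 1, -1, 0, 0, 0, 0, -1], [1, -1, -1, 1, 0, 0, -1, 1], [-1, 1, 0, 0, 0, 0, -1, 1],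
    [-1, -1, 0, 1, 0, -1, 1, 0], [1, 0, 0, -1, 1, -1, 1, 0], [-1, 0, 1, -1, 0, 1, 0, 0], [1, -1, -1, 1, 0, 0, 0, -1], [-1, 1, 0, 0, 0, 0, 0, -1], [-1, -1, 0, 1, 0, 0, -1, 1], [1, 0, 0, -1, 1, 0, -1, 1], [-1, 0, 1, -1, 1, -1, 1, 0],
    [1, 0, 0, 0, -1, 0, 1, 0], [0, 0, -1, 0, 0, 1, 0, 0], [-1, -1, 0, 1, 0, 0, 0, -1], [1, 0, 0, -1, 1, 0, 0, -1], [-1, 0, 1, -1, 1, 0, -1, 1], [1, 0, 0, 0, -1, 1, -1, 1], [0, 0, -1, 0, 1, -1, 1, 0], [-1, 0, 1, 0, -1, 0, 1, 0],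
    [-1, 0, 1, -1, 1, 0, 0, -1], [1, 0, 0, 0, -1, 1, 0, -1], [0, 0, -1, 0, 1, 0, -1, 1], [-1, 0, 1, 0, -1, 1, -1, 1], [1, 0, 0, 0, 0, -1, 0, 1], [0, 0, -1, 1, -1, 0, 1, 0], [0, 0, -1, 0, 1, 0, 0, -1], [-1, 0, 1, 0, -1, 1, 0, -1],
    [1, 0, 0, 0, 0, -1, 1, -1], [0, 0, -1, 1, -1, 1, -1, 1], [-1, 0, 1, 0, 0, -1, 0, 1], [0, 1, 0, -1, 0, 0, 1, 0], [0, 0, -1, 1, -1, 1, 0, -1], [-1, 0, 1, 0, 0, -1, 1, -1], [1, 0, 0, 0, 0, 0, -1, 0], [0, 1, 0, -1, 0, 1, -1, 1],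
    [0, 0, -1, 1, 0, -1, 0, 1], [0, -1, 0, 0, 0, 0, 1, 0], [0, 1, 0, -1, 0, 1, 0, -1], [0, 0, -1, 1, 0, -1, 1, -1], [-1, 0, 1, 0, 0, 0, -1, 0], [0, -1, 0, 0, 0, 1, -1, 1], [0, 1, 0, -1, 1, -1, 0, 1], [0, -1, 0, 0, 0, 1, 0, -1],
    [0, 1, 0, -1, 1, -1, 1, -1], [0, 0, -1, 1, 0, 0, -1, 0], [0, -1, 0, 0, 1, -1, 0, 1], [0, 1, 0, 0, -1, 0, 0, 1], [0, -1, 0, 0, 1, -1, 1, -1], [0, 1, 0, 0, -1, 0, 1, -1], [0, 1, 0, -1, 1, 0, -1, 0], [0, -1, 0, 1, -1, 0, 0, 1],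
    [0, -1, 0, 1, -1, 0, 1, -1], [0, -1, 0, 0, 1, 0, -1, 0], [0, 1, 0, 0, -1, 1, -1, 0], [0, 0, 1, -1, 0, 0, 0, 1], [0, 0, 1, -1, 0, 0, 1, -1], [0, -1, 0, 1, -1, 1, -1, 0], [0, 1, 0, 0, 0, -1, 0, 0], [1, 0, -1, 0, 0, 0, 0, 1],
    [1, 0, -1, 0, 0, 0, 1, -1], [0, 0, 1, -1, 0, 1, -1, 0], [0, -1, 0, 1, 0, -1, 0, 0], [-1, 0, 0, 0, 0, 0, 0, 1], [-1, 0, 0, 0, 0, 0, 1, -1], [1, 0, -1, 0, 0, 1, -1, 0], [0, 0, 1, -1, 1, -1, 0, 0], [-1, 0, 0, 0, 0, 1, -1, 0],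
    [1, 0, -1, 0, 1, -1, 0, 0], [0, 0, 1, 0, -1, 0, 0, 0], [-1, 0, 0, 0, 1, -1, 0, 0], [1, 0, -1, 1, -1, 0, 0, 0], [-1, 0, 0, 1, -1, 0, 0, 0], [1, 1, 0, -1, 0, 0, 0, 0], [-1, 1, 1, -1, 0, 0, 0, 0], [1, -1, 0, 0, 0, 0, 0, 0],
    [-1, -1, 1, 0, 0, 0, 0, 0], [0, 1, -1, 0, 0, 0, 0, 0], [0, -1, -1, 1, 0, 0, 0, 0], [0, 0, 0, -1, 1, 0, 0, 0], [0, 0, 0, 0, -1, 1, 0, 0], [0, 0, 0, 0, 0, -1, 1, 0], [0, 0, 0, 0, 0, 0, -1, 1], [0, 0, 0, 0, 0, 0, 0, -1]]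

theorem levelE8_7_ok : checkLevel CoxeterMatrix.E₈ cartE8Cox levelE8_7 = true := by
  decide +kernel

theorem relE8Cox : checkRel CoxeterMatrix.E₈ cartE8Cox = true := by
  decide +kernel

theorem towerE8 : Tower CoxeterMatrix.E₈ cartE8Cox [levelE8_0, levelE8_1, levelE8_2, levelE8_3, levelE8_4, levelE8_5, levelE8_6, levelE8_7] where
  rel := relE8Cox
  levels := by
    intro L hL
    simp only [List.mem_cons, List.not_mem_nil, or_false] at hL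
    rcases hL with rfl | rfl | rfl | rfl | rfl | rfl | rfl | rfl
    exacts [levelE8_0_ok, levelE8_1_ok, levelE8_2_ok, levelE8_3_ok, levelE8_4_ok, levelE8_5_ok, levelE8_6_ok, levelE8_7_ok]
  widths := by decide +kernel

theorem cardE8Cox : Nat.card CoxeterMatrix.E₈.Group = 696729600 := by
  rw [towerE8.spec.1]
  decide +kernel

def trajE8 : List (List (List ℤ)) :=
  [[[1, 0, 0, 0, 0, 0, 0, 0], [-1, 0, 1, 0, 0, 0, 0, 0], [0, 0, -1, 1, 0, 0, 0, 0], [0, -1, 0, 0, 1, 0, 0, 0], [-1, 0, 0, 0, 0, 1, 0, 0], [0, -1, -1, 1, 0, 0, 1, 0], [-1, -1, 0, 0, 1, 0, 0, 1], [-1, -1, -1, 1, 0, 1, 0, 0], [0, -1, -1, 0, 1, 0, 1, 0], [-1, -1, 0, 0, 0, 1, 0, 1], [-1, -1, -1, 1, 0, 0, 1, 0], [0, -1, -1, 0, 1, 0, 0, 1], [-1, -1, 0, 0, 0, 1, 0, 0], [0, 0, -1, 0, 0, 0, 1, 0], [0, -1, 0, 0, 0, 0, 0, 1], [-1, 0, 0, 0, 0, 0, 0, 0], [1,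 0, -1, 0, 0, 0, 0, 0], [0, 0, 1, -1, 0, 0, 0, 0], [0, 1, 0, 0, -1, 0, 0, 0], [1, 0, 0, 0, 0, -1, 0, 0], [0, 1, 1, -1, 0, 0, -1, 0], [1, 1, 0, 0, -1, 0, 0, -1], [1, 1, 1, -1, 0, -1, 0, 0], [0, 1, 1, 0, -1, 0, -1, 0], [1, 1, 0, 0, 0, -1, 0, -1], [1, 1, 1, -1, 0, 0, -1, 0], [0, 1, 1, 0, -1, 0, 0, -1], [1, 1, 0, 0, 0, -1, 0, 0], [0, 0, 1, 0, 0, 0, -1, 0], [0, 1, 0, 0, 0, 0, 0, -1], [1, 0, 0, 0, 0, 0, 0, 0]],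
   [[0, 1, 0, 0, 0, 0, 0, 0], [0, -1, 0, 1, 0, 0, 0, 0], [-1, 0, 0, 0, 1, 0, 0, 0], [0, -1, -1, 1, 0, 1, 0, 0], [-1, -1, 0, 0, 1, 0, 1, 0], [-1, -1, -1, 1, 0, 1, 0, 1], [-1, -2, -1, 1, 1, 0, 1, 0], [-1, -1, -1, 0, 1, 1, 0, 1], [-1, -2, -1, 1, 0, 1, 1, 0], [-1, -1, -1, 0, 1, 0, 1, 1], [-1, -2, -1, 1, 0, 1, 0, 1], [-1, -1, -1, 0, 1, 0, 1, 0], [0, -1, -1, 0, 0, 1, 0, 1], [-1, -1, 0, 0, 0, 0, 1, 0], [0, 0, -1, 0, 0, 0, 0, 1], [0, -1, 0, 0, 0, 0, 0, 0], [0, 1, 0, -1, 0, 0, 0, 0], [1, 0, 0, 0, -1, 0, 0, 0], [0, 1, 1, -1, 0, -1, 0, 0], [1, 1, 0, 0, -1, 0, -1, 0], [1, 1, 1, -1, 0, -1, 0, -1], [1, 2, 1, -1, -1, 0, -1, 0], [1, 1, 1, 0, -1, -1, 0, -1], [1, 2, 1, -1, 0, -1, -1, 0], [1, 1, 1, 0, -1, 0, -1, -1], [1, 2, 1, -1, 0, -1, 0, -1], [1, 1, 1, 0, -1, 0, -1, 0], [0, 1, 1, 0, 0, -1, 0, -1], [1, 1, 0, 0, 0, 0, -1,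 0], [0, 0, 1, 0, 0, 0, 0, -1], [0, 1, 0, 0, 0, 0, 0, 0]],
   [[0, 0, 1, 0, 0, 0, 0, 0], [-1, 0, 0, 1, 0, 0, 0, 0], [0, -1, -1, 1, 1, 0, 0, 0], [-1, -1, 0, 0, 1, 1, 0, 0], [-1, -1, -1, 1, 0, 1, 1, 0], [-1, -2, -1, 1, 1, 0, 1, 1], [-2, -2, -1, 1, 1, 1, 0, 1], [-1, -2, -2, 1, 1, 1, 1, 0], [-1, -2, -1, 0, 1, 1, 1, 1], [-2, -2, -1, 1, 0, 1, 1, 1], [-1, -2, -2, 1, 1, 0, 1, 1], [-1, -2, -1, 0, 1, 1, 0, 1], [-1, -1, -1, 0, 0, 1, 1, 0], [0, -1, -1, 0, 0, 0, 1, 1], [-1, -1, 0, 0, 0, 0, 0, 1], [0, 0, -1, 0, 0, 0, 0, 0], [1, 0, 0, -1, 0, 0, 0, 0], [0, 1, 1, -1, -1, 0, 0, 0], [1, 1, 0, 0, -1, -1, 0, 0], [1, 1, 1, -1, 0, -1, -1, 0], [1, 2, 1, -1, -1, 0, -1, -1], [2, 2, 1, -1, -1, -1, 0, -1], [1, 2, 2, -1, -1, -1, -1, 0], [1, 2, 1, 0, -1, -1, -1, -1], [2, 2, 1, -1, 0, -1, -1, -1], [1, 2, 2, -1, -1, 0, -1, -1], [1, 2, 1,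 0, -1, -1, 0, -1], [1, 1, 1, 0, 0, -1, -1, 0], [0, 1, 1, 0, 0, 0, -1, -1], [1, 1, 0, 0, 0, 0, 0, -1], [0, 0, 1, 0, 0, 0, 0, 0]],
   [[0, 0, 0, 1, 0, 0, 0, 0], [-1, -1, 0, 1, 1, 0, 0, 0], [-1, -1, -1, 1, 1, 1, 0, 0], [-1, -2, -1, 1, 1, 1, 1, 0], [-2, -2, -1, 1, 1, 1, 1, 1], [-2, -3, -2, 2, 1, 1, 1, 1], [-2, -3, -2, 1, 2, 1, 1, 1], [-2, -3, -2, 1, 1, 2, 1, 1], [-2, -3, -2, 1, 1, 1, 2, 1], [-2, -3, -2, 1, 1, 1, 1, 2], [-2, -3, -2, 1, 1, 1, 1, 1], [-1, -2, -2, 0, 1, 1, 1, 1], [-1, -2, -1, 0, 0, 1, 1, 1], [-1, -1, -1, 0, 0, 0, 1, 1], [0, -1, -1, 0, 0, 0, 0, 1], [0, 0, 0, -1, 0, 0, 0, 0], [1, 1, 0, -1, -1, 0, 0, 0], [1, 1, 1, -1, -1, -1, 0, 0], [1, 2, 1, -1, -1, -1, -1, 0], [2, 2, 1, -1, -1, -1, -1, -1], [2, 3, 2, -2, -1, -1, -1, -1], [2, 3, 2, -1, -2, -1, -1, -1], [2, 3, 2, -1, -1, -2, -1, -1], [2, 3, 2, -1,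 -1, -1, -2, -1], [2, 3, 2, -1, -1, -1, -1, -2], [2, 3, 2, -1, -1, -1, -1, -1], [1, 2, 2, 0, -1, -1, -1, -1], [1, 2, 1, 0, 0, -1, -1, -1], [1, 1, 1, 0, 0, 0, -1, -1], [0, 1, 1, 0, 0, 0, 0, -1], [0, 0, 0, 1, 0, 0, 0, 0]],
   [[0, 0, 0, 0, 1, 0, 0, 0], [-1, -1, 0, 1, 0, 1, 0, 0], [-1, -1, -1, 1, 1, 0, 1, 0], [-1, -2, -1, 1, 1, 1, 0, 1], [-2, -2, -1, 1, 1, 1, 1, 0], [-1, -2, -2, 1, 1, 1, 1, 1], [-2, -3, -1, 1, 1, 1, 1, 1], [-2, -2, -2, 1, 1, 1, 1, 1], [-1, -3, -2, 1, 1, 1, 1, 1], [-2, -2, -1, 0, 1, 1, 1, 1], [-1, -2, -2, 1, 0, 1, 1, 1], [-1, -2, -1, 0, 1, 0, 1, 1], [-1, -1, -1, 0, 0, 1, 0, 1], [0, -1, -1, 0, 0, 0, 1, 0], [0, 0, 0, -1, 0, 0, 0, 1], [0, 0, 0, 0, -1, 0, 0, 0], [1, 1, 0, -1, 0, -1, 0, 0], [1, 1, 1, -1, -1, 0, -1, 0], [1, 2, 1, -1, -1, -1, 0, -1], [2, 2, 1, -1, -1, -1, -1, 0], [1, 2, 2, -1, -1, -1,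 -1, -1], [2, 3, 1, -1, -1, -1, -1, -1], [2, 2, 2, -1, -1, -1, -1, -1], [1, 3, 2, -1, -1, -1, -1, -1], [2, 2, 1, 0, -1, -1, -1, -1], [1, 2, 2, -1, 0, -1, -1, -1], [1, 2, 1, 0, -1, 0, -1, -1], [1, 1, 1, 0, 0, -1, 0, -1], [0, 1, 1, 0, 0, 0, -1, 0], [0, 0, 0, 1, 0, 0, 0, -1], [0, 0, 0, 0, 1, 0, 0, 0]],
   [[0, 0, 0, 0, 0, 1, 0, 0], [-1, -1, 0, 1, 0, 0, 1, 0], [-1, -1, -1, 1, 1, 0, 0, 1], [-1, -2, -1, 1, 1, 1, 0, 0], [-1, -1, -1, 0, 1, 1, 1, 0], [-1, -2, -1, 1, 0, 1, 1, 1], [-2, -2, -1, 1, 1, 0, 1, 1], [-1, -2, -2, 1, 1, 1, 0, 1], [-1, -2, -1, 0, 1, 1, 1, 0], [-1, -1, -1, 0, 0, 1, 1, 1], [-1, -2, -1, 1, 0, 0, 1, 1], [-1, -1, -1, 0, 1, 0, 0, 1], [0, -1, -1, 0, 0, 1, 0, 0], [0, 0, 0, -1, 0, 0, 1, 0], [0, 0, 0, 0, -1, 0, 0, 1], [0, 0, 0, 0, 0, -1, 0, 0], [1, 1, 0, -1, 0, 0, -1, 0], [1, 1, 1, -1, -1, 0, 0, -1], [1,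 2, 1, -1, -1, -1, 0, 0], [1, 1, 1, 0, -1, -1, -1, 0], [1, 2, 1, -1, 0, -1, -1, -1], [2, 2, 1, -1, -1, 0, -1, -1], [1, 2, 2, -1, -1, -1, 0, -1], [1, 2, 1, 0, -1, -1, -1, 0], [1, 1, 1, 0, 0, -1, -1, -1], [1, 2, 1, -1, 0, 0, -1, -1], [1, 1, 1, 0, -1, 0, 0, -1], [0, 1, 1, 0, 0, -1, 0, 0], [0, 0, 0, 1, 0, 0, -1, 0], [0, 0, 0, 0, 1, 0, 0, -1], [0, 0, 0, 0, 0, 1, 0, 0]],
   [[0, 0, 0, 0, 0, 0, 1, 0], [-1, -1, 0, 1, 0, 0, 0, 1], [-1, -1, -1, 1, 1, 0, 0, 0], [0, -1, -1, 0, 1, 1, 0, 0], [-1, -1, 0, 0, 0, 1, 1, 0], [-1, -1, -1, 1, 0, 0, 1, 1], [-1, -2, -1, 1, 1, 0, 0, 1], [-1, -1, -1, 0, 1, 1, 0, 0], [0, -1, -1, 0, 0, 1, 1, 0], [-1, -1, 0, 0, 0, 0, 1, 1], [-1, -1, -1, 1, 0, 0, 0, 1], [0, -1, -1, 0, 1, 0, 0, 0], [0, 0, 0, -1, 0, 1, 0, 0], [0, 0, 0, 0, -1, 0, 1, 0], [0, 0, 0, 0, 0, -1, 0, 1], [0, 0, 0, 0, 0, 0, -1, 0],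 [1, 1, 0, -1, 0, 0, 0, -1], [1, 1, 1, -1, -1, 0, 0, 0], [0, 1, 1, 0, -1, -1, 0, 0], [1, 1, 0, 0, 0, -1, -1, 0], [1, 1, 1, -1, 0, 0, -1, -1], [1, 2, 1, -1, -1, 0, 0, -1], [1, 1, 1, 0, -1, -1, 0, 0], [0, 1, 1, 0, 0, -1, -1, 0], [1, 1, 0, 0, 0, 0, -1, -1], [1, 1, 1, -1, 0, 0, 0, -1], [0, 1, 1, 0, -1, 0, 0, 0], [0, 0, 0, 1, 0, -1, 0, 0], [0, 0, 0, 0, 1, 0, -1, 0], [0, 0, 0, 0, 0, 1, 0, -1], [0, 0, 0, 0, 0, 0, 1, 0]],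
   [[0, 0, 0, 0, 0, 0, 0, 1], [-1, -1, 0, 1, 0, 0, 0, 0], [0, 0, -1, 0, 1, 0, 0, 0], [0, -1, 0, 0, 0, 1, 0, 0], [-1, 0, 0, 0, 0, 0, 1, 0], [0, -1, -1, 1, 0, 0, 0, 1], [-1, -1, 0, 0, 1, 0, 0, 0], [0, 0, -1, 0, 0, 1, 0, 0], [0, -1, 0, 0, 0, 0, 1, 0], [-1, 0, 0, 0, 0, 0, 0, 1], [0, -1, -1, 1, 0, 0, 0, 0], [0, 0, 0, -1, 1, 0, 0, 0], [0, 0, 0, 0, -1, 1, 0, 0], [0, 0, 0, 0, 0, -1, 1, 0], [0, 0, 0, 0, 0, 0, -1, 1], [0, 0, 0, 0, 0, 0, 0, -1], [1, 1, 0, -1, 0, 0, 0, 0], [0, 0, 1, 0, -1, 0, 0, 0], [0, 1, 0, 0, 0, -1, 0, 0], [1, 0, 0, 0, 0, 0, -1, 0], [0, 1, 1, -1, 0, 0, 0, -1], [1, 1, 0, 0, -1, 0, 0, 0], [0, 0, 1, 0, 0, -1, 0, 0], [0, 1, 0, 0, 0, 0, -1, 0], [1, 0, 0, 0, 0, 0, 0, -1], [0, 1, 1, -1, 0, 0, 0, 0], [0, 0, 0, 1, -1, 0, 0, 0], [0, 0, 0, 0, 1, -1, 0, 0], [0, 0, 0, 0, 0, 1, -1, 0], [0, 0, 0, 0, 0, 0, 1, -1],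 [0, 0, 0, 0, 0, 0, 0, 1]]]

theorem trajE8_ok : checkCoxElt cartE8Cox 30 trajE8 = true := by
  decide +kernel

theorem orderOfE8Cox : orderOf ((List.finRange 8).map (CoxeterMatrix.E₈ : CoxeterMatrix (Fin 8)).simple).prod = 30 :=
  towerE8.orderOf_coxElt trajE8_ok

end CfsgLib.Twisted.Cox
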