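import Cfsg.Agent.Lib.Twisted.CertE7Tables

/-! Checks of the certificate for type E7, part 1 (generated). -/

set_option autoImplicit false

namespace CfsgLib.Twisted

open Cfsg.Lie

theorem basicE7_4 : checkBasic chevE7 (etaE7 4) 4 = true := by
  decide +kernel

theorem nwordE7_4 : checkNWord chevE7 (sigmaE7 4) (etaE7 4) 4 = true := by
  decide +kernel

theorem hwordE7_4 : checkHWord chevE7 4 = true := by
  decide +kernel

theorem addsE7_4 : checkAdds chevE7 4 = true := by
  decide +kernel

theorem reflE7_4 : checkRefl chevE7 (sigmaE7 4) (etaE7 4) 4 = true := by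
  decide +kernel

theorem autE7_4_0 :
    (List.range' (21 * 0) 21).all (checkAutRoot chevE7 cartE7 coroE7 (sigmaE7 4) (sigmaE7 4) (etaE7 4) (reflN chevE7 4)) = true := by
  decide +kernel

theorem autE7_4_1 :
    (List.range' (21 * 1) 21).all (checkAutRoot chevE7 cartE7 coroE7 (sigmaE7 4) (sigmaE7 4) (etaE7 4) (reflN chevE7 4)) = true := by
  decide +kernel

theorem autE7_4_2 :
    (List.range' (21 * 2) 21).all (checkAutRoot chevE7 cartE7 coroE7 (sigmaE7 4) (sigmaE7 4) (etaE7 4) (reflN chevE7 4)) = true := by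
  decide +kernel

theorem autE7_4_3 :
    (List.range' (21 * 3) 21).all (checkAutRoot chevE7 cartE7 coroE7 (sigmaE7 4) (sigmaE7 4) (etaE7 4) (reflN chevE7 4)) = true := by
  decide +kernel

theorem autE7_4_4 :
    (List.range' (21 * 4) 21).all (checkAutRoot chevE7 cartE7 coroE7 (sigmaE7 4) (sigmaE7 4) (etaE7 4) (reflN chevE7 4)) = true := by
  decide +kernel

theorem autE7_4_5 :
    (List.range' (21 * 5) 21).all (checkAutRoot chevE7 cartE7 coroE7 (sigmaE7 4) (sigmaE7 4) (etaE7 4) (reflN chevE7 4)) = true := by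
  decide +kernel

theorem simpleE7_4 : checkSimple chevE7 cartE7 coroE7 (sigmaE7 4) (etaE7 4) 4 = true :=
  checkSimple_of_parts chevE7 basicE7_4 nwordE7_4 hwordE7_4 addsE7_4 reflE7_4 21 6 (by decide)
    (by
      intro k hk
      interval_cases k
      · exact autE7_4_0
      · exact autE7_4_1
      · exact autE7_4_2
      · exact autE7_4_3
      · exact autE7_4_4
      · exact autE7_4_5
    )

theorem basicE7_5 : checkBasic chevE7 (etaE7 5) 5 = true := by
  decide +kernel

theorem nwordE7_5 : checkNWord chevE7 (sigmaE7 5) (etaE7 5) 5 = true := by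
  decide +kernel

theorem hwordE7_5 : checkHWord chevE7 5 = true := by
  decide +kernel

theorem addsE7_5 : checkAdds chevE7 5 = true := by
  decide +kernel

theorem reflE7_5 : checkRefl chevE7 (sigmaE7 5) (etaE7 5) 5 = true := by
  decide +kernel

theorem autE7_5_0 :
    (List.range' (21 * 0) 21).all (checkAutRoot chevE7 cartE7 coroE7 (sigmaE7 5) (sigmaE7 5) (etaE7 5) (reflN chevE7 5)) = true := by
  decide +kernel

theorem autE7_5_1 :
    (List.range' (21 * 1) 21).all (checkAutRoot chevE7 cartE7 coroE7 (sigmaE7 5) (sigmaE7 5) (etaE7 5) (reflN chevE7 5)) = true := by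
  decide +kernel

theorem autE7_5_2 :
    (List.range' (21 * 2) 21).all (checkAutRoot chevE7 cartE7 coroE7 (sigmaE7 5) (sigmaE7 5) (etaE7 5) (reflN chevE7 5)) = true := by
  decide +kernel

theorem autE7_5_3 :
    (List.range' (21 * 3) 21).all (checkAutRoot chevE7 cartE7 coroE7 (sigmaE7 5) (sigmaE7 5) (etaE7 5) (reflN chevE7 5)) = true := by
  decide +kernel

theorem autE7_5_4 :
    (List.range' (21 * 4) 21).all (checkAutRoot chevE7 cartE7 coroE7 (sigmaE7 5) (sigmaE7 5) (etaE7 5) (reflN chevE7 5)) = true := by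
  decide +kernel

theorem autE7_5_5 :
    (List.range' (21 * 5) 21).all (checkAutRoot chevE7 cartE7 coroE7 (sigmaE7 5) (sigmaE7 5) (etaE7 5) (reflN chevE7 5)) = true := by
  decide +kernel

theorem simpleE7_5 : checkSimple chevE7 cartE7 coroE7 (sigmaE7 5) (etaE7 5) 5 = true :=
  checkSimple_of_parts chevE7 basicE7_5 nwordE7_5 hwordE7_5 addsE7_5 reflE7_5 21 6 (by decide)
    (by
      intro k hk
      interval_cases k
      · exact autE7_5_0
      · exact autE7_5_1
      · exact autE7_5_2
      · exact autE7_5_3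
      · exact autE7_5_4
      · exact autE7_5_5
    )

theorem basicE7_6 : checkBasic chevE7 (etaE7 6) 6 = true := by
  decide +kernel

theorem nwordE7_6 : checkNWord chevE7 (sigmaE7 6) (etaE7 6) 6 = true := by
  decide +kernel

theorem hwordE7_6 : checkHWord chevE7 6 = true := by
  decide +kernel

theorem addsE7_6 : checkAdds chevE7 6 = true := by
  decide +kernel

theorem reflE7_6 : checkRefl chevE7 (sigmaE7 6) (etaE7 6) 6 = true := by
  decide +kernel

theorem autE7_6_0 :
    (List.range' (21 * 0) 21).all (checkAutRoot chevE7 cartE7 coroE7 (sigmaE7 6) (sigmaE7 6) (etaE7 6) (reflN chevE7 6)) = true := by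
  decide +kernel

theorem autE7_6_1 :
    (List.range' (21 * 1) 21).all (checkAutRoot chevE7 cartE7 coroE7 (sigmaE7 6) (sigmaE7 6) (etaE7 6) (reflN chevE7 6)) = true := by
  decide +kernel

theorem autE7_6_2 :
    (List.range' (21 * 2) 21).all (checkAutRoot chevE7 cartE7 coroE7 (sigmaE7 6) (sigmaE7 6) (etaE7 6) (reflN chevE7 6)) = true := by
  decide +kernel

theorem autE7_6_3 :
    (List.range' (21 * 3) 21).all (checkAutRoot chevE7 cartE7 coroE7 (sigmaE7 6) (sigmaE7 6) (etaE7 6) (reflN chevE7 6)) = true := by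
  decide +kernel

theorem autE7_6_4 :
    (List.range' (21 * 4) 21).all (checkAutRoot chevE7 cartE7 coroE7 (sigmaE7 6) (sigmaE7 6) (etaE7 6) (reflN chevE7 6)) = true := by
  decide +kernel

theorem autE7_6_5 :
    (List.range' (21 * 5) 21).all (checkAutRoot chevE7 cartE7 coroE7 (sigmaE7 6) (sigmaE7 6) (etaE7 6) (reflN chevE7 6)) = true := by
  decide +kernel

theorem simpleE7_6 : checkSimple chevE7 cartE7 coroE7 (sigmaE7 6) (etaE7 6) 6 = true :=
  checkSimple_of_parts chevE7 basicE7_6 nwordE7_6 hwordE7_6 addsE7_6 reflE7_6 21 6 (by decide)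
    (by
      intro k hk
      interval_cases k
      · exact autE7_6_0
      · exact autE7_6_1
      · exact autE7_6_2
      · exact autE7_6_3
      · exact autE7_6_4
      · exact autE7_6_5
    )

end CfsgLib.Twisted
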