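import Cfsg.Agent.Lib.Twisted.CertE8Tables

/-! Checks of the certificate for type E8, part 1 (generated). -/

set_option autoImplicit false

namespace CfsgLib.Twisted

open Cfsg.Lie

theorem basicE8_2 : checkBasic chevE8 (etaE8 2) 2 = true := by
  decide +kernel

theorem nwordE8_2 : checkNWord chevE8 (sigmaE8 2) (etaE8 2) 2 = true := by
  decide +kernel

theorem hwordE8_2 : checkHWord chevE8 2 = true := by
  decide +kernel

theorem addsE8_2 : checkAdds chevE8 2 = true := by
  decide +kernel

theorem reflE8_2 : checkRefl chevE8 (sigmaE8 2) (etaE8 2) 2 = true := by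
  decide +kernel

theorem autE8_2_0 :
    (List.range' (30 * 0) 30).all (checkAutRoot chevE8 cartE8 coroE8 (sigmaE8 2) (sigmaE8 2) (etaE8 2) (reflN chevE8 2)) = true := by
  decide +kernel

theorem autE8_2_1 :
    (List.range' (30 * 1) 30).all (checkAutRoot chevE8 cartE8 coroE8 (sigmaE8 2) (sigmaE8 2) (etaE8 2) (reflN chevE8 2)) = true := by
  decide +kernel

theorem autE8_2_2 :
    (List.range' (30 * 2) 30).all (checkAutRoot chevE8 cartE8 coroE8 (sigmaE8 2) (sigmaE8 2) (etaE8 2) (reflN chevE8 2)) = true := by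
  decide +kernel

theorem autE8_2_3 :
    (List.range' (30 * 3) 30).all (checkAutRoot chevE8 cartE8 coroE8 (sigmaE8 2) (sigmaE8 2) (etaE8 2) (reflN chevE8 2)) = true := by
  decide +kernel

theorem autE8_2_4 :
    (List.range' (30 * 4) 30).all (checkAutRoot chevE8 cartE8 coroE8 (sigmaE8 2) (sigmaE8 2) (etaE8 2) (reflN chevE8 2)) = true := by
  decide +kernel

theorem autE8_2_5 :
    (List.range' (30 * 5) 30).all (checkAutRoot chevE8 cartE8 coroE8 (sigmaE8 2) (sigmaE8 2) (etaE8 2) (reflN chevE8 2)) = true := by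
  decide +kernel

theorem autE8_2_6 :
    (List.range' (30 * 6) 30).all (checkAutRoot chevE8 cartE8 coroE8 (sigmaE8 2) (sigmaE8 2) (etaE8 2) (reflN chevE8 2)) = true := by
  decide +kernel

theorem autE8_2_7 :
    (List.range' (30 * 7) 30).all (checkAutRoot chevE8 cartE8 coroE8 (sigmaE8 2) (sigmaE8 2) (etaE8 2) (reflN chevE8 2)) = true := by
  decide +kernel

theorem simpleE8_2 : checkSimple chevE8 cartE8 coroE8 (sigmaE8 2) (etaE8 2) 2 = true :=
  checkSimple_of_parts chevE8 basicE8_2 nwordE8_2 hwordE8_2 addsE8_2 reflE8_2 30 8 (by decide)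
    (by
      intro k hk
      interval_cases k
      · exact autE8_2_0
      · exact autE8_2_1
      · exact autE8_2_2
      · exact autE8_2_3
      · exact autE8_2_4
      · exact autE8_2_5
      · exact autE8_2_6
      · exact autE8_2_7
    )

theorem basicE8_3 : checkBasic chevE8 (etaE8 3) 3 = true := by
  decide +kernel

theorem nwordE8_3 : checkNWord chevE8 (sigmaE8 3) (etaE8 3) 3 = true := by
  decide +kernel

theorem hwordE8_3 : checkHWord chevE8 3 = true := by
  decide +kernel

theorem addsE8_3 : checkAdds chevE8 3 = true := by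
  decide +kernel

theorem reflE8_3 : checkRefl chevE8 (sigmaE8 3) (etaE8 3) 3 = true := by
  decide +kernel

theorem autE8_3_0 :
    (List.range' (30 * 0) 30).all (checkAutRoot chevE8 cartE8 coroE8 (sigmaE8 3) (sigmaE8 3) (etaE8 3) (reflN chevE8 3)) = true := by
  decide +kernel

theorem autE8_3_1 :
    (List.range' (30 * 1) 30).all (checkAutRoot chevE8 cartE8 coroE8 (sigmaE8 3) (sigmaE8 3) (etaE8 3) (reflN chevE8 3)) = true := by
  decide +kernel

theorem autE8_3_2 :
    (List.range' (30 * 2) 30).all (checkAutRoot chevE8 cartE8 coroE8 (sigmaE8 3) (sigmaE8 3) (etaE8 3) (reflN chevE8 3)) = true := by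
  decide +kernel

theorem autE8_3_3 :
    (List.range' (30 * 3) 30).all (checkAutRoot chevE8 cartE8 coroE8 (sigmaE8 3) (sigmaE8 3) (etaE8 3) (reflN chevE8 3)) = true := by
  decide +kernel

theorem autE8_3_4 :
    (List.range' (30 * 4) 30).all (checkAutRoot chevE8 cartE8 coroE8 (sigmaE8 3) (sigmaE8 3) (etaE8 3) (reflN chevE8 3)) = true := by
  decide +kernel

theorem autE8_3_5 :
    (List.range' (30 * 5) 30).all (checkAutRoot chevE8 cartE8 coroE8 (sigmaE8 3) (sigmaE8 3) (etaE8 3) (reflN chevE8 3)) = true := by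
  decide +kernel

theorem autE8_3_6 :
    (List.range' (30 * 6) 30).all (checkAutRoot chevE8 cartE8 coroE8 (sigmaE8 3) (sigmaE8 3) (etaE8 3) (reflN chevE8 3)) = true := by
  decide +kernel

theorem autE8_3_7 :
    (List.range' (30 * 7) 30).all (checkAutRoot chevE8 cartE8 coroE8 (sigmaE8 3) (sigmaE8 3) (etaE8 3) (reflN chevE8 3)) = true := by
  decide +kernel

theorem simpleE8_3 : checkSimple chevE8 cartE8 coroE8 (sigmaE8 3) (etaE8 3) 3 = true :=
  checkSimple_of_parts chevE8 basicE8_3 nwordE8_3 hwordE8_3 addsE8_3 reflE8_3 30 8 (by decide)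
    (by
      intro k hk
      interval_cases k
      · exact autE8_3_0
      · exact autE8_3_1
      · exact autE8_3_2
      · exact autE8_3_3
      · exact autE8_3_4
      · exact autE8_3_5
      · exact autE8_3_6
      · exact autE8_3_7
    )

end CfsgLib.Twisted
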