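import Cfsg.Agent.Lib.Twisted.CertE8Tables

/-! Checks of the certificate for type E8, part 2 (generated). -/

set_option autoImplicit false

namespace CfsgLib.Twisted

open Cfsg.Lie

theorem basicE8_4 : checkBasic chevE8 (etaE8 4) 4 = true := by
  decide +kernel

theorem nwordE8_4 : checkNWord chevE8 (sigmaE8 4) (etaE8 4) 4 = true := by
  decide +kernel

theorem hwordE8_4 : checkHWord chevE8 4 = true := by
  decide +kernel

theorem addsE8_4 : checkAdds chevE8 4 = true := by
  decide +kernel

theorem reflE8_4 : checkRefl chevE8 (sigmaE8 4) (etaE8 4) 4 = true := by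
  decide +kernel

theorem autE8_4_0 :
    (List.range' (30 * 0) 30).all (checkAutRoot chevE8 cartE8 coroE8 (sigmaE8 4) (sigmaE8 4) (etaE8 4) (reflN chevE8 4)) = true := by
  decide +kernel

theorem autE8_4_1 :
    (List.range' (30 * 1) 30).all (checkAutRoot chevE8 cartE8 coroE8 (sigmaE8 4) (sigmaE8 4) (etaE8 4) (reflN chevE8 4)) = true := by
  decide +kernel

theorem autE8_4_2 :
    (List.range' (30 * 2) 30).all (checkAutRoot chevE8 cartE8 coroE8 (sigmaE8 4) (sigmaE8 4) (etaE8 4) (reflN chevE8 4)) = true := by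
  decide +kernel

theorem autE8_4_3 :
    (List.range' (30 * 3) 30).all (checkAutRoot chevE8 cartE8 coroE8 (sigmaE8 4) (sigmaE8 4) (etaE8 4) (reflN chevE8 4)) = true := by
  decide +kernel

theorem autE8_4_4 :
    (List.range' (30 * 4) 30).all (checkAutRoot chevE8 cartE8 coroE8 (sigmaE8 4) (sigmaE8 4) (etaE8 4) (reflN chevE8 4)) = true := by
  decide +kernel

theorem autE8_4_5 :
    (List.range' (30 * 5) 30).all (checkAutRoot chevE8 cartE8 coroE8 (sigmaE8 4) (sigmaE8 4) (etaE8 4) (reflN chevE8 4)) = true := by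
  decide +kernel

theorem autE8_4_6 :
    (List.range' (30 * 6) 30).all (checkAutRoot chevE8 cartE8 coroE8 (sigmaE8 4) (sigmaE8 4) (etaE8 4) (reflN chevE8 4)) = true := by
  decide +kernel

theorem autE8_4_7 :
    (List.range' (30 * 7) 30).all (checkAutRoot chevE8 cartE8 coroE8 (sigmaE8 4) (sigmaE8 4) (etaE8 4) (reflN chevE8 4)) = true := by
  decide +kernel

theorem simpleE8_4 : checkSimple chevE8 cartE8 coroE8 (sigmaE8 4) (etaE8 4) 4 = true :=
  checkSimple_of_parts chevE8 basicE8_4 nwordE8_4 hwordE8_4 addsE8_4 reflE8_4 30 8 (by decide)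
    (by
      intro k hk
      interval_cases k
      · exact autE8_4_0
      · exact autE8_4_1
      · exact autE8_4_2
      · exact autE8_4_3
      · exact autE8_4_4
      · exact autE8_4_5
      · exact autE8_4_6
      · exact autE8_4_7
    )

theorem basicE8_5 : checkBasic chevE8 (etaE8 5) 5 = true := by
  decide +kernel

theorem nwordE8_5 : checkNWord chevE8 (sigmaE8 5) (etaE8 5) 5 = true := by
  decide +kernel

theorem hwordE8_5 : checkHWord chevE8 5 = true := by
  decide +kernel

theorem addsE8_5 : checkAdds chevE8 5 = true := by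
  decide +kernel

theorem reflE8_5 : checkRefl chevE8 (sigmaE8 5) (etaE8 5) 5 = true := by
  decide +kernel

theorem autE8_5_0 :
    (List.range' (30 * 0) 30).all (checkAutRoot chevE8 cartE8 coroE8 (sigmaE8 5) (sigmaE8 5) (etaE8 5) (reflN chevE8 5)) = true := by
  decide +kernel

theorem autE8_5_1 :
    (List.range' (30 * 1) 30).all (checkAutRoot chevE8 cartE8 coroE8 (sigmaE8 5) (sigmaE8 5) (etaE8 5) (reflN chevE8 5)) = true := by
  decide +kernel

theorem autE8_5_2 :
    (List.range' (30 * 2) 30).all (checkAutRoot chevE8 cartE8 coroE8 (sigmaE8 5) (sigmaE8 5) (etaE8 5) (reflN chevE8 5)) = true := by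
  decide +kernel

theorem autE8_5_3 :
    (List.range' (30 * 3) 30).all (checkAutRoot chevE8 cartE8 coroE8 (sigmaE8 5) (sigmaE8 5) (etaE8 5) (reflN chevE8 5)) = true := by
  decide +kernel

theorem autE8_5_4 :
    (List.range' (30 * 4) 30).all (checkAutRoot chevE8 cartE8 coroE8 (sigmaE8 5) (sigmaE8 5) (etaE8 5) (reflN chevE8 5)) = true := by
  decide +kernel

theorem autE8_5_5 :
    (List.range' (30 * 5) 30).all (checkAutRoot chevE8 cartE8 coroE8 (sigmaE8 5) (sigmaE8 5) (etaE8 5) (reflN chevE8 5)) = true := by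
  decide +kernel

theorem autE8_5_6 :
    (List.range' (30 * 6) 30).all (checkAutRoot chevE8 cartE8 coroE8 (sigmaE8 5) (sigmaE8 5) (etaE8 5) (reflN chevE8 5)) = true := by
  decide +kernel

theorem autE8_5_7 :
    (List.range' (30 * 7) 30).all (checkAutRoot chevE8 cartE8 coroE8 (sigmaE8 5) (sigmaE8 5) (etaE8 5) (reflN chevE8 5)) = true := by
  decide +kernel

theorem simpleE8_5 : checkSimple chevE8 cartE8 coroE8 (sigmaE8 5) (etaE8 5) 5 = true :=
  checkSimple_of_parts chevE8 basicE8_5 nwordE8_5 hwordE8_5 addsE8_5 reflE8_5 30 8 (by decide)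
    (by
      intro k hk
      interval_cases k
      · exact autE8_5_0
      · exact autE8_5_1
      · exact autE8_5_2
      · exact autE8_5_3
      · exact autE8_5_4
      · exact autE8_5_5
      · exact autE8_5_6
      · exact autE8_5_7
    )

end CfsgLib.Twisted
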