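import Cfsg.Agent.Lib.Twisted.CertE8Tables

/-! Checks of the certificate for type E8, part 3 (generated). -/

set_option autoImplicit false

namespace CfsgLib.Twisted

open Cfsg.Lie

theorem basicE8_6 : checkBasic chevE8 (etaE8 6) 6 = true := by
  decide +kernel

theorem nwordE8_6 : checkNWord chevE8 (sigmaE8 6) (etaE8 6) 6 = true := by
  decide +kernel

theorem hwordE8_6 : checkHWord chevE8 6 = true := by
  decide +kernel

theorem addsE8_6 : checkAdds chevE8 6 = true := by
  decide +kernel

theorem reflE8_6 : checkRefl chevE8 (sigmaE8 6) (etaE8 6) 6 = true := by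
  decide +kernel

theorem autE8_6_0 :
    (List.range' (30 * 0) 30).all (checkAutRoot chevE8 cartE8 coroE8 (sigmaE8 6) (sigmaE8 6) (etaE8 6) (reflN chevE8 6)) = true := by
  decide +kernel

theorem autE8_6_1 :
    (List.range' (30 * 1) 30).all (checkAutRoot chevE8 cartE8 coroE8 (sigmaE8 6) (sigmaE8 6) (etaE8 6) (reflN chevE8 6)) = true := by
  decide +kernel

theorem autE8_6_2 :
    (List.range' (30 * 2) 30).all (checkAutRoot chevE8 cartE8 coroE8 (sigmaE8 6) (sigmaE8 6) (etaE8 6) (reflN chevE8 6)) = true := by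
  decide +kernel

theorem autE8_6_3 :
    (List.range' (30 * 3) 30).all (checkAutRoot chevE8 cartE8 coroE8 (sigmaE8 6) (sigmaE8 6) (etaE8 6) (reflN chevE8 6)) = true := by
  decide +kernel

theorem autE8_6_4 :
    (List.range' (30 * 4) 30).all (checkAutRoot chevE8 cartE8 coroE8 (sigmaE8 6) (sigmaE8 6) (etaE8 6) (reflN chevE8 6)) = true := by
  decide +kernel

theorem autE8_6_5 :
    (List.range' (30 * 5) 30).all (checkAutRoot chevE8 cartE8 coroE8 (sigmaE8 6) (sigmaE8 6) (etaE8 6) (reflN chevE8 6)) = true := by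
  decide +kernel

theorem autE8_6_6 :
    (List.range' (30 * 6) 30).all (checkAutRoot chevE8 cartE8 coroE8 (sigmaE8 6) (sigmaE8 6) (etaE8 6) (reflN chevE8 6)) = true := by
  decide +kernel

theorem autE8_6_7 :
    (List.range' (30 * 7) 30).all (checkAutRoot chevE8 cartE8 coroE8 (sigmaE8 6) (sigmaE8 6) (etaE8 6) (reflN chevE8 6)) = true := by
  decide +kernel

theorem simpleE8_6 : checkSimple chevE8 cartE8 coroE8 (sigmaE8 6) (etaE8 6) 6 = true :=
  checkSimple_of_parts chevE8 basicE8_6 nwordE8_6 hwordE8_6 addsE8_6 reflE8_6 30 8 (by decide)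
    (by
      intro k hk
      interval_cases k
      · exact autE8_6_0
      · exact autE8_6_1
      · exact autE8_6_2
      · exact autE8_6_3
      · exact autE8_6_4
      · exact autE8_6_5
      · exact autE8_6_6
      · exact autE8_6_7
    )

theorem basicE8_7 : checkBasic chevE8 (etaE8 7) 7 = true := by
  decide +kernel

theorem nwordE8_7 : checkNWord chevE8 (sigmaE8 7) (etaE8 7) 7 = true := by
  decide +kernel

theorem hwordE8_7 : checkHWord chevE8 7 = true := by
  decide +kernel

theorem addsE8_7 : checkAdds chevE8 7 = true := by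
  decide +kernel

theorem reflE8_7 : checkRefl chevE8 (sigmaE8 7) (etaE8 7) 7 = true := by
  decide +kernel

theorem autE8_7_0 :
    (List.range' (30 * 0) 30).all (checkAutRoot chevE8 cartE8 coroE8 (sigmaE8 7) (sigmaE8 7) (etaE8 7) (reflN chevE8 7)) = true := by
  decide +kernel

theorem autE8_7_1 :
    (List.range' (30 * 1) 30).all (checkAutRoot chevE8 cartE8 coroE8 (sigmaE8 7) (sigmaE8 7) (etaE8 7) (reflN chevE8 7)) = true := by
  decide +kernel

theorem autE8_7_2 :
    (List.range' (30 * 2) 30).all (checkAutRoot chevE8 cartE8 coroE8 (sigmaE8 7) (sigmaE8 7) (etaE8 7) (reflN chevE8 7)) = true := by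
  decide +kernel

theorem autE8_7_3 :
    (List.range' (30 * 3) 30).all (checkAutRoot chevE8 cartE8 coroE8 (sigmaE8 7) (sigmaE8 7) (etaE8 7) (reflN chevE8 7)) = true := by
  decide +kernel

theorem autE8_7_4 :
    (List.range' (30 * 4) 30).all (checkAutRoot chevE8 cartE8 coroE8 (sigmaE8 7) (sigmaE8 7) (etaE8 7) (reflN chevE8 7)) = true := by
  decide +kernel

theorem autE8_7_5 :
    (List.range' (30 * 5) 30).all (checkAutRoot chevE8 cartE8 coroE8 (sigmaE8 7) (sigmaE8 7) (etaE8 7) (reflN chevE8 7)) = true := by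
  decide +kernel

theorem autE8_7_6 :
    (List.range' (30 * 6) 30).all (checkAutRoot chevE8 cartE8 coroE8 (sigmaE8 7) (sigmaE8 7) (etaE8 7) (reflN chevE8 7)) = true := by
  decide +kernel

theorem autE8_7_7 :
    (List.range' (30 * 7) 30).all (checkAutRoot chevE8 cartE8 coroE8 (sigmaE8 7) (sigmaE8 7) (etaE8 7) (reflN chevE8 7)) = true := by
  decide +kernel

theorem simpleE8_7 : checkSimple chevE8 cartE8 coroE8 (sigmaE8 7) (etaE8 7) 7 = true :=
  checkSimple_of_parts chevE8 basicE8_7 nwordE8_7 hwordE8_7 addsE8_7 reflE8_7 30 8 (by decide)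
    (by
      intro k hk
      interval_cases k
      · exact autE8_7_0
      · exact autE8_7_1
      · exact autE8_7_2
      · exact autE8_7_3
      · exact autE8_7_4
      · exact autE8_7_5
      · exact autE8_7_6
      · exact autE8_7_7
    )

end CfsgLib.Twisted
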