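import Mathlib

/-! In a perfect group no non-trivial element of an abelian Sylow subgroup is central in its normaliser. -/

set_option autoImplicit false

namespace CfsgLib.Twisted

theorem eq_one_of_central_normalizer {G : Type*} [Group G] [Finite G] (hperf : commutator G = ⊤) {p : ℕ}
    [Fact p.Prime] (P : Sylow p G) [IsMulCommutative (P : Subgroup G)] {a : G} (ha : a ∈ P)
    (hc : ∀ n ∈ Subgroup.normalizer ((P : Subgroup G) : Set G), n⁻¹ * a * n = a) : a = 1 := by
  let _ : CommGroup (P : Subgroup G) :=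
    { (inferInstance : Group (P : Subgroup G)) with mul_comm := fun x y => mul_comm' x y }
  have key : ∀ (k : ℕ) (g₀ : G), g₀⁻¹ * a ^ k * g₀ ∈ (P : Subgroup G) → g₀⁻¹ * a ^ k * g₀ = a ^ k := by
    intro k g₀ hk
    obtain ⟨n, hn, e⟩ := Sylow.conj_eq_normalizer_conj_of_mem P (a ^ k) g₀ (pow_mem ha k) hk
    rw [e]
    calc n⁻¹ * a ^ k * n = (n⁻¹ * a * n) ^ k := by
          have h := map_pow (MulAut.conj n⁻¹) a k
          simpa using h
      _ = a ^ k := by rw [hc n hn]
  have h1 := MonoidHom.transfer_eq_pow (MonoidHom.id (P : Subgroup G)) a key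
  have h2 : MonoidHom.transfer (MonoidHom.id (P : Subgroup G)) a = 1 :=
    Abelianization.commutator_subset_ker _ (hperf ▸ Subgroup.mem_top a)
  rw [h2] at h1
  have h3 : a ^ (P : Subgroup G).index = 1 := (congrArg Subtype.val h1).symm
  obtain ⟨k, hk⟩ := P.2 ⟨a, ha⟩
  have h4 : orderOf a ∣ p ^ k := orderOf_dvd_of_pow_eq_one (congrArg Subtype.val hk)
  have hco : Nat.Coprime (p ^ k) (P : Subgroup G).index :=
    Nat.Coprime.pow_left _ ((Nat.Prime.coprime_iff_not_dvd Fact.out).2 P.not_dvd_index)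
  exact orderOf_eq_one_iff.1 (Nat.eq_one_of_dvd_coprimes hco h4 (orderOf_dvd_of_pow_eq_one h3))

end CfsgLib.Twisted
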