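import Cfsg.Agent.Lib.Twisted.CertE7Tables

/-! Checks of the certificate for type E7, part 0 (generated). -/

set_option autoImplicit false

namespace CfsgLib.Twisted

open Cfsg.Lie

theorem basicE7_0 : checkBasic chevE7 (etaE7 0) 0 = true := by
  decide +kernel

theorem nwordE7_0 : checkNWord chevE7 (sigmaE7 0) (etaE7 0) 0 = true := by
  decide +kernel

theorem hwordE7_0 : checkHWord chevE7 0 = true := by
  decide +kernel

theorem addsE7_0 : checkAdds chevE7 0 = true := by
  decide +kernel

theorem reflE7_0 : checkRefl chevE7 (sigmaE7 0) (etaE7 0) 0 = true := by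
  decide +kernel

theorem autE7_0_0 :
    (List.range' (21 * 0) 21).all (checkAutRoot chevE7 cartE7 coroE7 (sigmaE7 0) (sigmaE7 0) (etaE7 0) (reflN chevE7 0)) = true := by
  decide +kernel

theorem autE7_0_1 :
    (List.range' (21 * 1) 21).all (checkAutRoot chevE7 cartE7 coroE7 (sigmaE7 0) (sigmaE7 0) (etaE7 0) (reflN chevE7 0)) = true := by
  decide +kernel

theorem autE7_0_2 :
    (List.range' (21 * 2) 21).all (checkAutRoot chevE7 cartE7 coroE7 (sigmaE7 0) (sigmaE7 0) (etaE7 0) (reflN chevE7 0)) = true := by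
  decide +kernel

theorem autE7_0_3 :
    (List.range' (21 * 3) 21).all (checkAutRoot chevE7 cartE7 coroE7 (sigmaE7 0) (sigmaE7 0) (etaE7 0) (reflN chevE7 0)) = true := by
  decide +kernel

theorem autE7_0_4 :
    (List.range' (21 * 4) 21).all (checkAutRoot chevE7 cartE7 coroE7 (sigmaE7 0) (sigmaE7 0) (etaE7 0) (reflN chevE7 0)) = true := by
  decide +kernel

theorem autE7_0_5 :
    (List.range' (21 * 5) 21).all (checkAutRoot chevE7 cartE7 coroE7 (sigmaE7 0) (sigmaE7 0) (etaE7 0) (reflN chevE7 0)) = true := by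
  decide +kernel

theorem simpleE7_0 : checkSimple chevE7 cartE7 coroE7 (sigmaE7 0) (etaE7 0) 0 = true :=
  checkSimple_of_parts chevE7 basicE7_0 nwordE7_0 hwordE7_0 addsE7_0 reflE7_0 21 6 (by decide)
    (by
      intro k hk
      interval_cases k
      · exact autE7_0_0
      · exact autE7_0_1
      · exact autE7_0_2
      · exact autE7_0_3
      · exact autE7_0_4
      · exact autE7_0_5
    )

theorem basicE7_1 : checkBasic chevE7 (etaE7 1) 1 = true := by
  decide +kernel

theorem nwordE7_1 : checkNWord chevE7 (sigmaE7 1) (etaE7 1) 1 = true := by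
  decide +kernel

theorem hwordE7_1 : checkHWord chevE7 1 = true := by
  decide +kernel

theorem addsE7_1 : checkAdds chevE7 1 = true := by
  decide +kernel

theorem reflE7_1 : checkRefl chevE7 (sigmaE7 1) (etaE7 1) 1 = true := by
  decide +kernel

theorem autE7_1_0 :
    (List.range' (21 * 0) 21).all (checkAutRoot chevE7 cartE7 coroE7 (sigmaE7 1) (sigmaE7 1) (etaE7 1) (reflN chevE7 1)) = true := by
  decide +kernel

theorem autE7_1_1 :
    (List.range' (21 * 1) 21).all (checkAutRoot chevE7 cartE7 coroE7 (sigmaE7 1) (sigmaE7 1) (etaE7 1) (reflN chevE7 1)) = true := by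
  decide +kernel

theorem autE7_1_2 :
    (List.range' (21 * 2) 21).all (checkAutRoot chevE7 cartE7 coroE7 (sigmaE7 1) (sigmaE7 1) (etaE7 1) (reflN chevE7 1)) = true := by
  decide +kernel

theorem autE7_1_3 :
    (List.range' (21 * 3) 21).all (checkAutRoot chevE7 cartE7 coroE7 (sigmaE7 1) (sigmaE7 1) (etaE7 1) (reflN chevE7 1)) = true := by
  decide +kernel

theorem autE7_1_4 :
    (List.range' (21 * 4) 21).all (checkAutRoot chevE7 cartE7 coroE7 (sigmaE7 1) (sigmaE7 1) (etaE7 1) (reflN chevE7 1)) = true := by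
  decide +kernel

theorem autE7_1_5 :
    (List.range' (21 * 5) 21).all (checkAutRoot chevE7 cartE7 coroE7 (sigmaE7 1) (sigmaE7 1) (etaE7 1) (reflN chevE7 1)) = true := by
  decide +kernel

theorem simpleE7_1 : checkSimple chevE7 cartE7 coroE7 (sigmaE7 1) (etaE7 1) 1 = true :=
  checkSimple_of_parts chevE7 basicE7_1 nwordE7_1 hwordE7_1 addsE7_1 reflE7_1 21 6 (by decide)
    (by
      intro k hk
      interval_cases k
      · exact autE7_1_0
      · exact autE7_1_1
      · exact autE7_1_2
      · exact autE7_1_3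
      · exact autE7_1_4
      · exact autE7_1_5
    )

theorem basicE7_2 : checkBasic chevE7 (etaE7 2) 2 = true := by
  decide +kernel

theorem nwordE7_2 : checkNWord chevE7 (sigmaE7 2) (etaE7 2) 2 = true := by
  decide +kernel

theorem hwordE7_2 : checkHWord chevE7 2 = true := by
  decide +kernel

theorem addsE7_2 : checkAdds chevE7 2 = true := by
  decide +kernel

theorem reflE7_2 : checkRefl chevE7 (sigmaE7 2) (etaE7 2) 2 = true := by
  decide +kernel

theorem autE7_2_0 :
    (List.range' (21 * 0) 21).all (checkAutRoot chevE7 cartE7 coroE7 (sigmaE7 2) (sigmaE7 2) (etaE7 2) (reflN chevE7 2)) = true := by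
  decide +kernel

theorem autE7_2_1 :
    (List.range' (21 * 1) 21).all (checkAutRoot chevE7 cartE7 coroE7 (sigmaE7 2) (sigmaE7 2) (etaE7 2) (reflN chevE7 2)) = true := by
  decide +kernel

theorem autE7_2_2 :
    (List.range' (21 * 2) 21).all (checkAutRoot chevE7 cartE7 coroE7 (sigmaE7 2) (sigmaE7 2) (etaE7 2) (reflN chevE7 2)) = true := by
  decide +kernel

theorem autE7_2_3 :
    (List.range' (21 * 3) 21).all (checkAutRoot chevE7 cartE7 coroE7 (sigmaE7 2) (sigmaE7 2) (etaE7 2) (reflN chevE7 2)) = true := by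
  decide +kernel

theorem autE7_2_4 :
    (List.range' (21 * 4) 21).all (checkAutRoot chevE7 cartE7 coroE7 (sigmaE7 2) (sigmaE7 2) (etaE7 2) (reflN chevE7 2)) = true := by
  decide +kernel

theorem autE7_2_5 :
    (List.range' (21 * 5) 21).all (checkAutRoot chevE7 cartE7 coroE7 (sigmaE7 2) (sigmaE7 2) (etaE7 2) (reflN chevE7 2)) = true := by
  decide +kernel

theorem simpleE7_2 : checkSimple chevE7 cartE7 coroE7 (sigmaE7 2) (etaE7 2) 2 = true :=
  checkSimple_of_parts chevE7 basicE7_2 nwordE7_2 hwordE7_2 addsE7_2 reflE7_2 21 6 (by decide)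
    (by
      intro k hk
      interval_cases k
      · exact autE7_2_0
      · exact autE7_2_1
      · exact autE7_2_2
      · exact autE7_2_3
      · exact autE7_2_4
      · exact autE7_2_5
    )

theorem basicE7_3 : checkBasic chevE7 (etaE7 3) 3 = true := by
  decide +kernel

theorem nwordE7_3 : checkNWord chevE7 (sigmaE7 3) (etaE7 3) 3 = true := by
  decide +kernel

theorem hwordE7_3 : checkHWord chevE7 3 = true := by
  decide +kernel

theorem addsE7_3 : checkAdds chevE7 3 = true := by
  decide +kernel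

theorem reflE7_3 : checkRefl chevE7 (sigmaE7 3) (etaE7 3) 3 = true := by
  decide +kernel

theorem autE7_3_0 :
    (List.range' (21 * 0) 21).all (checkAutRoot chevE7 cartE7 coroE7 (sigmaE7 3) (sigmaE7 3) (etaE7 3) (reflN chevE7 3)) = true := by
  decide +kernel

theorem autE7_3_1 :
    (List.range' (21 * 1) 21).all (checkAutRoot chevE7 cartE7 coroE7 (sigmaE7 3) (sigmaE7 3) (etaE7 3) (reflN chevE7 3)) = true := by
  decide +kernel

theorem autE7_3_2 :
    (List.range' (21 * 2) 21).all (checkAutRoot chevE7 cartE7 coroE7 (sigmaE7 3) (sigmaE7 3) (etaE7 3) (reflN chevE7 3)) = true := by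
  decide +kernel

theorem autE7_3_3 :
    (List.range' (21 * 3) 21).all (checkAutRoot chevE7 cartE7 coroE7 (sigmaE7 3) (sigmaE7 3) (etaE7 3) (reflN chevE7 3)) = true := by
  decide +kernel

theorem autE7_3_4 :
    (List.range' (21 * 4) 21).all (checkAutRoot chevE7 cartE7 coroE7 (sigmaE7 3) (sigmaE7 3) (etaE7 3) (reflN chevE7 3)) = true := by
  decide +kernel

theorem autE7_3_5 :
    (List.range' (21 * 5) 21).all (checkAutRoot chevE7 cartE7 coroE7 (sigmaE7 3) (sigmaE7 3) (etaE7 3) (reflN chevE7 3)) = true := by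
  decide +kernel

theorem simpleE7_3 : checkSimple chevE7 cartE7 coroE7 (sigmaE7 3) (etaE7 3) 3 = true :=
  checkSimple_of_parts chevE7 basicE7_3 nwordE7_3 hwordE7_3 addsE7_3 reflE7_3 21 6 (by decide)
    (by
      intro k hk
      interval_cases k
      · exact autE7_3_0
      · exact autE7_3_1
      · exact autE7_3_2
      · exact autE7_3_3
      · exact autE7_3_4
      · exact autE7_3_5
    )

end CfsgLib.Twisted
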