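import Cfsg.Agent.Lib.Twisted.CertE8Tables

/-! Checks of the certificate for type E8, part 0 (generated). -/

set_option autoImplicit false

namespace CfsgLib.Twisted

open Cfsg.Lie

theorem basicE8_0 : checkBasic chevE8 (etaE8 0) 0 = true := by
  decide +kernel

theorem nwordE8_0 : checkNWord chevE8 (sigmaE8 0) (etaE8 0) 0 = true := by
  decide +kernel

theorem hwordE8_0 : checkHWord chevE8 0 = true := by
  decide +kernel

theorem addsE8_0 : checkAdds chevE8 0 = true := by
  decide +kernel

theorem reflE8_0 : checkRefl chevE8 (sigmaE8 0) (etaE8 0) 0 = true := by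
  decide +kernel

theorem autE8_0_0 :
    (List.range' (30 * 0) 30).all (checkAutRoot chevE8 cartE8 coroE8 (sigmaE8 0) (sigmaE8 0) (etaE8 0) (reflN chevE8 0)) = true := by
  decide +kernel

theorem autE8_0_1 :
    (List.range' (30 * 1) 30).all (checkAutRoot chevE8 cartE8 coroE8 (sigmaE8 0) (sigmaE8 0) (etaE8 0) (reflN chevE8 0)) = true := by
  decide +kernel

theorem autE8_0_2 :
    (List.range' (30 * 2) 30).all (checkAutRoot chevE8 cartE8 coroE8 (sigmaE8 0) (sigmaE8 0) (etaE8 0) (reflN chevE8 0)) = true := by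
  decide +kernel

theorem autE8_0_3 :
    (List.range' (30 * 3) 30).all (checkAutRoot chevE8 cartE8 coroE8 (sigmaE8 0) (sigmaE8 0) (etaE8 0) (reflN chevE8 0)) = true := by
  decide +kernel

theorem autE8_0_4 :
    (List.range' (30 * 4) 30).all (checkAutRoot chevE8 cartE8 coroE8 (sigmaE8 0) (sigmaE8 0) (etaE8 0) (reflN chevE8 0)) = true := by
  decide +kernel

theorem autE8_0_5 :
    (List.range' (30 * 5) 30).all (checkAutRoot chevE8 cartE8 coroE8 (sigmaE8 0) (sigmaE8 0) (etaE8 0) (reflN chevE8 0)) = true := by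
  decide +kernel

theorem autE8_0_6 :
    (List.range' (30 * 6) 30).all (checkAutRoot chevE8 cartE8 coroE8 (sigmaE8 0) (sigmaE8 0) (etaE8 0) (reflN chevE8 0)) = true := by
  decide +kernel

theorem autE8_0_7 :
    (List.range' (30 * 7) 30).all (checkAutRoot chevE8 cartE8 coroE8 (sigmaE8 0) (sigmaE8 0) (etaE8 0) (reflN chevE8 0)) = true := by
  decide +kernel

theorem simpleE8_0 : checkSimple chevE8 cartE8 coroE8 (sigmaE8 0) (etaE8 0) 0 = true :=
  checkSimple_of_parts chevE8 basicE8_0 nwordE8_0 hwordE8_0 addsE8_0 reflE8_0 30 8 (by decide)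
    (by
      intro k hk
      interval_cases k
      · exact autE8_0_0
      · exact autE8_0_1
      · exact autE8_0_2
      · exact autE8_0_3
      · exact autE8_0_4
      · exact autE8_0_5
      · exact autE8_0_6
      · exact autE8_0_7
    )

theorem basicE8_1 : checkBasic chevE8 (etaE8 1) 1 = true := by
  decide +kernel

theorem nwordE8_1 : checkNWord chevE8 (sigmaE8 1) (etaE8 1) 1 = true := by
  decide +kernel

theorem hwordE8_1 : checkHWord chevE8 1 = true := by
  decide +kernel

theorem addsE8_1 : checkAdds chevE8 1 = true := by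
  decide +kernel

theorem reflE8_1 : checkRefl chevE8 (sigmaE8 1) (etaE8 1) 1 = true := by
  decide +kernel

theorem autE8_1_0 :
    (List.range' (30 * 0) 30).all (checkAutRoot chevE8 cartE8 coroE8 (sigmaE8 1) (sigmaE8 1) (etaE8 1) (reflN chevE8 1)) = true := by
  decide +kernel

theorem autE8_1_1 :
    (List.range' (30 * 1) 30).all (checkAutRoot chevE8 cartE8 coroE8 (sigmaE8 1) (sigmaE8 1) (etaE8 1) (reflN chevE8 1)) = true := by
  decide +kernel

theorem autE8_1_2 :
    (List.range' (30 * 2) 30).all (checkAutRoot chevE8 cartE8 coroE8 (sigmaE8 1) (sigmaE8 1) (etaE8 1) (reflN chevE8 1)) = true := by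
  decide +kernel

theorem autE8_1_3 :
    (List.range' (30 * 3) 30).all (checkAutRoot chevE8 cartE8 coroE8 (sigmaE8 1) (sigmaE8 1) (etaE8 1) (reflN chevE8 1)) = true := by
  decide +kernel

theorem autE8_1_4 :
    (List.range' (30 * 4) 30).all (checkAutRoot chevE8 cartE8 coroE8 (sigmaE8 1) (sigmaE8 1) (etaE8 1) (reflN chevE8 1)) = true := by
  decide +kernel

theorem autE8_1_5 :
    (List.range' (30 * 5) 30).all (checkAutRoot chevE8 cartE8 coroE8 (sigmaE8 1) (sigmaE8 1) (etaE8 1) (reflN chevE8 1)) = true := by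
  decide +kernel

theorem autE8_1_6 :
    (List.range' (30 * 6) 30).all (checkAutRoot chevE8 cartE8 coroE8 (sigmaE8 1) (sigmaE8 1) (etaE8 1) (reflN chevE8 1)) = true := by
  decide +kernel

theorem autE8_1_7 :
    (List.range' (30 * 7) 30).all (checkAutRoot chevE8 cartE8 coroE8 (sigmaE8 1) (sigmaE8 1) (etaE8 1) (reflN chevE8 1)) = true := by
  decide +kernel

theorem simpleE8_1 : checkSimple chevE8 cartE8 coroE8 (sigmaE8 1) (etaE8 1) 1 = true :=
  checkSimple_of_parts chevE8 basicE8_1 nwordE8_1 hwordE8_1 addsE8_1 reflE8_1 30 8 (by decide)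
    (by
      intro k hk
      interval_cases k
      · exact autE8_1_0
      · exact autE8_1_1
      · exact autE8_1_2
      · exact autE8_1_3
      · exact autE8_1_4
      · exact autE8_1_5
      · exact autE8_1_6
      · exact autE8_1_7
    )

end CfsgLib.Twisted
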