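import Mathlib

/-! Counting elements conjugate into a set controlled by a subgroup. -/

set_option autoImplicit false
set_option linter.unusedSectionVars false

open scoped Pointwise

namespace CfsgLib.Twisted

variable {G : Type*} [Group G] [Finite G]

/-- If `N` keeps `S` and controls the conjugacy inside `S`, the conjugates of `S` number
`[G : N] * |S|`. -/
theorem card_conj_into (N : Subgroup G) (S : G → Prop) (hst : ∀ n ∈ N, ∀ s, S s → S (n * s * n⁻¹))
    (hfus : ∀ c s, S s → S (c * s * c⁻¹) → c ∈ N) :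
    Nat.card {g : G // ∃ c, S (c * g * c⁻¹)} = N.index * Nat.card {s : G // S s} := by
  rw [Subgroup.index_eq_card, ← Nat.card_prod]
  let f : (G ⧸ N) × {s : G // S s} → {g : G // ∃ c, S (c * g * c⁻¹)} := fun p =>
    ⟨p.1.out * p.2 * p.1.out⁻¹, p.1.out⁻¹, by simpa [mul_assoc] using p.2.2⟩
  refine (Nat.card_eq_of_bijective f ⟨?_, ?_⟩).symm
  · rintro ⟨x, s, hs⟩ ⟨y, s', hs'⟩ h
    have h' : x.out * s * x.out⁻¹ = y.out * s' * y.out⁻¹ := congrArg Subtype.val h
    have hc : y.out⁻¹ * x.out ∈ N := by
      refine hfus _ s hs ?_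
      have e : y.out⁻¹ * x.out * s * (y.out⁻¹ * x.out)⁻¹ = s' := by
        calc _ = y.out⁻¹ * (x.out * s * x.out⁻¹) * y.out := by group
          _ = _ := by rw [h']; group
      rwa [e]
    have hxy : x = y := by
      rw [← QuotientGroup.out_eq' x, ← QuotientGroup.out_eq' y]
      exact ((QuotientGroup.eq).2 hc).symm
    subst hxy
    exact Prod.ext rfl (Subtype.ext (mul_left_cancel (mul_right_cancel h')))
  · rintro ⟨g, c, hc⟩
    set x : G ⧸ N := QuotientGroup.mk c⁻¹
    have hn : c * x.out ∈ N := by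
      have h := QuotientGroup.eq.1 (QuotientGroup.out_eq' x)
      have h2 := inv_mem h
      rwa [mul_inv_rev, inv_inv, inv_inv] at h2
    refine ⟨(x, ⟨x.out⁻¹ * g * x.out, ?_⟩), Subtype.ext (by simp [f, mul_assoc])⟩
    have h := hst _ (inv_mem hn) _ hc
    simpa [mul_assoc] using h

/-- A prime power element is conjugate into a subgroup of index prime to the prime. -/
theorem exists_conj_mem_of_index {p : ℕ} [hp : Fact p.Prime] (H : Subgroup G) (hH : ¬ p ∣ H.index)
    {y : G} {k : ℕ} (hy : orderOf y = p ^ k) : ∃ c : G, c * y * c⁻¹ ∈ H := by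
  obtain ⟨P⟩ : Nonempty (Sylow p H) := inferInstance
  have hcard : Nat.card ((P : Subgroup H).map H.subtype) = p ^ (Nat.card G).factorization p := by
    rw [Subgroup.card_map_of_injective H.subtype_injective, P.card_eq_multiplicity,
      ← H.card_mul_index, Nat.factorization_mul Nat.card_pos.ne' Subgroup.index_ne_zero_of_finite,
      Finsupp.add_apply, Nat.factorization_eq_zero_of_not_dvd hH, add_zero]
  obtain ⟨T, hT⟩ := (IsPGroup.of_card (p := p) (n := k)
    (by rw [Nat.card_zpowers, hy] : Nat.card (Subgroup.zpowers y) = p ^ k)).exists_le_sylow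
  obtain ⟨c, hc⟩ := MulAction.exists_smul_eq G T (Sylow.ofCard _ hcard)
  refine ⟨c, Subgroup.map_subtype_le (P : Subgroup H) ?_⟩
  have h : c * y * c⁻¹ ∈ Sylow.ofCard ((P : Subgroup H).map H.subtype) hcard := by
    rw [← hc]
    exact Subgroup.smul_mem_pointwise_smul y (MulAut.conj c) _ (hT (Subgroup.mem_zpowers y))
  exact h

/-- A normaliser of a cyclic group normalises its subgroups. -/
theorem normalizer_le_of_cyclic {A B : Subgroup G} [IsCyclic A] (hBA : B ≤ A) :
    Subgroup.normalizer (A : Set G) ≤ Subgroup.normalizer (B : Set G) := by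
  intro g hg
  have key : ∀ h ∈ Subgroup.normalizer (A : Set G), ∀ b ∈ B, h * b * h⁻¹ ∈ B := by
    intro h hh b hb
    obtain ⟨m, hm⟩ := MonoidHom.map_cyclic ((A.normalizerMonoidHom ⟨h, hh⟩).toMonoidHom)
    have e : h * b * h⁻¹ = b ^ m := congrArg Subtype.val (hm ⟨b, hBA hb⟩)
    rw [e]
    exact zpow_mem hb m
  refine Subgroup.mem_normalizer_iff.2 fun b => ⟨key g hg b, fun hb => ?_⟩
  simpa [mul_assoc] using key g⁻¹ (inv_mem hg) _ hb

omit [Finite G] in
/-- Conjugates of centralisers. -/
theorem centralizer_conj (c x : G) (g : G) :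
    g ∈ Subgroup.centralizer {c * x * c⁻¹} ↔ c⁻¹ * g * c ∈ Subgroup.centralizer {x} := by
  simp only [Subgroup.mem_centralizer_singleton_iff]
  constructor <;> intro h
  · calc c⁻¹ * g * c * x = c⁻¹ * (g * (c * x * c⁻¹)) * c := by group
      _ = _ := by rw [h]; group
  · calc g * (c * x * c⁻¹) = c * (c⁻¹ * g * c * x) * c⁻¹ := by group
      _ = _ := by rw [h]; group

omit [Finite G] in
/-- If two elements have the same centraliser `M`, an element conjugating one to the other
normalises `M`. -/
theorem mem_normalizer_of_centralizer_eq {M : Subgroup G} {x c : G}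
    (hx : Subgroup.centralizer {x} = M) (hcx : Subgroup.centralizer {c * x * c⁻¹} = M) :
    c ∈ Subgroup.normalizer (M : Set G) := by
  refine Subgroup.mem_normalizer_iff.2 fun g => ?_
  conv_rhs => rw [← hcx, centralizer_conj]
  conv_lhs => rw [← hx]
  simp [mul_assoc]

omit [Finite G] in
/-- Elements of the same kind in a subgroup whose centralisers are all that subgroup. -/
theorem mem_normalizer_of_forall {M : Subgroup G} {P : G → Prop}
    (hM : ∀ s ∈ M, P s → Subgroup.centralizer {s} = M) {c s : G} (hs : s ∈ M) (hPs : P s)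
    (hcs : c * s * c⁻¹ ∈ M) (hPcs : P (c * s * c⁻¹)) : c ∈ Subgroup.normalizer (M : Set G) :=
  mem_normalizer_of_centralizer_eq (hM s hs hPs) (hM _ hcs hPcs)

end CfsgLib.Twisted
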