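import Cfsg.Agent.Lib.KnownSimple.HomocyclicSylow

/-!
Primitive prime divisors of `q ^ 6 - 1` in `GL₇(q)`: Sylow subgroups, centralisers, normalisers.
-/

set_option autoImplicit false
set_option linter.unusedSectionVars false

namespace CfsgLib.Twisted.GLSeven

open Pointwise
open CfsgLib.KnownSimple

/-- In a finite cyclic group an element killed by `p` is a power of any element of order `p`. -/
theorem mem_zpowers_of_cyclic {G : Type*} [Group G] [Finite G] [IsCyclic G] {p : ℕ} {x y : G}
    (hp : 0 < p) (hx : orderOf x = p) (hy : y ^ p = 1) : y ∈ Subgroup.zpowers x := by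
  classical
  have := Fintype.ofFinite G
  by_contra hn
  have hle : (Finset.univ.filter fun g : G => g ^ p = 1).card ≤ p :=
    IsCyclic.card_pow_eq_one_le hp
  have hsub : insert y (Finset.univ.filter fun g : G => g ∈ Subgroup.zpowers x) ⊆
      Finset.univ.filter fun g : G => g ^ p = 1 := by
    intro g hg
    rw [Finset.mem_insert, Finset.mem_filter] at hg
    refine Finset.mem_filter.2 ⟨Finset.mem_univ _, ?_⟩
    rcases hg with rfl | ⟨-, hg⟩
    · exact hy
    · obtain ⟨k, rfl⟩ := Subgroup.mem_zpowers_iff.1 hg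
      rw [← zpow_natCast, ← zpow_mul, mul_comm, zpow_mul, zpow_natCast, ← hx, pow_orderOf_eq_one,
        one_zpow]
  have hc : (Finset.univ.filter fun g : G => g ∈ Subgroup.zpowers x).card = p := by
    rw [← Fintype.card_subtype, ← Nat.card_eq_fintype_card, ← hx, ← Nat.card_zpowers]
  have := Finset.card_le_card hsub
  rw [Finset.card_insert_of_notMem (by simp [hn]), hc] at this
  omega

section

variable {K : Type*} [Field K] [Fintype K]
variable {p : ℕ} [hp : Fact p.Prime] (hord : orderOf (Fintype.card K : ZMod p) = 6)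
include hord

theorem not_dvd_card : ¬ p ∣ Fintype.card K := fun h => by
  rw [← ZMod.natCast_eq_zero_iff] at h
  rw [h, orderOf_eq_zero_iff'.2 fun n hn => by
    simp [zero_pow hn.ne', zero_ne_one]] at hord
  omega

/-- The `p`-part of `|GL₇(q)|`. -/
theorem factorization_card :
    (Nat.card (GL (Fin 7) K)).factorization p =
      (Fintype.card K ^ 6 - 1).factorization p := by
  have hq : 2 ≤ Fintype.card K := Fintype.one_lt_card
  have hne : ∀ i ∈ Finset.range 7, Fintype.card K ^ (i + 1) - 1 ≠ 0 := fun i _ => by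
    have := Nat.one_lt_pow (show i + 1 ≠ 0 by omega) (show 1 < Fintype.card K by omega); omega
  rw [CfsgLib.ClassicalLinear.card_GL_eq_pow_mul, Fintype.card_fin,
    Nat.factorization_mul (pow_ne_zero _ (by omega)) (Finset.prod_ne_zero_iff.2 hne),
    Finsupp.add_apply, Nat.factorization_eq_zero_of_not_dvd
      (fun h => not_dvd_card hord (hp.out.dvd_of_dvd_pow h)), zero_add,
    Nat.factorization_prod hne, Finsupp.finsetSum_apply,
    Finset.sum_eq_single_of_mem 5 (Finset.mem_range.2 (by omega))]
  intro i hi hi5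
  refine Nat.factorization_eq_zero_of_not_dvd fun hd => hi5 ?_
  have := (HomocyclicSylow.cast_pow_sub_one_eq_zero_iff (by omega) (i + 1)).1 hd
  rw [hord] at this
  have := Finset.mem_range.1 hi
  obtain ⟨k, hk⟩ := ‹6 ∣ i + 1›
  omega

/-- The model: a field of degree six plus a line. -/
theorem exists_model : ∃ (L : Type) (_ : Field L) (_ : Finite L) (_ : Algebra K L),
    Module.finrank K L = 6 ∧ Nat.card L = Fintype.card K ^ 6 := by
  have := Fact.mk (CharP.char_is_prime K (ringChar K))
  refine ⟨FiniteField.Extension K (ringChar K) 6, inferInstance,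
    Module.finite_of_finite K, inferInstance, FiniteField.finrank_extension .., ?_⟩
  rw [FiniteField.natCard_extension, Nat.card_eq_fintype_card]

variable {L : Type*} [Field L] [Finite L] [Algebra K L]

omit hord in
/-- The torus of type `(6, 1)`. -/
noncomputable def torus (h6 : Module.finrank K L = 6) : (L × K)ˣ →* GL (Fin 7) K :=
  Units.map (Algebra.leftMulMatrix (Module.finBasisOfFinrankEq K (L × K)
    (by rw [Module.finrank_prod, h6, Module.finrank_self]))).toRingHom.toMonoidHom

omit hord in
/-- The first factor of the torus. -/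
noncomputable def emb (L K : Type*) [Field L] [Field K] : Lˣ →* (L × K)ˣ :=
  MulEquiv.prodUnits.symm.toMonoidHom.comp (MonoidHom.inl Lˣ Kˣ)

omit hord in
theorem coe_emb (u : Lˣ) : ((emb L K u : (L × K)ˣ) : L × K) = ((u : L), 1) := rfl

omit hord in
theorem torus_injective (h6 : Module.finrank K L = 6) : Function.Injective (torus (K := K) h6) :=
  Units.map_injective (Algebra.leftMulMatrix_injective _)

omit hord in
theorem emb_injective : Function.Injective (emb L K) := fun u v h => by
  refine Units.ext ?_
  simpa [coe_emb] using congrArg (fun w : (L × K)ˣ => (w : L × K).1) h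

/-- `p`-subgroups of `GL₇(q)` are cyclic. -/
theorem isCyclic_pGroup (P : Subgroup (GL (Fin 7) K)) (hP : IsPGroup p P) : IsCyclic P := by
  obtain ⟨L, _, _, _, h6, hcard⟩ := exists_model (K := K) hord
  set e := (Fintype.card K ^ 6 - 1).factorization p
  have hN : p ^ e ∣ Nat.card Lˣ := by
    rw [Nat.card_units, hcard]
    exact Nat.ordProj_dvd _ _
  obtain ⟨z, hz⟩ := HomocyclicSylow.exists_hom hN
  obtain ⟨S, hS⟩ := hP.exists_le_sylow
  obtain ⟨iso⟩ := HomocyclicSylow.sylow_equiv ((torus h6).comp ((emb L K).comp z))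
    ((torus_injective h6).comp (emb_injective.comp hz))
    (by rw [Nat.card_congr Multiplicative.toAdd, Nat.card_zmod, factorization_card hord]) S
  have : IsCyclic (S : Subgroup (GL (Fin 7) K)) :=
    isCyclic_of_surjective iso.symm.toMonoidHom iso.symm.surjective
  exact isCyclic_of_injective (Subgroup.inclusion hS) (Subgroup.inclusion_injective hS)

/-- An element of order `p` is conjugate into the first factor of the torus. -/
theorem exists_conj_torus (h6 : Module.finrank K L = 6)
    (hcard : Nat.card L = Fintype.card K ^ 6) {x : GL (Fin 7) K} (hx : orderOf x = p) :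
    ∃ (μ : Lˣ) (c : GL (Fin 7) K), orderOf μ = p ∧ c * x * c⁻¹ = torus h6 (emb L K μ) := by
  classical
  have hdvd : p ∣ Nat.card Lˣ := by
    rw [Nat.card_units, hcard]
    exact (HomocyclicSylow.cast_pow_sub_one_eq_zero_iff
      (by linarith [Fintype.one_lt_card (α := K)]) 6).2 (by rw [hord])
  obtain ⟨μ, hμ⟩ := exists_prime_orderOf_dvd_card' p hdvd
  set τ := (torus (K := K) h6).comp (emb L K) with hτ
  have hy : orderOf (τ μ) = p := by
    rw [orderOf_injective τ ((torus_injective h6).comp emb_injective), hμ]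
  have hpg : ∀ g : GL (Fin 7) K, orderOf g = p → IsPGroup p (Subgroup.zpowers g) := fun g hg =>
    IsPGroup.of_card (n := 1) (by rw [Nat.card_zpowers, hg, pow_one])
  obtain ⟨S, hS⟩ := (hpg x hx).exists_le_sylow
  obtain ⟨T, hT⟩ := (hpg _ hy).exists_le_sylow
  obtain ⟨c, hc⟩ := MulAction.exists_smul_eq (GL (Fin 7) K) S T
  have hxT : c * x * c⁻¹ ∈ T := by
    rw [← hc]
    change c * x * c⁻¹ ∈ MulAut.conj c • (S : Subgroup (GL (Fin 7) K))
    exact Subgroup.smul_mem_pointwise_smul x (MulAut.conj c) _
      (hS (Subgroup.mem_zpowers x))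
  have := isCyclic_pGroup hord (T : Subgroup (GL (Fin 7) K)) T.isPGroup'
  have hmem := mem_zpowers_of_cyclic (x := (⟨τ μ, hT (Subgroup.mem_zpowers _)⟩ :
      (T : Subgroup (GL (Fin 7) K)))) (y := ⟨c * x * c⁻¹, hxT⟩) hp.out.pos
    (by rw [← Subgroup.orderOf_coe]; exact hy)
    (Subtype.ext (by simp [conj_pow, ← hx, pow_orderOf_eq_one]))
  obtain ⟨k, hk⟩ := Subgroup.mem_zpowers_iff.1 hmem
  have hk' : τ μ ^ k = c * x * c⁻¹ := by
    have h := congrArg Subtype.val hk
    simpa using h
  refine ⟨μ ^ k, c, ?_, ?_⟩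
  · rw [← orderOf_injective τ ((torus_injective h6).comp emb_injective), map_zpow, hk',
      ← hx]
    exact orderOf_injective (MulAut.conj c).toMonoidHom (MulAut.conj c).injective x
  · rw [← hk', ← map_zpow, hτ, MonoidHom.comp_apply]

/-- A generator of a subgroup of order `p` generates the field. -/
theorem adjoin_eq_top (h6 : Module.finrank K L = 6) {μ : Lˣ} (hμ : orderOf μ = p) :
    Algebra.adjoin K {(μ : L)} = ⊤ := by
  have hint : IsAlgebraic K (μ : L) := IsAlgebraic.of_finite K _
  have := Module.finite_of_finite K (M := L)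
  rw [← IntermediateField.adjoin_simple_toSubalgebra_of_isAlgebraic hint]
  set F := IntermediateField.adjoin K {(μ : L)}
  have hμF : (μ : L) ∈ F := IntermediateField.mem_adjoin_simple_self K _
  have hμ0 : (⟨(μ : L), hμF⟩ : F) ≠ 0 := fun h => μ.ne_zero (congrArg Subtype.val h)
  have ho : orderOf (Units.mk0 (⟨(μ : L), hμF⟩ : F) hμ0) = p := by
    rw [← hμ, ← orderOf_units, ← orderOf_units (y := μ)]
    exact (orderOf_injective F.val.toRingHom.toMonoidHom Subtype.val_injective _).symm
  have hd : p ∣ Fintype.card K ^ Module.finrank K F - 1 := by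
    rw [← ho, Fintype.card_eq_nat_card, ← Module.natCard_eq_pow_finrank, ← Nat.card_units]
    exact orderOf_dvd_natCard _
  have h := (HomocyclicSylow.cast_pow_sub_one_eq_zero_iff
    (by linarith [Fintype.one_lt_card (α := K)]) _).1 hd
  rw [hord] at h
  have hle : Module.finrank K F ≤ 6 := h6 ▸ Submodule.finrank_le F.toSubalgebra.toSubmodule
  have hpos : 0 < Module.finrank K F := Module.finrank_pos
  have hF6 : Module.finrank K F = 6 := le_antisymm hle (Nat.le_of_dvd hpos h)
  have htop : F = ⊤ := IntermediateField.eq_of_le_of_finrank_eq le_top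
    (by rw [hF6, IntermediateField.finrank_top', h6])
  rw [htop, IntermediateField.top_toSubalgebra]

/-- The element `(μ, 1)` generates `L × K`. -/
theorem adjoin_pair_eq_top (h6 : Module.finrank K L = 6) {μ : Lˣ} (hμ : orderOf μ = p) :
    Algebra.adjoin K {(((μ : L), (1 : K)) : L × K)} = ⊤ := by
  have hint : IsIntegral K (μ : L) := IsIntegral.of_finite K _
  have hg : ∀ g : Polynomial K, Polynomial.aeval (((μ : L), (1 : K)) : L × K) g =
      (Polynomial.aeval (μ : L) g, g.eval 1) := fun g => by
    simp [Polynomial.aeval_prod_apply, ← Polynomial.coe_aeval_eq_eval]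
  have hne : (minpoly K (μ : L)).eval 1 ≠ 0 := by
    intro h
    have hX : Polynomial.X - Polynomial.C (1 : K) ∣ minpoly K (μ : L) :=
      Polynomial.dvd_iff_isRoot.2 h
    have hev : minpoly K (μ : L) = Polynomial.X - Polynomial.C 1 :=
      (Polynomial.eq_of_monic_of_associated (Polynomial.monic_X_sub_C 1) (minpoly.monic hint)
        ((Polynomial.irreducible_X_sub_C 1).associated_of_dvd (minpoly.irreducible hint) hX)).symm
    have := minpoly.aeval K (μ : L)
    rw [hev] at this
    simp [sub_eq_zero] at this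
    have h1 : orderOf μ = 1 := orderOf_eq_one_iff.2 this
    exact hp.out.one_lt.ne' (hμ ▸ h1)
  set S := Algebra.adjoin K {(((μ : L), (1 : K)) : L × K)}
  have hmem : ∀ g : Polynomial K, (Polynomial.aeval (μ : L) g, g.eval 1) ∈ S := fun g => by
    rw [← hg]
    simp only [S, Algebra.adjoin_singleton_eq_range_aeval]
    exact ⟨g, rfl⟩
  rw [eq_top_iff]
  rintro ⟨a, b⟩ -
  obtain ⟨g, hga⟩ : ∃ g : Polynomial K, Polynomial.aeval (μ : L) g = a := by
    have : a ∈ Algebra.adjoin K {(μ : L)} := adjoin_eq_top hord h6 hμ ▸ Algebra.mem_top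
    rwa [Algebra.adjoin_singleton_eq_range_aeval] at this
  have h := hmem (g + Polynomial.C ((b - g.eval 1) / (minpoly K (μ : L)).eval 1) * minpoly K (μ : L))
  simpa [hga, div_mul_cancel₀ _ hne] using h

/-- The commutant of `(μ, 1)` in `GL₇(q)` is the torus. -/
theorem mem_range_torus (h6 : Module.finrank K L = 6) {μ : Lˣ} (hμ : orderOf μ = p)
    {g : GL (Fin 7) K} (hg : Commute g (torus h6 (emb L K μ))) : g ∈ (torus (K := K) h6).range := by
  set B := Module.finBasisOfFinrankEq K (L × K)
    (show Module.finrank K (L × K) = 7 by rw [Module.finrank_prod, h6, Module.finrank_self]) with hB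
  set e := LinearMap.toMatrixAlgEquiv B with he
  set f := e.symm (g : Matrix (Fin 7) (Fin 7) K) with hf
  have hlm : ∀ a, Algebra.leftMulMatrix B a = e (Algebra.lmul K (L × K) a) := fun a => rfl
  have hcomm : Commute f (Algebra.lmul K (L × K) (((μ : L), 1) : L × K)) := by
    apply e.injective
    change e (f * _) = e (_ * f)
    rw [map_mul, map_mul, hf, e.apply_symm_apply, ← hlm]
    exact congrArg Units.val hg.eq
  have hall : ∀ a : L × K, Commute f (Algebra.lmul K (L × K) a) := by
    intro a
    have ha : a ∈ Algebra.adjoin K {(((μ : L), (1 : K)) : L × K)} :=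
      adjoin_pair_eq_top hord h6 hμ ▸ Algebra.mem_top
    induction ha using Algebra.adjoin_induction with
    | mem x hx => rw [Set.mem_singleton_iff.1 hx]; exact hcomm
    | algebraMap r => rw [AlgHom.commutes]; exact (Algebra.commutes r f).symm
    | add x y _ _ hx hy => rw [map_add]; exact hx.add_right hy
    | mul x y _ _ hx hy => rw [map_mul]; exact hx.mul_right hy
  have hfa : f = Algebra.lmul K (L × K) (f 1) := by
    refine LinearMap.ext fun a => ?_
    have h := LinearMap.congr_fun (hall a).eq 1
    simp at h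
    simpa [mul_comm] using h
  have hga : (g : Matrix (Fin 7) (Fin 7) K) = Algebra.leftMulMatrix B (f 1) := by
    rw [hlm, ← hfa, hf, e.apply_symm_apply]
  set gi := e.symm ((g⁻¹ : GL (Fin 7) K) : Matrix (Fin 7) (Fin 7) K) with hgi
  have h1 : f (gi 1) = 1 := by
    have h : f * gi = 1 := by rw [hf, hgi, ← map_mul, g.mul_inv, map_one]
    exact LinearMap.congr_fun h 1
  rw [hfa] at h1
  simp at h1
  refine ⟨Units.mkOfMulEqOne (f 1) (gi 1) h1, Units.ext ?_⟩
  rw [hga]
  rfl

/-- The centraliser of an element of order `p` is commutative. -/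
theorem commute_of_commute {x a b : GL (Fin 7) K} (hx : orderOf x = p) (ha : Commute a x)
    (hb : Commute b x) : Commute a b := by
  obtain ⟨L, _, _, _, h6, hcard⟩ := exists_model (K := K) hord
  obtain ⟨μ, c, hμ, hc⟩ := exists_conj_torus hord h6 hcard hx
  have key : ∀ g, Commute g x → c * g * c⁻¹ ∈ (torus (K := K) h6).range := fun g hg =>
    mem_range_torus hord h6 hμ (hc ▸ hg.map (MulAut.conj c).toMonoidHom)
  obtain ⟨u, hu⟩ := key a ha
  obtain ⟨v, hv⟩ := key b hb
  have h : Commute (c * a * c⁻¹) (c * b * c⁻¹) := by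
    rw [← hu, ← hv]; exact (Commute.all u v).map _
  exact (Commute.map h (MulAut.conj c⁻¹).toMonoidHom : _) |> fun h => by
    simpa [mul_assoc] using h

/-- Subgroups centralising an element of order `p` of order prime to `q - 1` are cyclic. -/
theorem isCyclic_of_commute {x : GL (Fin 7) K} (hx : orderOf x = p) (B : Subgroup (GL (Fin 7) K))
    (hB : ∀ b ∈ B, Commute b x) (hcop : (Nat.card B).Coprime (Fintype.card K - 1)) :
    IsCyclic B := by
  classical
  obtain ⟨L, _, _, _, h6, hcard⟩ := exists_model (K := K) hord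
  obtain ⟨μ, c, hμ, hc⟩ := exists_conj_torus hord h6 hcard hx
  set T := torus (K := K) h6
  set ψ : B →* T.range := ((MulAut.conj c).toMonoidHom.comp B.subtype).codRestrict T.range
    (fun b => mem_range_torus hord h6 hμ (hc ▸ (hB b b.2).map (MulAut.conj c).toMonoidHom))
  set iso := MonoidHom.ofInjective (f := T) (torus_injective h6)
  set pr : B →* Lˣ :=
    (Units.map (MonoidHom.fst L K)).comp (iso.symm.toMonoidHom.comp ψ)
  refine isCyclic_of_injective pr ((injective_iff_map_eq_one pr).2 fun b hb => ?_)
  set u := iso.symm (ψ b) with hu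
  have hu1 : (u : L × K).1 = 1 := congrArg Units.val hb
  have hq : u ^ (Fintype.card K - 1) = 1 := by
    refine Units.ext (Prod.ext ?_ ?_)
    · simp [hu1]
    · have h2 : (u : L × K).2 ≠ 0 :=
        ((Prod.isUnit_iff.1 u.isUnit).2).ne_zero
      simpa using FiniteField.pow_card_sub_one_eq_one _ h2
  have hn : u ^ Nat.card B = 1 := by
    rw [hu, ← map_pow, ← map_pow, pow_card_eq_one', map_one, map_one]
  have hu0 : u = 1 := by
    rw [← orderOf_eq_one_iff]
    exact Nat.eq_one_of_dvd_coprimes hcop (orderOf_dvd_of_pow_eq_one hn)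
      (orderOf_dvd_of_pow_eq_one hq)
  have h2 : (ψ b : GL (Fin 7) K) = 1 := by
    rw [← iso.apply_symm_apply (ψ b), ← hu, hu0, map_one, Subgroup.coe_one]
  exact Subtype.ext ((MulAut.conj c).injective (h2.trans (map_one _).symm))

/-- Automisers of subgroups of order `p` are generated by the Frobenius. -/
theorem conj_eq_pow {x y : GL (Fin 7) K} (hx : orderOf x = p) {i : ℕ}
    (h : y * x * y⁻¹ = x ^ i) : ∃ j, (i : ZMod p) = (Fintype.card K : ZMod p) ^ j := by
  classical
  obtain ⟨L, _, _, _, h6, hcard⟩ := exists_model (K := K) hord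
  obtain ⟨μ, c, hμ, hc⟩ := exists_conj_torus hord h6 hcard hx
  have hmi : ¬ p ∣ i := by
    intro hd
    have h1 : x ^ i = 1 := orderOf_dvd_iff_pow_eq_one.1 (hx ▸ hd)
    rw [h1, conj_eq_one_iff] at h
    rw [h, orderOf_one] at hx
    exact hp.out.one_lt.ne hx
  set z := c * y * c⁻¹
  set τ := torus (K := K) h6
  have hz : z * τ (emb L K μ) = τ (emb L K (μ ^ i)) * z := by
    rw [map_pow, map_pow, ← hc, conj_pow, ← h]
    simp only [z, mul_assoc, inv_mul_cancel_left]
  set B := Module.finBasisOfFinrankEq K (L × K)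
    (show Module.finrank K (L × K) = 7 by rw [Module.finrank_prod, h6, Module.finrank_self]) with hB
  set A := Algebra.leftMulMatrix B
  set m : L × K := ((μ : L), 1)
  set m' : L × K := (((μ : L) ^ i), 1)
  have hzM : (z : Matrix (Fin 7) (Fin 7) K) * A m = A m' * z := by
    have := congrArg Units.val hz
    have hm' : m' = m ^ i := by simp [m, m']
    rw [hm', map_pow]
    simpa [τ, torus, coe_emb, A, hB, m] using this
  have hpoly : ∀ g : Polynomial K,
      (z : Matrix (Fin 7) (Fin 7) K) * A (Polynomial.aeval m g) =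
        A (Polynomial.aeval m' g) * z := by
    intro g
    induction g using Polynomial.induction_on' with
    | add g g' hg hg' => simp only [map_add, mul_add, add_mul, hg, hg']
    | monomial n r =>
      have hs : SemiconjBy (z : Matrix (Fin 7) (Fin 7) K) (A m) (A m') := hzM
      have hr : SemiconjBy (z : Matrix (Fin 7) (Fin 7) K) (algebraMap K _ r) (algebraMap K _ r) :=
        (Algebra.commutes r (z : Matrix (Fin 7) (Fin 7) K)).symm
      simp only [Polynomial.aeval_monomial, map_mul, map_pow, AlgHom.commutes]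
      exact hr.mul_right (hs.pow_right n)
  set H := (Polynomial.X - Polynomial.C (1 : K)) * minpoly K (μ : L)
  have hH0 : Polynomial.aeval m H = 0 := by
    rw [Polynomial.aeval_prod_apply]
    refine Prod.ext ?_ ?_ <;> simp [H, m]
  have hH' : Polynomial.aeval m' H = 0 := by
    have := hpoly H
    rw [hH0, map_zero, mul_zero] at this
    have h2 : A (Polynomial.aeval m' H) = 0 := by
      have := congrArg (· * ((z⁻¹ : GL (Fin 7) K) : Matrix (Fin 7) (Fin 7) K)) this
      simpa [mul_assoc] using this.symm
    exact Algebra.leftMulMatrix_injective B (h2.trans (map_zero _).symm)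
  have hroot : Polynomial.aeval ((μ : L) ^ i) (minpoly K (μ : L)) = 0 := by
    have h1 := congrArg Prod.fst hH'
    rw [Polynomial.aeval_prod_apply] at h1
    simp [H, m', sub_eq_zero] at h1
    rcases h1 with h1 | h1
    · refine absurd ?_ hmi
      have : μ ^ i = 1 := Units.ext (by simpa using h1)
      exact hμ ▸ orderOf_dvd_of_pow_eq_one this
    · exact h1
  have := Module.finite_of_finite K (M := L)
  obtain ⟨σ, hσ⟩ := minpoly.exists_algEquiv_of_root' (IsAlgebraic.of_finite K (μ : L)) hroot
  obtain ⟨j, hj⟩ := (FiniteField.bijective_frobeniusAlgHom_pow K L).2 σ.toAlgHom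
  refine ⟨j, ?_⟩
  have hσ' : (μ : L) ^ i = (μ : L) ^ Fintype.card K ^ (j : ℕ) := by
    rw [← hσ]
    have h1 := (DFunLike.congr_fun hj (μ : L)).symm
    simp only [AlgHom.coe_pow, FiniteField.coe_frobeniusAlgHom, pow_iterate] at h1
    exact h1
  have hmod : i ≡ Fintype.card K ^ (j : ℕ) [MOD p] := by
    rw [← hμ]
    exact pow_eq_pow_iff_modEq.1 (Units.ext (by simpa using hσ'))
  have := (ZMod.natCast_eq_natCast_iff _ _ _).2 hmod
  simpa using this

end

end CfsgLib.Twisted.GLSeven
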