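import Mathlib
import Cfsg.Agent.Lib.SL2.Torus
import Cfsg.Agent.Lib.SL2.Basic

/-! The non-split torus of `PSL₂(q)` in characteristic three, `q ≡ 3 (mod 4)`. -/

set_option autoImplicit false
set_option linter.unusedSectionVars false

open Matrix
open scoped MatrixGroups

namespace CfsgLib.Twisted.PSLTorus

variable {F : Type*} [Field F] [Finite F]

local notation "PS" => ProjectiveSpecialLinearGroup (Fin 2) F
local notation "π" => QuotientGroup.mk' (Subgroup.center (SL(2, F)))

variable (h3 : (3 : F) = 0)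
include h3

theorem two_ne : (2 : F) ≠ 0 := fun h => one_ne_zero (α := F) (by linear_combination h3 - h)

theorem pi_eq_iff {a b : SL(2, F)} : π a = π b ↔ b = a ∨ b = -a := by
  show (QuotientGroup.mk a : PS) = QuotientGroup.mk b ↔ _
  rw [QuotientGroup.eq, CfsgLib.SL2.mem_center_iff, inv_mul_eq_one, inv_mul_eq_iff_eq_mul,
    mul_neg, mul_one]
  exact or_congr_left eq_comm

theorem pi_surjective : Function.Surjective π := QuotientGroup.mk'_surjective _

theorem neg_one_ne : (-1 : SL(2, F)) ≠ 1 := fun e => by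
  have := congrArg (fun x : SL(2, F) => (x : Matrix (Fin 2) (Fin 2) F) 0 0) e
  simp at this
  exact two_ne h3 (by linear_combination -this)

theorem sq_sub (g : SL(2, F)) :
    (g : Matrix (Fin 2) (Fin 2) F) * g = CfsgLib.SL2.tr g • (g : Matrix (Fin 2) (Fin 2) F) - 1 := by
  have hd : (g : Matrix (Fin 2) (Fin 2) F) 0 0 * (g : Matrix (Fin 2) (Fin 2) F) 1 1 -
      (g : Matrix (Fin 2) (Fin 2) F) 0 1 * (g : Matrix (Fin 2) (Fin 2) F) 1 0 = 1 := by
    rw [← Matrix.det_fin_two]; exact g.2
  ext i j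
  fin_cases i <;> fin_cases j <;>
    simp [CfsgLib.SL2.tr, Matrix.mul_apply, Fin.sum_univ_two] <;>
    first
      | ring1
      | linear_combination -hd

/-- An element whose order does not divide six is regular semisimple. -/
theorem tr_sq_ne_four {g : SL(2, F)} (hg : ¬ orderOf g ∣ 6) : CfsgLib.SL2.tr g ^ 2 ≠ 4 := by
  intro ht
  refine hg (orderOf_dvd_of_pow_eq_one (Subtype.ext ?_))
  set t := CfsgLib.SL2.tr g
  set M := (g : Matrix (Fin 2) (Fin 2) F)
  have hM : M * M = t • M - 1 := sq_sub h3 g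
  have hM3 : M * M * M = (t ^ 2 - 1) • M - t • 1 := by
    rw [hM, sub_mul, smul_mul_assoc, one_mul, hM, smul_sub, smul_smul, sub_smul, one_smul, sq]
    abel
  have h6 : (M * M * M) * (M * M * M) = 1 := by
    rw [hM3, ht, show (4 : F) - 1 = 0 by linear_combination h3, zero_smul, zero_sub,
      neg_mul_neg, smul_mul_smul_comm, one_mul, ← sq, ht,
      show (4 : F) = 1 by linear_combination h3, one_smul]
  rw [Matrix.SpecialLinearGroup.coe_pow, Matrix.SpecialLinearGroup.coe_one]
  rw [show M ^ 6 = (M * M * M) * (M * M * M) by simp only [pow_succ, pow_zero, one_mul, mul_assoc]]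
  exact h6

/-- `h * h = 1` only for central `h`. -/
theorem eq_of_sq_eq_one {h : SL(2, F)} (hh : h * h = 1) : h = 1 ∨ h = -1 := by
  have h1 := congrArg Subtype.val hh
  rw [Matrix.SpecialLinearGroup.coe_mul, sq_sub h3, Matrix.SpecialLinearGroup.coe_one] at h1
  set t := CfsgLib.SL2.tr h with ht'
  have hM : t • (h : Matrix (Fin 2) (Fin 2) F) = (2 : F) • 1 := by
    rw [two_smul]; exact eq_add_of_sub_eq h1
  have ht0 : t ≠ 0 := by
    intro h0
    rw [h0, zero_smul] at hM
    have := congrArg (fun A : Matrix (Fin 2) (Fin 2) F => A 0 0) hM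
    simp at this
    exact two_ne h3 this.symm
  rw [← CfsgLib.SL2.mem_center_iff, CfsgLib.SL2.mem_center_iff_isScalarMat]
  have e' : (h : Matrix (Fin 2) (Fin 2) F) = (2 / t) • 1 := by
    calc (h : Matrix (Fin 2) (Fin 2) F) = t⁻¹ • (t • (h : Matrix (Fin 2) (Fin 2) F)) := by
          rw [smul_smul, inv_mul_cancel₀ ht0, one_smul]
      _ = _ := by rw [hM, smul_smul, div_eq_inv_mul]
  simp [CfsgLib.SL2.IsScalarMat, e']

variable {q : ℕ} (hq : Nat.card F = q) (hq4 : q % 4 = 3)
include hq hq4

/-- Image of a cyclic centraliser containing `-1`. -/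
theorem map_centralizer {g : SL(2, F)} (ht : CfsgLib.SL2.tr g ^ 2 ≠ 4) :
    IsMulCommutative ↥((Subgroup.centralizer {g}).map π) ∧
      2 * Nat.card ↥((Subgroup.centralizer {g}).map π) = Nat.card (Subgroup.centralizer {g}) := by
  have := CfsgLib.SL2.isCyclic_centralizer ht
  refine ⟨⟨⟨?_⟩⟩, ?_⟩
  · rintro ⟨_, a, ha, rfl⟩ ⟨_, b, hb, rfl⟩
    have := congrArg (fun z : Subgroup.centralizer {g} => π (z : SL(2, F)))
      ((IsCyclic.isMulCommutative (α := Subgroup.centralizer ({g} : Set SL(2, F)))).is_comm.comm ⟨a, ha⟩ ⟨b, hb⟩)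
    exact Subtype.ext (by simpa using this)
  · set C := Subgroup.centralizer ({g} : Set SL(2, F))
    have hmem : Subgroup.center SL(2, F) ≤ C := fun z hz =>
      Subgroup.mem_centralizer_singleton_iff.2 (Subgroup.mem_center_iff.1 hz g).symm
    have h := ((π).comp C.subtype).ker.card_mul_index
    rw [Subgroup.index_ker, MonoidHom.range_comp, C.range_subtype] at h
    have hk : Nat.card ((π).comp C.subtype).ker = 2 := by
      rw [← MonoidHom.comap_ker, QuotientGroup.ker_mk']
      show Nat.card ((Subgroup.center SL(2, F)).subgroupOf C) = 2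
      rw [Nat.card_congr (Subgroup.subgroupOfEquivOfLe hmem).toEquiv]
      exact CfsgLib.SL2.center_card_of_odd (two_ne h3)
    rw [hk] at h
    exact h

/-- Centralisers of elements of prime order at least five dividing `q + 1`. -/
theorem centralizer_prime {y : PS} {ℓ : ℕ} (hℓ : ℓ.Prime) (h5 : 5 ≤ ℓ) (hdvd : ℓ ∣ q + 1)
    (hy : orderOf y = ℓ) : IsMulCommutative ↥(Subgroup.centralizer {y}) ∧
      2 * Nat.card (Subgroup.centralizer {y}) = q + 1 := by
  obtain ⟨h, rfl⟩ := pi_surjective h3 y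
  -- a lift of the same order
  obtain ⟨g, hgπ, hg⟩ : ∃ g, π g = π h ∧ orderOf g = ℓ := by
    have h1 : π (h ^ ℓ) = π 1 := by rw [map_pow, map_one, ← hy, pow_orderOf_eq_one]
    have key : ∀ g : SL(2, F), π g = π h → g ^ ℓ = 1 → orderOf g = ℓ := by
      intro g hgπ hgl
      rcases (Nat.dvd_prime hℓ).1 (orderOf_dvd_of_pow_eq_one hgl) with h0 | h0
      · rw [orderOf_eq_one_iff.1 h0, map_one] at hgπ
        rw [← hgπ, orderOf_one] at hy
        omega
      · exact h0
    rcases (pi_eq_iff h3).1 h1.symm with h2 | h2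
    · exact ⟨h, rfl, key h rfl h2⟩
    · refine ⟨-h, ((pi_eq_iff h3).2 (Or.inr rfl)).symm, key _ ((pi_eq_iff h3).2 (Or.inr rfl)).symm ?_⟩
      rw [(hℓ.odd_of_ne_two (by omega)).neg_pow, h2, neg_neg]
  rw [← hgπ]
  have ht : CfsgLib.SL2.tr g ^ 2 ≠ 4 := tr_sq_ne_four h3 (fun h => by
    have := Nat.le_of_dvd (by norm_num) (hg ▸ h)
    interval_cases ℓ
    · norm_num [hg] at h
    · norm_num at hℓ)
  have hcen : Subgroup.centralizer {π g} = (Subgroup.centralizer {g}).map π := by
    ext z
    obtain ⟨a, rfl⟩ := pi_surjective h3 z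
    constructor
    · intro hz
      refine ⟨a, Subgroup.mem_centralizer_singleton_iff.2 ?_, rfl⟩
      have hz' := Subgroup.mem_centralizer_singleton_iff.1 hz
      rw [← map_mul, ← map_mul] at hz'
      rcases (pi_eq_iff h3).1 hz'.symm with e | e
      · exact e
      · exfalso
        have e' : a * g * a⁻¹ = -g := by rw [e, neg_mul, mul_inv_cancel_right]
        have hl : (-g) ^ ℓ = 1 := by
          rw [← e', conj_pow, ← hg, pow_orderOf_eq_one, mul_one, mul_inv_cancel]
        rw [(hℓ.odd_of_ne_two (by omega)).neg_pow, ← hg, pow_orderOf_eq_one] at hl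
        exact neg_one_ne h3 hl
    · rintro ⟨b, hb, e⟩
      rw [← e, Subgroup.mem_centralizer_singleton_iff, ← map_mul, ← map_mul,
        Subgroup.mem_centralizer_singleton_iff.1 hb]
  obtain ⟨hcomm, hcard⟩ := map_centralizer h3 hq hq4 ht
  rw [hcen]
  refine ⟨hcomm, hcard.trans ?_⟩
  rcases CfsgLib.SL2.card_centralizer_or ht with h | h
  · exfalso
    have : ℓ ∣ q - 1 := by
      rw [← hg, ← hq, ← h]
      exact Subgroup.orderOf_dvd_natCard _ (Subgroup.mem_centralizer_singleton_iff.2 rfl)
    have h2 := Nat.dvd_sub hdvd this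
    rw [show q + 1 - (q - 1) = 2 by omega] at h2
    have := Nat.le_of_dvd two_pos h2
    omega
  · rw [h, hq]

/-- Centralisers of involutions. -/
theorem card_centralizer_involution {y : PS} (hy : y ≠ 1) (hy2 : y * y = 1) :
    Nat.card (Subgroup.centralizer {y}) = q + 1 := by
  obtain ⟨h, rfl⟩ := pi_surjective h3 y
  have hh : h * h = -1 := by
    rw [← map_mul, ← map_one π] at hy2
    rcases (pi_eq_iff h3).1 hy2.symm with e | e
    · refine absurd ?_ hy
      show (QuotientGroup.mk h : PS) = 1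
      rw [QuotientGroup.eq_one_iff, CfsgLib.SL2.mem_center_iff]
      exact eq_of_sq_eq_one h3 e
    · exact e
  have htr : CfsgLib.SL2.tr h = 0 := by
    have := congrArg Subtype.val hh
    rw [Matrix.SpecialLinearGroup.coe_mul, sq_sub h3, Matrix.SpecialLinearGroup.coe_neg,
      Matrix.SpecialLinearGroup.coe_one] at this
    have h0 : CfsgLib.SL2.tr h • (h : Matrix (Fin 2) (Fin 2) F) = 0 := by simpa using this
    rcases smul_eq_zero.1 h0 with h1 | h1
    · exact h1
    · exact absurd h.2 (by rw [h1]; simp)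
  have ht : CfsgLib.SL2.tr h ^ 2 ≠ 4 := by
    rw [htr]; intro e; exact one_ne_zero (α := F) (by linear_combination -e - h3)
  have hC : Nat.card (Subgroup.centralizer ({h} : Set SL(2, F))) = q + 1 := by
    rcases CfsgLib.SL2.card_centralizer_or ht with e | e
    · exfalso
      have h4 : orderOf h = 2 ^ 2 := orderOf_eq_prime_pow (by
          rw [pow_one, sq, hh]; exact neg_one_ne h3)
        (by rw [pow_succ, pow_one, pow_mul, sq h, hh, neg_one_sq])
      have : 4 ∣ q - 1 := by
        rw [show 4 = orderOf h by rw [h4]; norm_num, ← hq, ← e]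
        exact Subgroup.orderOf_dvd_natCard _ (Subgroup.mem_centralizer_singleton_iff.2 rfl)
      omega
    · rw [e, hq]
  -- an element inverting h
  have hneg : CfsgLib.SL2.tr (-h) = 0 := by
    simp only [CfsgLib.SL2.tr, Matrix.SpecialLinearGroup.coe_neg, Matrix.neg_apply] at htr ⊢
    linear_combination -htr
  obtain ⟨w, hw⟩ := isConj_iff.1 (CfsgLib.SL2.isConj_of_tr_eq ht (hneg.trans htr.symm))
  set D := (Subgroup.centralizer {π h}).comap π with hD
  have hkerD : (π).ker ≤ D := fun z hz => by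
    rw [hD, Subgroup.mem_comap, MonoidHom.mem_ker.1 hz]
    exact one_mem _
  have hcardD : Nat.card D = 2 * Nat.card (Subgroup.centralizer {π h}) := by
    have e := Subgroup.card_mul_index D
    rw [hD, Subgroup.index_comap_of_surjective _ (pi_surjective h3)] at e
    have e2 := Subgroup.card_mul_index (Subgroup.centralizer {π h})
    have hSL : Nat.card SL(2, F) = 2 * Nat.card PS := by
      rw [Subgroup.card_eq_card_quotient_mul_card_subgroup (Subgroup.center SL(2, F)),
        CfsgLib.SL2.center_card_of_odd (two_ne h3), mul_comm]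
    rw [hSL, ← e2, ← mul_assoc] at e
    exact Nat.eq_of_mul_eq_mul_right (Nat.pos_of_ne_zero Subgroup.index_ne_zero_of_finite) e
  have hmemD : ∀ z, z ∈ D ↔ z * h * z⁻¹ = h ∨ z * h * z⁻¹ = -h := by
    intro z
    rw [hD, Subgroup.mem_comap, Subgroup.mem_centralizer_singleton_iff, ← map_mul, ← map_mul,
      eq_comm, pi_eq_iff h3]
    exact or_congr (by rw [mul_inv_eq_iff_eq_mul]) (by rw [mul_inv_eq_iff_eq_mul, neg_mul])
  have hidx : ((Subgroup.centralizer {h}).subgroupOf D).index = 2 := by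
    rw [Subgroup.index_eq_two_iff]
    have hmem : ∀ z : D, z ∈ (Subgroup.centralizer {h}).subgroupOf D ↔
        (z : SL(2, F)) * h * (z : SL(2, F))⁻¹ = h := fun z => by
      rw [Subgroup.mem_subgroupOf, Subgroup.mem_centralizer_singleton_iff, mul_inv_eq_iff_eq_mul]
    have hne : -h ≠ h := fun e => neg_one_ne h3 (by
      have := congrArg (· * h⁻¹) e
      simpa using this)
    refine ⟨⟨w, (hmemD w).2 (Or.inr hw)⟩, fun z => ?_⟩
    have hz := (hmemD z).1 z.2
    rw [hmem, hmem]
    have e : (z : SL(2, F)) * w * h * ((z : SL(2, F)) * w)⁻¹ =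
        -((z : SL(2, F)) * h * (z : SL(2, F))⁻¹) := by
      rw [show (z : SL(2, F)) * w * h * ((z : SL(2, F)) * w)⁻¹ =
        (z : SL(2, F)) * (w * h * w⁻¹) * (z : SL(2, F))⁻¹ by group, hw, mul_neg, neg_mul]
    rw [Subgroup.coe_mul, e]
    rcases hz with hz | hz
    · rw [hz]; exact Or.inr ⟨rfl, hne⟩
    · rw [hz, neg_neg]; exact Or.inl ⟨rfl, hne⟩
  have hle : Subgroup.centralizer {h} ≤ D := fun z hz => (hmemD z).2 (Or.inl (by
    rw [mul_inv_eq_iff_eq_mul]; exact Subgroup.mem_centralizer_singleton_iff.1 hz))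
  have := ((Subgroup.centralizer {h}).subgroupOf D).card_mul_index
  rw [hidx, Nat.card_congr (Subgroup.subgroupOfEquivOfLe hle).toEquiv, hC, hcardD] at this
  exact Nat.eq_of_mul_eq_mul_left two_pos ((this.symm).trans (mul_comm (q + 1) 2))

/-- An element of order `(q + 1) / 2`. -/
theorem exists_torus : ∃ y : PS, 2 * orderOf y = q + 1 := by
  obtain ⟨g, ht, ho, -⟩ := CfsgLib.SL2.exists_torus_generator (F := F) (e := q + 1)
    (Or.inr (by rw [hq])) (by omega)
  refine ⟨π g, ?_⟩
  obtain ⟨k, hk⟩ : 2 ∣ q + 1 := by omega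
  have hgk : g ^ k = -1 := by
    have hne : g ^ k ≠ 1 := pow_ne_one_of_lt_orderOf (by omega) (by omega)
    have h2 : g ^ k * g ^ k = 1 := by
      rw [← pow_add, ← two_mul, ← hk, ← ho, pow_orderOf_eq_one]
    exact (eq_of_sq_eq_one h3 h2).resolve_left hne
  have ho' : orderOf (π g) = k := by
    rw [orderOf_eq_iff (by omega)]
    refine ⟨?_, fun j hj hj0 e => ?_⟩
    · rw [← map_pow, hgk]
      show (QuotientGroup.mk (-1 : SL(2, F)) : PS) = 1
      rw [QuotientGroup.eq_one_iff, CfsgLib.SL2.mem_center_iff]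
      exact Or.inr rfl
    · rw [← map_pow, ← map_one π] at e
      rcases (pi_eq_iff h3).1 e.symm with e | e
      · exact pow_ne_one_of_lt_orderOf hj0.ne' (by omega) e
      · have : g ^ j = g ^ k := e.trans hgk.symm
        have := (pow_inj_mod.1 this)
        rw [Nat.mod_eq_of_lt (by omega), Nat.mod_eq_of_lt (by omega)] at this
        omega
  omega

end CfsgLib.Twisted.PSLTorus
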