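import Cfsg.Agent.Lib.Twisted.ReeHall

/-! The census of ²G₂(q): element orders and the tori of orders `q ± r + 1`. -/

set_option autoImplicit false
set_option linter.unusedSectionVars false

namespace CfsgLib.Twisted

open Cfsg.Lie
open IsRankOne (borelIn)

/-- There is a prime at least five dividing both. -/
def BigPrime (n d : ℕ) : Prop := ∃ ℓ, ℓ.Prime ∧ 5 ≤ ℓ ∧ ℓ ∣ n ∧ ℓ ∣ d

theorem eq_two_pow_mul_three_pow {d : ℕ} (hd : d ≠ 0) (h : ∀ ℓ, ℓ.Prime → 5 ≤ ℓ → ¬ ℓ ∣ d) :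
    ∃ a b, d = 2 ^ a * 3 ^ b := by
  obtain ⟨a, r, hr, hd'⟩ := Nat.exists_eq_pow_mul_and_not_dvd hd 2 (by norm_num)
  obtain ⟨b, s, hs, hr'⟩ := Nat.exists_eq_pow_mul_and_not_dvd (n := r)
    (fun e => hr (e ▸ dvd_zero 2)) 3 (by norm_num)
  refine ⟨a, b, ?_⟩
  have hs1 : s = 1 := by
    by_contra h1
    obtain ⟨ℓ, hℓ, hℓs⟩ := Nat.exists_prime_and_dvd h1
    refine h ℓ hℓ ?_ (hd' ▸ hr' ▸ dvd_mul_of_dvd_right (dvd_mul_of_dvd_right hℓs _) _)
    by_contra h5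
    have := hℓ.two_le
    interval_cases ℓ
    · exact hr (hr' ▸ dvd_mul_of_dvd_right hℓs _)
    · exact hs hℓs
    · norm_num at hℓ
  rw [hd', hr', hs1, mul_one]

variable {K : Type*} [Field K] [Fintype K] {m : ℕ} (hK : Fintype.card K = 3 ^ (2 * m + 1))
include hK

theorem ree_orderOf_conj (c g : ↥(twistedG2 K (3 ^ m))) : orderOf (c * g * c⁻¹) = orderOf g :=
  orderOf_injective (MulAut.conj c).toMonoidHom (MulAut.conj c).injective g

/-- An element conjugate into a torus with that torus as centraliser of one of its powers. -/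
theorem mem_torus_of_power {H : Subgroup ↥(twistedG2 K (3 ^ m))} {g c : ↥(twistedG2 K (3 ^ m))} {j : ℕ}
    (hC : Subgroup.centralizer {c * g ^ j * c⁻¹} = H) : c * g * c⁻¹ ∈ H := by
  rw [← hC]
  exact Subgroup.mem_centralizer_singleton_iff.2
    ((Commute.self_pow g j).map (MulAut.conj c).toMonoidHom).eq

theorem split_type_conj (hm : 1 ≤ m) {g : ↥(twistedG2 K (3 ^ m))}
    (hg : BigPrime (3 ^ (2 * m + 1) - 1) (orderOf g)) :
    ∃ c, c * g * c⁻¹ ∈ reeH K m ∧ c * g * c⁻¹ * (c * g * c⁻¹) ≠ 1 := by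
  obtain ⟨ℓ, hℓ, h5, hn, hd⟩ := hg
  have hy : orderOf (g ^ (orderOf g / ℓ)) = ℓ := orderOf_pow_orderOf_div (orderOf_pos g).ne' hd
  obtain ⟨c, hc⟩ := exists_conj_reeH hK hm hℓ h5 hn hy
  have hsq : ∀ z : ↥(twistedG2 K (3 ^ m)), ℓ ∣ orderOf z → z * z ≠ 1 := fun z hz e => by
    have h2 := hz.trans (orderOf_dvd_of_pow_eq_one (show z ^ 2 = 1 by rw [pow_two, e]))
    have := Nat.le_of_dvd two_pos h2
    omega
  refine ⟨c, mem_torus_of_power hK (centralizer_eq_reeH hK hm hc (hsq _ ?_)), hsq _ ?_⟩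
  · rw [ree_orderOf_conj hK, hy]
  · rw [ree_orderOf_conj hK]; exact hd

theorem nonsplit_type_conj (hm : 1 ≤ m) {M : Subgroup ↥(twistedG2 K (3 ^ m))}
    {A e o : ↥(twistedG2 K (3 ^ m))} (hN : IsNonsplit M A e o) {g : ↥(twistedG2 K (3 ^ m))}
    (hg : BigPrime (3 ^ (2 * m + 1) + 1) (orderOf g)) :
    ∃ c, c * g * c⁻¹ ∈ M ∧ c * g * c⁻¹ * (c * g * c⁻¹) ≠ 1 := by
  obtain ⟨ℓ, hℓ, h5, hn, hd⟩ := hg
  have hy : orderOf (g ^ (orderOf g / ℓ)) = ℓ := orderOf_pow_orderOf_div (orderOf_pos g).ne' hd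
  obtain ⟨c, hc⟩ := exists_conj_nonsplit hK hm hN hℓ h5 hn hy
  refine ⟨c, mem_torus_of_power hK (centralizer_eq_nonsplit hK hN hm hc hℓ (by omega)
    ((ree_orderOf_conj hK c _).trans hy)), fun e => ?_⟩
  have h2 := (ree_orderOf_conj hK c g ▸ hd).trans (orderOf_dvd_of_pow_eq_one
    (show (c * g * c⁻¹) ^ 2 = 1 by rw [pow_two, e]))
  have := Nat.le_of_dvd two_pos h2
  omega

theorem coxeter_type_centralizer (hm : 1 ≤ m) {g : ↥(twistedG2 K (3 ^ m))}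
    (hg : BigPrime ((3 ^ (2 * m + 1)) ^ 2 - 3 ^ (2 * m + 1) + 1) (orderOf g)) :
    ∃ (p : ℕ) (x : ↥(twistedG2 K (3 ^ m))), p.Prime ∧
      p ∣ (3 ^ (2 * m + 1)) ^ 2 - 3 ^ (2 * m + 1) + 1 ∧ orderOf x = p ∧
      g ∈ Subgroup.centralizer {x} ∧ g ≠ 1 := by
  obtain ⟨ℓ, hℓ, h5, hn, hd⟩ := hg
  refine ⟨ℓ, g ^ (orderOf g / ℓ), hℓ, hn, orderOf_pow_orderOf_div (orderOf_pos g).ne' hd,
    Subgroup.mem_centralizer_singleton_iff.2 (Commute.self_pow g _).eq, fun e => ?_⟩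
  rw [e, orderOf_one] at hd
  exact hℓ.not_dvd_one hd

/-- The six kinds of non-trivial elements. -/
theorem ree_kinds (hm : 1 ≤ m) {g : ↥(twistedG2 K (3 ^ m))} (hg : g ≠ 1) :
    orderOf g = 2 ∨ (∃ k, orderOf g = 3 ^ (k + 1)) ∨ orderOf g = 6 ∨
      (BigPrime (3 ^ (2 * m + 1) - 1) (orderOf g) ∧ orderOf g ∣ 3 ^ (2 * m + 1) - 1) ∨
      (BigPrime (3 ^ (2 * m + 1) + 1) (orderOf g) ∧ orderOf g ∣ (3 ^ (2 * m + 1) + 1) / 2) ∨
      (BigPrime ((3 ^ (2 * m + 1)) ^ 2 - 3 ^ (2 * m + 1) + 1) (orderOf g) ∧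
        orderOf g ∣ (3 ^ (2 * m + 1)) ^ 2 - 3 ^ (2 * m + 1) + 1) := by
  obtain ⟨M, A, e, o, hN⟩ := exists_nonsplit hK hm
  by_cases hbig : ∃ ℓ, ℓ.Prime ∧ 5 ≤ ℓ ∧ ℓ ∣ orderOf g
  · obtain ⟨ℓ, hℓ, h5, hd⟩ := hbig
    rcases ree_prime_cases hK hℓ h5 (hd.trans (orderOf_dvd_natCard g)) with h | h | h
    · refine Or.inr (Or.inr (Or.inr (Or.inl ⟨⟨ℓ, hℓ, h5, h, hd⟩, ?_⟩)))
      obtain ⟨c, hc, -⟩ := split_type_conj hK hm ⟨ℓ, hℓ, h5, h, hd⟩
      rw [← ree_orderOf_conj hK c g, ← card_reeH hK]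
      exact Subgroup.orderOf_dvd_natCard _ hc
    · refine Or.inr (Or.inr (Or.inr (Or.inr (Or.inl ⟨⟨ℓ, hℓ, h5, h, hd⟩, ?_⟩))))
      obtain ⟨c, hc, -⟩ := nonsplit_type_conj hK hm hN ⟨ℓ, hℓ, h5, h, hd⟩
      rw [← ree_orderOf_conj hK c g]
      exact hN.exp _ hc
    · refine Or.inr (Or.inr (Or.inr (Or.inr (Or.inr ⟨⟨ℓ, hℓ, h5, h, hd⟩, ?_⟩))))
      obtain ⟨p, x, hp, hpN, hx, hgx, -⟩ := coxeter_type_centralizer hK hm ⟨ℓ, hℓ, h5, h, hd⟩
      have : Fact p.Prime := ⟨hp⟩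
      exact (Subgroup.orderOf_dvd_natCard _ hgx).trans (centralizer_coxeter hK hm hpN hx).2
  simp only [not_exists, not_and] at hbig
  obtain ⟨a, b, hab⟩ := eq_two_pow_mul_three_pow (orderOf_pos g).ne' hbig
  rcases Nat.eq_zero_or_pos b with rfl | hb
  · refine Or.inl ?_
    rw [pow_zero, mul_one] at hab
    have : Fact (Nat.Prime 2) := ⟨Nat.prime_two⟩
    obtain ⟨S, hS⟩ := (IsPGroup.of_card (p := 2) (n := a) (by rw [Nat.card_zpowers, hab]) :
      IsPGroup 2 (Subgroup.zpowers g)).exists_le_sylow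
    exact orderOf_eq_prime (by rw [pow_two]; exact (ree_sylow_two' hK S).2.1 g (hS (Subgroup.mem_zpowers g))) hg
  · rcases orderOf_of_three_dvd hK hm (g := g)
      (hab ▸ dvd_mul_of_dvd_right (dvd_pow_self 3 (by omega)) _) with ⟨k, hk⟩ | h
    · refine Or.inr (Or.inl ⟨k - 1, ?_⟩)
      rcases Nat.eq_zero_or_pos k with rfl | hk0
      · exact absurd (orderOf_eq_one_iff.1 (by rw [hk, pow_zero])) hg
      · rw [hk, Nat.sub_add_cancel hk0]
    · exact Or.inr (Or.inr (Or.inl h))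

theorem card_involutions (hm : 1 ≤ m) :
    Nat.card {g : ↥(twistedG2 K (3 ^ m)) // orderOf g = 2} * (3 ^ (2 * m + 1) * ((3 ^ (2 * m + 1)) ^ 2 - 1)) =
      Nat.card ↥(twistedG2 K (3 ^ m)) := by
  obtain ⟨A, hA, hA1, hA2⟩ := exists_reeH_involution hK
  set C := Subgroup.centralizer ({A} : Set ↥(twistedG2 K (3 ^ m)))
  have h := card_conj_into C (fun s => s = A)
    (fun n hn s hs => by subst hs; rw [Subgroup.mem_centralizer_singleton_iff.1 hn, mul_inv_cancel_right])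
    (fun c s hs hc => by
      subst hs
      exact Subgroup.mem_centralizer_singleton_iff.2 (mul_inv_eq_iff_eq_mul.1 hc))
  rw [show Nat.card {s : ↥(twistedG2 K (3 ^ m)) // s = A} = 1 from Nat.card_unique, mul_one] at h
  rw [Nat.card_congr (Equiv.subtypeEquivRight (q := fun g => ∃ c, c * g * c⁻¹ = A) fun g => ?_), h,
    ← card_centralizer_reeInvolution hK hA hA1 hA2, mul_comm]
  · exact C.card_mul_index
  · constructor
    · intro hg
      exact exists_conj_involution hK hm hA hA1 hA2 (fun e => by rw [e, orderOf_one] at hg; omega)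
        (by rw [← pow_two, ← hg, pow_orderOf_eq_one])
    · rintro ⟨c, hc⟩
      rw [← ree_orderOf_conj hK c, hc]
      exact orderOf_eq_prime (by rw [pow_two]; exact hA2) hA1

theorem card_three_elements (hm : 1 ≤ m) :
    Nat.card {g : ↥(twistedG2 K (3 ^ m)) // ∃ k, orderOf g = 3 ^ (k + 1)} + 1 =
      ((3 ^ (2 * m + 1)) ^ 3) ^ 2 := by
  classical
  set B := borelIn chevG2 (twistedG2 K (3 ^ m))
  have h := card_conj_into B (fun s => s ∈ reeU K m ∧ s ≠ 1)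
    (fun n hn s hs => ⟨reeBorel_conj_mem hK hn hs.1, fun e => hs.2 (conj_eq_one_iff.1 e)⟩)
    (fun c s hs hc => mem_reeBorel_of_conj hK hs.1 hs.2 hc.1)
  have hU : Nat.card {s : ↥(twistedG2 K (3 ^ m)) // s ∈ reeU K m ∧ s ≠ 1} + 1 = (3 ^ (2 * m + 1)) ^ 3 := by
    rw [← card_reeU hK]
    have := Fintype.ofFinite (reeU K m)
    rw [Nat.card_congr (⟨fun x => ⟨⟨x.1, x.2.1⟩, fun e => x.2.2 (congrArg Subtype.val e)⟩,
        fun x => ⟨x.1.1, x.1.2, fun e => x.2 (Subtype.ext e)⟩, fun x => rfl, fun x => rfl⟩ :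
        {s : ↥(twistedG2 K (3 ^ m)) // s ∈ reeU K m ∧ s ≠ 1} ≃ {s : reeU K m // s ≠ 1}),
      Nat.card_eq_fintype_card, Fintype.card_subtype_compl, Fintype.card_subtype_eq,
      ← Nat.card_eq_fintype_card]
    exact Nat.sub_add_cancel Nat.card_pos
  rw [Nat.card_congr (Equiv.subtypeEquivRight
    (q := fun g => ∃ c, c * g * c⁻¹ ∈ reeU K m ∧ c * g * c⁻¹ ≠ 1) fun g => ?_), h, index_reeBorel hK hm]
  · generalize (3 ^ (2 * m + 1)) ^ 3 = Q at hU ⊢
    generalize Nat.card {s : ↥(twistedG2 K (3 ^ m)) // s ∈ reeU K m ∧ s ≠ 1} = S at hU ⊢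
    subst hU
    ring
  · constructor
    · rintro ⟨k, hk⟩
      obtain ⟨c, hc⟩ := exists_conj_reeU hK hm hk
      refine ⟨c, hc, fun e => ?_⟩
      rw [conj_eq_one_iff.1 e, orderOf_one] at hk
      exact absurd hk.symm (Nat.one_lt_pow (by omega) (by norm_num)).ne'
    · rintro ⟨c, hc, hc1⟩
      have hd : orderOf (c * g * c⁻¹) ∣ (3 ^ (2 * m + 1)) ^ 3 := card_reeU hK ▸ Subgroup.orderOf_dvd_natCard _ hc
      rw [← pow_mul] at hd
      obtain ⟨i, -, hi⟩ := (Nat.dvd_prime_pow Nat.prime_three).1 hd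
      rw [ree_orderOf_conj hK] at hi
      rcases Nat.eq_zero_or_pos i with rfl | hi0
      · exact absurd (orderOf_eq_one_iff.1 (by rw [ree_orderOf_conj hK, hi, pow_zero])) hc1
      · exact ⟨i - 1, by rw [hi, Nat.sub_add_cancel hi0]⟩

theorem card_order_six (hm : 1 ≤ m) :
    Nat.card {g : ↥(twistedG2 K (3 ^ m)) // orderOf g = 6} * (3 ^ (2 * m + 1) * (3 ^ (2 * m + 1) - 1)) =
      Nat.card ↥(twistedG2 K (3 ^ m)) * (3 ^ (2 * m + 1) - 1) := by
  classical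
  obtain ⟨A, hA, hA1, hA2⟩ := exists_reeH_involution hK
  obtain ⟨s0, hS⟩ := exists_isRankOne_ree hK
  set C := Subgroup.centralizer ({A} : Set ↥(twistedG2 K (3 ^ m)))
  set N := borelIn chevG2 (twistedG2 K (3 ^ m)) ⊓ C
  have hA3 : A ^ 3 = A := by rw [pow_succ, pow_two, hA2, one_mul]
  have hHcomm : ∀ x ∈ reeH K m, Commute x A := fun x hx =>
    congrArg Subtype.val ((isCyclic_reeH hK).isMulCommutative.is_comm.comm ⟨x, hx⟩ ⟨A, hA⟩)
  -- the order of `N`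
  have hN : Nat.card N = 3 ^ (2 * m + 1) * (3 ^ (2 * m + 1) - 1) := by
    rw [← card_reeH hK, ← card_reeU_centralized hK hA hA1 hA2, ← Nat.card_prod]
    let f : ↥(reeU K m ⊓ C) × reeH K m → N := fun p => ⟨(p.1 : ↥(twistedG2 K (3 ^ m))) * p.2,
      mem_borelIn_ree.2 (mul_mem (Subgroup.mem_sup_left (mem_reeU.1 p.1.2.1))
        (Subgroup.mem_sup_right (mem_reeH.1 p.2.2))),
      mul_mem p.1.2.2 (Subgroup.mem_centralizer_singleton_iff.2 (hHcomm _ p.2.2).eq)⟩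
    refine (Nat.card_eq_of_bijective f ⟨?_, ?_⟩).symm
    · rintro ⟨u, h⟩ ⟨u', h'⟩ heq
      have e : (u : ↥(twistedG2 K (3 ^ m))) * h = u' * h' := congrArg Subtype.val heq
      have h1 : ((u' : ↥(twistedG2 K (3 ^ m)))⁻¹ * u) = 1 := by
        refine Subtype.ext (CfsgLib.Chevalley.eq_one_of_mem_pos_diagonal fullG2
          (mem_reeU.1 (mul_mem (inv_mem u'.2.1) u.2.1)) (mem_reeH.1 ?_))
        rw [show (u' : ↥(twistedG2 K (3 ^ m)))⁻¹ * u = h' * (h : ↥(twistedG2 K (3 ^ m)))⁻¹ by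
          rw [eq_mul_inv_iff_mul_eq, mul_assoc, e, inv_mul_cancel_left]]
        exact mul_mem h'.2 (inv_mem h.2)
      obtain rfl : u' = u := Subtype.ext (inv_mul_eq_one.1 h1)
      rw [Subtype.ext (mul_left_cancel e) (a1 := h) (a2 := h')]
    · rintro ⟨b, hbB, hbC⟩
      obtain ⟨u, t, hu, huU, ht, htH, e⟩ := hS.borel _ b.2 (mem_borelIn_ree.1 hbB)
      have htm : (⟨t, ht⟩ : ↥(twistedG2 K (3 ^ m))) ∈ reeH K m := mem_reeH.2 htH
      have huC : (⟨u, hu⟩ : ↥(twistedG2 K (3 ^ m))) ∈ C := by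
        have : (⟨u, hu⟩ : ↥(twistedG2 K (3 ^ m))) = b * (⟨t, ht⟩ : ↥(twistedG2 K (3 ^ m)))⁻¹ :=
          Subtype.ext (by rw [Subgroup.coe_mul, Subgroup.coe_inv, e, mul_inv_cancel_right])
        rw [this]
        exact mul_mem hbC (inv_mem (Subgroup.mem_centralizer_singleton_iff.2 (hHcomm _ htm).eq))
      exact ⟨(⟨⟨u, hu⟩, mem_reeU.2 huU, huC⟩, ⟨⟨t, ht⟩, htm⟩), Subtype.ext (Subtype.ext e.symm)⟩
  have h := card_conj_into N (fun g => orderOf g = 6 ∧ g ^ 3 = A ∧ g ^ 4 ∈ reeU K m)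
    (fun n hn g hg => ⟨by rw [ree_orderOf_conj hK, hg.1],
      by rw [conj_pow, hg.2.1, Subgroup.mem_centralizer_singleton_iff.1 hn.2, mul_inv_cancel_right],
      by rw [conj_pow]; exact reeBorel_conj_mem hK hn.1 hg.2.2⟩)
    (fun c g hg hc => ⟨mem_reeBorel_of_conj hK hg.2.2
      (fun e => by
        have := orderOf_dvd_of_pow_eq_one e
        rw [hg.1] at this; omega)
      (by rw [← conj_pow]; exact hc.2.2),
      Subgroup.mem_centralizer_singleton_iff.2 (mul_inv_eq_iff_eq_mul.1 (by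
        have := hc.2.1
        rwa [conj_pow, hg.2.1] at this))⟩)
  have hSet : Nat.card {g : ↥(twistedG2 K (3 ^ m)) // orderOf g = 6 ∧ g ^ 3 = A ∧ g ^ 4 ∈ reeU K m} =
      Nat.card {u : ↥(reeU K m ⊓ C) // u ≠ 1} := by
    refine Nat.card_congr ⟨fun g => ⟨⟨g.1 ^ 4, g.2.2.2, Subgroup.mem_centralizer_singleton_iff.2 ?_⟩, fun e => ?_⟩,
      fun u => ⟨A * (u.1 : ↥(twistedG2 K (3 ^ m))), ?_⟩, fun g => ?_, fun u => ?_⟩
    · have h43 : Commute (g.1 ^ 4) (g.1 ^ 3) := (Commute.refl _).pow_pow 4 3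
      rw [g.2.2.1] at h43
      exact h43.eq
    · have := orderOf_dvd_of_pow_eq_one (congrArg Subtype.val e : g.1 ^ 4 = 1)
      rw [g.2.1] at this; omega
    · have hc : Commute A (u.1 : ↥(twistedG2 K (3 ^ m))) :=
        (Subgroup.mem_centralizer_singleton_iff.1 u.1.2.2 : Commute _ A).symm
      obtain ⟨v, hv⟩ := (reeU_centralized hK hA hA1 hA2).1 ⟨u.1.2.1, hc⟩
      have hu3 : (u.1 : ↥(twistedG2 K (3 ^ m))) ^ 3 = 1 := by
        refine Subtype.ext ?_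
        rw [SubmonoidClass.coe_pow, hv, pow_succ, pow_two, reeX_add hK, reeX_add hK,
          show v + v + v = 0 by linear_combination v * three_eq_zero_ree hK, (reeX_eq_one_iff hK 0).2 rfl]
        rfl
      have hou : orderOf (u.1 : ↥(twistedG2 K (3 ^ m))) = 3 :=
        (orderOf_eq_prime_iff (hp := ⟨Nat.prime_three⟩)).2 ⟨hu3, fun e => u.2 (Subtype.ext e)⟩
      have hoA : orderOf A = 2 := orderOf_eq_prime (by rw [pow_two, hA2]) hA1
      refine ⟨?_, ?_, ?_⟩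
      · rw [hc.orderOf_mul_eq_mul_orderOf_of_coprime (by rw [hoA, hou]; rfl), hoA, hou]
      · rw [hc.mul_pow, hu3, mul_one, hA3]
      · rw [hc.mul_pow, show A ^ 4 = 1 by rw [show 4 = 3 + 1 by rfl, pow_succ, hA3, hA2], one_mul,
          pow_succ, hu3, one_mul]
        exact u.1.2.1
    · refine Subtype.ext ?_
      show A * g.1 ^ 4 = g.1
      have e6 : g.1 ^ 6 = 1 := orderOf_dvd_iff_pow_eq_one.1 g.2.1.dvd
      calc A * g.1 ^ 4 = g.1 ^ 3 * g.1 ^ 4 := by congr 1; exact g.2.2.1.symm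
        _ = g.1 := by rw [← pow_add, show 3 + 4 = 6 + 1 by rfl, pow_succ, e6, one_mul]
    · refine Subtype.ext (Subtype.ext ?_)
      have hc : Commute A (u.1 : ↥(twistedG2 K (3 ^ m))) :=
        (Subgroup.mem_centralizer_singleton_iff.1 u.1.2.2 : Commute _ A).symm
      obtain ⟨v, hv⟩ := (reeU_centralized hK hA hA1 hA2).1 ⟨u.1.2.1, hc⟩
      have hu3 : (u.1 : ↥(twistedG2 K (3 ^ m))) ^ 3 = 1 := by
        refine Subtype.ext ?_
        rw [SubmonoidClass.coe_pow, hv, pow_succ, pow_two, reeX_add hK, reeX_add hK,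
          show v + v + v = 0 by linear_combination v * three_eq_zero_ree hK, (reeX_eq_one_iff hK 0).2 rfl]
        rfl
      show (A * (u.1 : ↥(twistedG2 K (3 ^ m)))) ^ 4 = u.1
      rw [hc.mul_pow, show A ^ 4 = 1 by rw [show 4 = 3 + 1 by rfl, pow_succ, hA3, hA2], one_mul,
        pow_succ, hu3, one_mul]
  have hcard : Nat.card {u : ↥(reeU K m ⊓ C) // u ≠ 1} = 3 ^ (2 * m + 1) - 1 := by
    have := Fintype.ofFinite ↥(reeU K m ⊓ C)
    rw [Nat.card_eq_fintype_card, Fintype.card_subtype_compl, Fintype.card_subtype_eq,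
      ← Nat.card_eq_fintype_card, card_reeU_centralized hK hA hA1 hA2]
  rw [Nat.card_congr (Equiv.subtypeEquivRight
    (q := fun g => ∃ c, orderOf (c * g * c⁻¹) = 6 ∧ (c * g * c⁻¹) ^ 3 = A ∧ (c * g * c⁻¹) ^ 4 ∈ reeU K m)
    fun g => ?_), h, hSet, hcard, ← N.card_mul_index, hN]
  · ring
  · refine ⟨fun hg => ?_, fun ⟨c, hc, _⟩ => (ree_orderOf_conj hK c g).symm.trans hc⟩
    obtain ⟨c, hc⟩ := exists_conj_involution hK hm (t := g ^ 3) hA hA1 hA2
      (fun e => by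
        have := orderOf_dvd_of_pow_eq_one e
        rw [hg] at this; omega)
      (by rw [← pow_add]; exact orderOf_dvd_iff_pow_eq_one.1 hg.dvd)
    rw [← conj_pow] at hc
    set g' := c * g * c⁻¹
    have hg' : orderOf g' = 6 := (ree_orderOf_conj hK c g).trans hg
    have ho4 : orderOf (g' ^ 4) = 3 ^ 1 := by rw [orderOf_pow' g' (by norm_num), hg']; rfl
    obtain ⟨d, hd, hdU⟩ := exists_conj_centralized hK hA hA1 hA2 (z := g' ^ 4)
      (hc ▸ (Commute.refl g').pow_pow 4 3) ho4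
    refine ⟨d * c, ?_, ?_, ?_⟩
    · rw [ree_orderOf_conj hK, hg]
    · rw [show d * c * g * (d * c)⁻¹ = d * g' * d⁻¹ by simp only [g']; group, conj_pow, hc, hd.eq,
        mul_inv_cancel_right]
    · rw [show d * c * g * (d * c)⁻¹ = d * g' * d⁻¹ by simp only [g']; group, conj_pow]
      exact hdU

/-- Elements with non-trivial square in a torus, counted. -/
theorem card_sq_ne_one {H : Subgroup ↥(twistedG2 K (3 ^ m))} {k : ℕ}
    (h : Nat.card {x : H // x * x = 1} = k) :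
    Nat.card {s : ↥(twistedG2 K (3 ^ m)) // s ∈ H ∧ s * s ≠ 1} + k = Nat.card H := by
  classical
  have := Fintype.ofFinite H
  rw [Nat.card_congr (⟨fun x => ⟨⟨x.1, x.2.1⟩, fun e => x.2.2 (congrArg Subtype.val e)⟩,
      fun x => ⟨x.1.1, x.1.2, fun e => x.2 (Subtype.ext e)⟩, fun x => rfl, fun x => rfl⟩ :
      {s : ↥(twistedG2 K (3 ^ m)) // s ∈ H ∧ s * s ≠ 1} ≃ {s : H // ¬ s * s = 1}),
    ← h, Nat.card_eq_fintype_card, Nat.card_eq_fintype_card, Nat.card_eq_fintype_card,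
    Fintype.card_subtype_compl, Nat.sub_add_cancel (Fintype.card_subtype_le _)]

theorem card_split_type (hm : 1 ≤ m) :
    Nat.card {g : ↥(twistedG2 K (3 ^ m)) // BigPrime (3 ^ (2 * m + 1) - 1) (orderOf g)} *
      (2 * (3 ^ (2 * m + 1) - 1)) = Nat.card ↥(twistedG2 K (3 ^ m)) * (3 ^ (2 * m + 1) - 3) := by
  classical
  obtain ⟨h27, hq8, hq3⟩ := ree_q_data (m := m) hm
  set H := reeH K m
  have hab : ∀ u ∈ H, ∀ v ∈ H, u * v = v * u := fun u hu v hv =>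
    congrArg Subtype.val ((isCyclic_reeH hK).isMulCommutative.is_comm.comm ⟨u, hu⟩ ⟨v, hv⟩)
  have hconj2 : ∀ c s : ↥(twistedG2 K (3 ^ m)), c * s * c⁻¹ * (c * s * c⁻¹) = c * (s * s) * c⁻¹ :=
    fun c s => by group
  have h := card_conj_into (Subgroup.normalizer (H : Set ↥(twistedG2 K (3 ^ m)))) (fun s => s ∈ H ∧ s * s ≠ 1)
    (fun n hn s hs => ⟨(Subgroup.mem_normalizer_iff.1 hn s).1 hs.1, fun e => by
      rw [hconj2] at e; exact hs.2 (conj_eq_one_iff.1 e)⟩)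
    (fun c s hs hc => mem_normalizer_of_centralizer_eq (centralizer_eq_reeH hK hm hs.1 hs.2)
      (centralizer_eq_reeH hK hm hc.1 hc.2))
  have hk : Nat.card {x : H // x * x = 1} = 2 := by
    obtain ⟨A, hA, hA1, hA2⟩ := exists_reeH_involution hK
    have hset : ∀ x : H, x * x = 1 ↔ x ∈ ({1, ⟨A, hA⟩} : Finset H) := by
      intro x
      simp only [Finset.mem_insert, Finset.mem_singleton]
      constructor
      · intro hx
        by_cases hx1 : x = 1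
        · exact Or.inl hx1
        refine Or.inr ?_
        have := isCyclic_reeH hK (m := m)
        have hmem := GLSeven.mem_zpowers_of_cyclic (x := (⟨A, hA⟩ : H)) (y := x) two_pos
          (orderOf_eq_prime (by rw [pow_two]; exact Subtype.ext hA2) (fun e => hA1 (congrArg Subtype.val e)))
          (by rw [pow_two, hx])
        obtain ⟨i, hi⟩ := Subgroup.mem_zpowers_iff.1 hmem
        have hAA : (⟨A, hA⟩ : H) ^ (2 : ℤ) = 1 := by rw [zpow_two]; exact Subtype.ext hA2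
        rw [← Int.emod_add_mul_ediv i 2, zpow_add, zpow_mul, hAA, one_zpow, mul_one] at hi
        rcases Int.emod_two_eq i with h | h <;> rw [h] at hi
        · rw [zpow_zero] at hi; exact absurd hi.symm hx1
        · rw [zpow_one] at hi; exact hi.symm
      · rintro (rfl | rfl)
        · exact one_mul 1
        · exact Subtype.ext hA2
    rw [Nat.card_congr (Equiv.subtypeEquivRight hset), Nat.card_eq_fintype_card, Fintype.card_coe,
      Finset.card_pair (fun e => hA1 (congrArg Subtype.val e).symm)]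
  have hc := card_sq_ne_one hK hk
  rw [card_reeH hK] at hc
  rw [Nat.card_congr (Equiv.subtypeEquivRight
    (q := fun g => ∃ c, c * g * c⁻¹ ∈ H ∧ c * g * c⁻¹ * (c * g * c⁻¹) ≠ 1) fun g => ?_), h,
    ← (Subgroup.normalizer (H : Set ↥(twistedG2 K (3 ^ m)))).card_mul_index, card_normalizer_reeH hK hm,
    show Nat.card {s : ↥(twistedG2 K (3 ^ m)) // s ∈ H ∧ s * s ≠ 1} = 3 ^ (2 * m + 1) - 3 by omega]
  · ring
  · refine ⟨split_type_conj hK hm, fun ⟨c, hc, hc2⟩ => ?_⟩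
    have hd : orderOf (c * g * c⁻¹) ∣ 3 ^ (2 * m + 1) - 1 := card_reeH hK ▸ Subgroup.orderOf_dvd_natCard _ hc
    rw [ree_orderOf_conj hK] at hd
    by_contra hno
    have hsm : ∀ ℓ, ℓ.Prime → 5 ≤ ℓ → ¬ ℓ ∣ orderOf g := fun ℓ hℓ h5 hdd =>
      hno ⟨ℓ, hℓ, h5, hdd.trans hd, hdd⟩
    obtain ⟨a, b, hab'⟩ := eq_two_pow_mul_three_pow (orderOf_pos g).ne' hsm
    have hb : b = 0 := by
      by_contra hb
      have : 3 ∣ 3 ^ (2 * m + 1) - 1 := (hab' ▸ dvd_mul_of_dvd_right (dvd_pow_self 3 hb) _ : 3 ∣ orderOf g).trans hd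
      omega
    have ha : a ≤ 1 := by
      by_contra ha
      have h4 : 4 ∣ 3 ^ (2 * m + 1) - 1 :=
        ((show 4 ∣ 2 ^ a from ⟨2 ^ (a - 2), by rw [show (4 : ℕ) = 2 ^ 2 by norm_num, ← pow_add]; congr 1; omega⟩).trans
          (hab' ▸ dvd_mul_right _ _)).trans hd
      omega
    refine hc2 ?_
    rw [← pow_two]
    refine orderOf_dvd_iff_pow_eq_one.1 ?_
    rw [ree_orderOf_conj hK, hab', hb, pow_zero, mul_one]
    exact (pow_dvd_pow 2 ha).trans (by rw [pow_one])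

theorem card_nonsplit_type (hm : 1 ≤ m) :
    Nat.card {g : ↥(twistedG2 K (3 ^ m)) // BigPrime (3 ^ (2 * m + 1) + 1) (orderOf g)} *
      (6 * (3 ^ (2 * m + 1) + 1)) = Nat.card ↥(twistedG2 K (3 ^ m)) * (3 ^ (2 * m + 1) - 3) := by
  classical
  obtain ⟨h27, hq8, hq3⟩ := ree_q_data (m := m) hm
  obtain ⟨M, A, e, o, hN⟩ := exists_nonsplit hK hm
  have hconj2 : ∀ c s : ↥(twistedG2 K (3 ^ m)), c * s * c⁻¹ * (c * s * c⁻¹) = c * (s * s) * c⁻¹ :=
    fun c s => by group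
  have h := card_conj_into (Subgroup.normalizer (M : Set ↥(twistedG2 K (3 ^ m)))) (fun s => s ∈ M ∧ s * s ≠ 1)
    (fun n hn s hs => ⟨(Subgroup.mem_normalizer_iff.1 hn s).1 hs.1, fun e => by
      rw [hconj2] at e; exact hs.2 (conj_eq_one_iff.1 e)⟩)
    (fun c s hs hc => mem_normalizer_of_centralizer_eq (centralizer_eq_nonsplit_of_sq_ne hK hN hm hs.1 hs.2)
      (centralizer_eq_nonsplit_of_sq_ne hK hN hm hc.1 hc.2))
  have hk : Nat.card {x : M // x * x = 1} = 4 := by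
    rw [← card_invSubgroup hK hN hm]
    exact Nat.card_congr ⟨fun x => ⟨x.1.1, x.1.2, congrArg Subtype.val x.2⟩,
      fun x => ⟨⟨x.1, x.2.1⟩, Subtype.ext x.2.2⟩, fun x => rfl, fun x => rfl⟩
  have hc := card_sq_ne_one hK hk
  rw [hN.card] at hc
  rw [Nat.card_congr (Equiv.subtypeEquivRight
    (q := fun g => ∃ c, c * g * c⁻¹ ∈ M ∧ c * g * c⁻¹ * (c * g * c⁻¹) ≠ 1) fun g => ?_), h,
    ← (Subgroup.normalizer (M : Set ↥(twistedG2 K (3 ^ m)))).card_mul_index, card_normalizer_nonsplit hK hN hm,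
    show Nat.card {s : ↥(twistedG2 K (3 ^ m)) // s ∈ M ∧ s * s ≠ 1} = 3 ^ (2 * m + 1) - 3 by omega]
  · ring
  · refine ⟨nonsplit_type_conj hK hm hN, fun ⟨c, hc, hc2⟩ => ?_⟩
    have hd := hN.exp _ hc
    rw [ree_orderOf_conj hK] at hd
    have hd' : orderOf g ∣ 3 ^ (2 * m + 1) + 1 :=
      hd.trans (Nat.div_dvd_of_dvd (by omega : 2 ∣ 3 ^ (2 * m + 1) + 1))
    by_contra hno
    have hsm : ∀ ℓ, ℓ.Prime → 5 ≤ ℓ → ¬ ℓ ∣ orderOf g := fun ℓ hℓ h5 hdd =>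
      hno ⟨ℓ, hℓ, h5, hdd.trans hd', hdd⟩
    obtain ⟨a, b, hab'⟩ := eq_two_pow_mul_three_pow (orderOf_pos g).ne' hsm
    have hb : b = 0 := by
      by_contra hb
      have : 3 ∣ 3 ^ (2 * m + 1) + 1 := (hab' ▸ dvd_mul_of_dvd_right (dvd_pow_self 3 hb) _ : 3 ∣ orderOf g).trans hd'
      omega
    have ha : a ≤ 1 := by
      by_contra ha
      have h4 : 4 ∣ (3 ^ (2 * m + 1) + 1) / 2 :=
        ((show 4 ∣ 2 ^ a from ⟨2 ^ (a - 2), by rw [show (4 : ℕ) = 2 ^ 2 by norm_num, ← pow_add]; congr 1; omega⟩).trans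
          (hab' ▸ dvd_mul_right _ _)).trans hd
      omega
    refine hc2 ?_
    rw [← pow_two]
    refine orderOf_dvd_iff_pow_eq_one.1 ?_
    rw [ree_orderOf_conj hK, hab', hb, pow_zero, mul_one]
    exact (pow_dvd_pow 2 ha).trans (by rw [pow_one])

end CfsgLib.Twisted
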