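import Cfsg.Agent.Lib.Twisted.ReePSL
import Cfsg.Agent.Lib.SL2.Basic
import Cfsg.Agent.Lib.Twisted.AbelianTransfer

/-! The centraliser `Z₂ × PSL₂(q)` of an involution of the torus of ²G₂(q), and the Sylow 2-subgroups. -/

set_option autoImplicit false

namespace CfsgLib.Twisted

open Cfsg.Lie
open Matrix
open scoped Pointwise
open CfsgLib.Chevalley (auxG2 cert_G2 xG nG hG xG_zero prodU torusHom chi acts_torus)
open CfsgLib.KnownSimple.SL2Presentation (wEl hEl)

theorem mulZModTwo_cases (i : Multiplicative (ZMod 2)) : i = 1 ∨ i = Multiplicative.ofAdd 1 := by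
  revert i
  decide

theorem mulZModTwo_sq (i : Multiplicative (ZMod 2)) : i * i = 1 := by
  revert i
  decide

theorem mulZModTwo_ne : Multiplicative.ofAdd (1 : ZMod 2) ≠ 1 := by decide

variable {K : Type*} [Field K] [Fintype K] {m : ℕ} (hK : Fintype.card K = 3 ^ (2 * m + 1))
include hK

theorem ree_neg_one_ne_one : (-1 : K) ≠ 1 := by
  have : CharP K 3 := charP_ree hK
  exact Ring.neg_one_ne_one_of_char_ne_two (by rw [ringChar.eq K 3]; norm_num)

theorem reeTorusVal_involution {a : ↥(chevG2.diagonalSubgroup K ⊓ twistedG2 K (3 ^ m))} (h1 : a ≠ 1)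
    (h2 : a * a = 1) : reeTorusVal a = -1 := by
  have h : reeTorusVal a * reeTorusVal a = 1 := by rw [← map_mul, h2, map_one]
  exact (mul_self_eq_one_iff.1 h).resolve_left fun e => h1 (reeTorusVal_injective hK (e.trans (map_one _).symm))

theorem reeInv_chi {a : ↥(chevG2.diagonalSubgroup K ⊓ twistedG2 K (3 ^ m))} (ha : reeTorusVal a = -1) :
    ∃ c, (a : GL chevG2.Idx K) = torusHom chevG2 K c ∧ ((chi chevG2 6 c : Kˣ) : K) = -1 ∧
      ((chi chevG2 11 c : Kˣ) : K) = -1 ∧
      ∀ r ∈ [g2ab, g2aaab, g2mab, g2maaab], ((chi chevG2 r c : Kˣ) : K) = 1 := by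
  obtain ⟨c, hgc, hfix⟩ := reeTorus_fixed hK a.2
  have h7 : ((chi chevG2 7 c : Kˣ) : K) = -1 := by
    rw [← ha]
    show _ = ((a : GL chevG2.Idx K) : Matrix chevG2.Idx chevG2.Idx K) _ _
    rw [hgc, CfsgLib.Chevalley.coe_torusHom, Matrix.diagonal_apply_eq]
    rfl
  have h6 : ((chi chevG2 6 c : Kˣ) : K) = -1 := by
    have := hfix 7 (by norm_num)
    rw [reeTorus_data.1.2.2.1] at this
    rw [← this, g2Twist, reeTorus_data.1.2.2.2.2.1, h7]
    norm_num [((by decide : Odd 3).pow (n := m)).neg_one_pow]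
  have h10 : chi chevG2 g2aaab c = 1 := by
    refine Units.ext ?_
    show ((chi chevG2 10 c : Kˣ) : K) = 1
    rw [(chi_ree c).1, Units.val_mul, Units.val_pow_eq_pow_val, h7, h6]
    norm_num
  have h8 : chi chevG2 g2ab c = 1 := by
    have := hfix g2aaab (by decide)
    rw [reeRho_data.1, h10, g2Twist, Units.val_one, one_pow, one_pow] at this
    exact Units.ext this.symm
  have hneg : ∀ r r' : ℕ, (∀ k < 2, chevG2.cartan k r' = -chevG2.cartan k r) → chi chevG2 r c = 1 →
      chi chevG2 r' c = 1 := fun r r' hrr h1 => by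
    show ∏ k : Fin 2, c k ^ chevG2.cartan k r' = 1
    simp only [hrr _ (Fin.isLt _), _root_.zpow_neg, Finset.prod_inv_distrib]
    rw [inv_eq_one]
    exact h1
  refine ⟨c, hgc, h6, ?_, ?_⟩
  · rw [(chi_ree c).2, Units.val_mul, Units.val_pow_eq_pow_val, Units.val_pow_eq_pow_val, h7, h6]
    norm_num
  · intro r hr
    simp only [List.mem_cons, List.not_mem_nil, or_false] at hr
    rcases hr with rfl | rfl | rfl | rfl
    · rw [h8, Units.val_one]
    · rw [h10, Units.val_one]
    · rw [hneg _ _ (fun k hk => (reePair_data.2.2.2.1 k hk).1) h8, Units.val_one]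
    · rw [hneg _ _ (fun k hk => (reePair_data.2.2.2.1 k hk).2) h10, Units.val_one]

theorem reeInv_commute {a : ↥(chevG2.diagonalSubgroup K ⊓ twistedG2 K (3 ^ m))} (ha : reeTorusVal a = -1) (t : K) :
    Commute (a : GL chevG2.Idx K) (reeX m t) ∧ Commute (a : GL chevG2.Idx K) (reeY m t) := by
  obtain ⟨c, hgc, -, -, h1⟩ := reeInv_chi hK ha
  have hcm : ∀ r ∈ [g2ab, g2aaab, g2mab, g2maaab], ∀ s : K,
      Commute (a : GL chevG2.Idx K) (xG cert_G2 r s) := by
    intro r hr s
    have hlt : r < chevG2.nroots := (by decide : ∀ r ∈ [g2ab, g2aaab, g2mab, g2maaab], r < chevG2.nroots) r hr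
    have := (acts_torus cert_G2 c).conj ⟨r, hlt⟩ s
    simp only [Equiv.Perm.coe_one, id_eq] at this
    rw [h1 r hr, one_mul] at this
    rw [hgc]
    exact mul_inv_eq_iff_eq_mul.1 this
  exact ⟨(hcm _ (by simp) _).mul_right (hcm _ (by simp) _), (hcm _ (by simp) _).mul_right (hcm _ (by simp) _)⟩

/-- The centraliser of the involution in `U¹`. -/
theorem reeInv_unipotent {a : ↥(chevG2.diagonalSubgroup K ⊓ twistedG2 K (3 ^ m))} (ha : reeTorusVal a = -1)
    {x : GL chevG2.Idx K} (hx : x ∈ twistedG2 K (3 ^ m) ⊓ chevG2.posUnipotent K)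
    (hcomm : Commute (a : GL chevG2.Idx K) x) : ∃ v, x = reeX m v := by
  obtain ⟨c, hgc, h6, h11, h1⟩ := reeInv_chi hK ha
  obtain ⟨t, u, v, rfl⟩ := (mem_unipotent_g2 hK (g2Twist_isTwist hK) le_rfl x).1 hx
  refine ⟨u, ?_⟩
  have hp := g2Fixed_ok
  simp only [Bool.and_eq_true, beq_iff_eq] at hp
  let F : ℕ → K := fun r => if r = g2b then t else if r = g2a then t ^ 3 ^ m else
    if r = g2ab then u ^ 3 ^ m else if r = g2aab then v ^ 3 ^ m else
    if r = g2aaab then u + t * (t ^ 3 ^ m) ^ 3 else v + t ^ 2 * (t ^ 3 ^ m) ^ 3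
  have e : wordG cert_G2 (reeWordU (3 ^ m) t u v) = prodU cert_G2 chevG2.posRoots F := by
    rw [(reeWordU_sorted hK t u v).1, hp.2]
    simp only [prodU, wordG, List.map_cons, List.map_nil, F, g2a, g2b, g2ab, g2aab, g2aaab, g2aaabb,
      Nat.reduceEqDiff, ↓reduceIte]
  have hconj : wordG cert_G2 (reeWordU (3 ^ m) t u v) =
      prodU cert_G2 chevG2.posRoots fun r => ((chi chevG2 r c : Kˣ) : K) * F r := by
    have h1 : (a : GL chevG2.Idx K) * wordG cert_G2 (reeWordU (3 ^ m) t u v) * (a : GL chevG2.Idx K)⁻¹ =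
        wordG cert_G2 (reeWordU (3 ^ m) t u v) := by
      rw [hcomm.eq, mul_inv_cancel_right]
    conv_lhs => rw [← h1, e]
    rw [prodU, ← MulAut.conj_apply, map_list_prod, List.map_map, prodU]
    refine congrArg List.prod (List.map_congr_left fun r hr => ?_)
    have hr' : r < chevG2.nroots := List.mem_range.1 (List.mem_filter.1 hr).1
    rw [Function.comp_apply, MulAut.conj_apply, hgc]
    exact (acts_torus cert_G2 c).conj ⟨r, hr'⟩ (F r)
  obtain ⟨k6, -, k11⟩ := reeWordU_coord hK hconj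
  simp only [F, g2a, g2b, g2ab, g2aab, g2aaab, Nat.reduceEqDiff, ↓reduceIte, h6, h11] at k6 k11
  have z : ∀ y : K, -1 * y = y → y = 0 := fun y hy => by
    rcases (mul_left_eq_self₀ (a := -1) (b := y)).1 hy with h | h
    exacts [absurd h (ree_neg_one_ne_one hK), h]
  have ht : t = 0 := z _ k6
  subst ht
  simp only [zero_pow two_ne_zero, zero_mul, add_zero] at k11
  have hv : v = 0 := z _ k11
  subst hv
  exact (reeX_eq_word u).symm

theorem reeX_eq_one_iff (t : K) : reeX m t = 1 ↔ t = 0 := by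
  refine ⟨fun e => ?_, ?_⟩
  · have := reeWordU_coord hK (f := fun _ => (0 : K)) (t := 0) (u := t) (v := 0) (by
      rw [← reeX_eq_word, e, prodU]
      refine (List.prod_eq_one fun x hx => ?_).symm
      obtain ⟨r, -, rfl⟩ := List.mem_map.1 hx
      exact xG_zero _ _)
    simpa using this.2.1.symm
  · rintro rfl
    have he : (3 : ℕ) ^ m ≠ 0 := (Nat.pow_pos (by norm_num)).ne'
    simp [reeX, zero_pow he, xG_zero]

set_option maxHeartbeats 1000000 in
/-- `C(a) ≅ Z₂ × PSL₂(q)`. -/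
theorem ree_centralizer_involution {A : ↥(twistedG2 K (3 ^ m))}
    (hA : (A : GL chevG2.Idx K) ∈ chevG2.diagonalSubgroup K) (hA1 : A ≠ 1) (hA2 : A * A = 1) :
    Nonempty (Multiplicative (ZMod 2) × ProjectiveSpecialLinearGroup (Fin 2) K ≃* ↥(Subgroup.centralizer {A})) := by
  classical
  set C := Subgroup.centralizer ({A} : Set ↥(twistedG2 K (3 ^ m)))
  let a : ↥(chevG2.diagonalSubgroup K ⊓ twistedG2 K (3 ^ m)) := ⟨(A : GL chevG2.Idx K), hA, A.2⟩
  have ha : reeTorusVal a = -1 := reeTorusVal_involution hK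
    (fun e => hA1 (Subtype.ext (congrArg (fun w : ↥(chevG2.diagonalSubgroup K ⊓ twistedG2 K (3 ^ m)) =>
      (w : GL chevG2.Idx K)) e)))
    (Subtype.ext (congrArg (fun w : ↥(twistedG2 K (3 ^ m)) => (w : GL chevG2.Idx K)) hA2))
  have hcx := reeInv_commute hK ha
  have memC : ∀ g : ↥(twistedG2 K (3 ^ m)), g ∈ C ↔
      Commute (A : GL chevG2.Idx K) (g : GL chevG2.Idx K) := fun g => by
    rw [Subgroup.mem_centralizer_singleton_iff]
    exact ⟨fun h => (congrArg (fun w : ↥(twistedG2 K (3 ^ m)) => (w : GL chevG2.Idx K)) h).symm,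
      fun h => Subtype.ext h.eq.symm⟩
  obtain ⟨φ, hφX, hφY⟩ := exists_reeHom hK
  have hφ : ∀ g, φ g ∈ twistedG2 K (3 ^ m) ⊓ Subgroup.centralizer {(A : GL chevG2.Idx K)} := by
    intro g
    refine (show (⊤ : Subgroup (SpecialLinearGroup (Fin 2) K)) ≤
      (twistedG2 K (3 ^ m) ⊓ Subgroup.centralizer {(A : GL chevG2.Idx K)}).comap φ from ?_) (Subgroup.mem_top g)
    rw [← sl_gen, Subgroup.closure_le]
    rintro _ (⟨t, rfl⟩ | ⟨t, rfl⟩)
    · rw [SetLike.mem_coe, Subgroup.mem_comap, hφX]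
      exact ⟨reeX_mem t, Subgroup.mem_centralizer_singleton_iff.2 (hcx t).1.eq.symm⟩
    · rw [SetLike.mem_coe, Subgroup.mem_comap, hφY]
      exact ⟨reeY_mem t, Subgroup.mem_centralizer_singleton_iff.2 (hcx t).2.eq.symm⟩
  have hφC : ∀ g, (⟨φ g, (hφ g).1⟩ : ↥(twistedG2 K (3 ^ m))) ∈ C := fun g =>
    (memC _).2 (Subgroup.mem_centralizer_singleton_iff.1 (hφ g).2).symm
  let φC : SpecialLinearGroup (Fin 2) K →* C :=
    { toFun := fun g => ⟨⟨φ g, (hφ g).1⟩, hφC g⟩
      map_one' := Subtype.ext (Subtype.ext (map_one φ))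
      map_mul' := fun g g' => Subtype.ext (Subtype.ext (map_mul φ g g')) }
  have hφW : ∀ t, φ (wEl slX slY t) = wEl (reeX m) (reeY m) t := fun t => by
    simp [wEl, hφX, hφY]
  have hφH : ∀ t, φ (hEl slX slY t) = hEl (reeX m) (reeY m) t := fun t => by
    simp [hEl, hφW]
  have hneg : φ (-1) = 1 := by
    have e : (-1 : SpecialLinearGroup (Fin 2) K) = hEl slX slY (-1) := by
      rw [hEl, eq_mul_inv_iff_mul_eq]
      refine Subtype.ext ?_
      rw [coe_wEl_sl (neg_ne_zero.2 one_ne_zero)]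
      simp only [Matrix.SpecialLinearGroup.coe_mul, coe_wEl_sl (one_ne_zero (α := K)),
        Matrix.SpecialLinearGroup.coe_neg, Matrix.SpecialLinearGroup.coe_one]
      ext i j
      fin_cases i <;> fin_cases j <;> simp
    rw [e, hφH, hEl_ree_neg_one hK]
  have hker : Subgroup.center (SpecialLinearGroup (Fin 2) K) ≤ φC.ker := by
    intro g hg
    rcases (CfsgLib.SL2.mem_center_iff g).1 hg with rfl | rfl
    · exact one_mem _
    · exact Subtype.ext (Subtype.ext hneg)
  let φP : ProjectiveSpecialLinearGroup (Fin 2) K →* C :=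
    QuotientGroup.lift (Subgroup.center (SpecialLinearGroup (Fin 2) K)) φC hker
  let AC : C := ⟨A, (memC A).2 (Commute.refl _)⟩
  have hAC : AC * AC = 1 := Subtype.ext hA2
  have hcen : ∀ z : C, Commute AC z := fun z => Subtype.ext (Subtype.ext ((memC z.1).1 z.2).eq)
  have two := mulZModTwo_cases
  have hne := mulZModTwo_ne
  let εh : Multiplicative (ZMod 2) →* C :=
    { toFun := fun i => if i = 1 then 1 else AC
      map_one' := if_pos rfl
      map_mul' := fun i j => by
        rcases two i with rfl | rfl <;> rcases two j with rfl | rfl <;>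
          simp [hne, hAC, mulZModTwo_sq] }
  have hεA : εh (Multiplicative.ofAdd 1) = AC := by simp [εh, hne]
  let ψ := εh.noncommCoprod φP fun i g => by
    rcases two i with rfl | rfl
    · rw [map_one]; exact Commute.one_left _
    · rw [hεA]; exact hcen _
  -- the Weyl element
  set w := wEl (reeX m) (reeY m) (1 : K) with hw
  have hwG : w ∈ twistedG2 K (3 ^ m) := by
    rw [hw, ← hφW]
    exact (hφ _).1
  have hwN : w ∈ chevG2.monomialSubgroup K := by
    rw [hw, wEl_ree, one_pow]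
    exact mul_mem (Subgroup.mem_sup_right (Subgroup.subset_closure ⟨g2ab, by decide, CfsgLib.Chevalley.coe_nG _ _ _⟩))
      (Subgroup.mem_sup_right (Subgroup.subset_closure ⟨g2aaab, by decide, CfsgLib.Chevalley.coe_nG _ _ _⟩))
  have hwA : Commute (A : GL chevG2.Idx K) w := by
    rw [hw, ← hφW]
    exact (Subgroup.mem_centralizer_singleton_iff.1 (hφ _).2).symm
  have hXU : ∀ t : K, reeX m t ∈ twistedG2 K (3 ^ m) ⊓ chevG2.posUnipotent K := fun t => by
    rw [reeX_eq_word]
    exact (mem_unipotent_g2 hK (g2Twist_isTwist hK) le_rfl _).2 ⟨0, t, 0, rfl⟩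
  have hwB : w ∉ chevG2.borelSubgroup K := by
    intro hB
    have hd : w ∈ chevG2.diagonalSubgroup K := by
      rw [← CfsgLib.Chevalley.borel_inf_monomial fullG2]
      exact ⟨hB, hwN⟩
    have e : w * reeX m (-1) * w⁻¹ = reeY m 1 := by
      rw [hw, ree_conj 1 (-1) one_ne_zero]
      simp
    have hyU : reeY m (1 : K) ∈ chevG2.borelSubgroup K ⊓ chevG2.negUnipotent K := by
      refine ⟨?_, ?_⟩
      · rw [← e]
        exact Subgroup.mul_mem _ (Subgroup.mul_mem _ hB (Subgroup.mem_sup_left (hXU _).2)) (Subgroup.inv_mem _ hB)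
      have hn : ∀ r ∈ [g2mab, g2maaab], chevG2.IsNegRoot r := by decide +kernel
      exact mul_mem (Subgroup.subset_closure ⟨g2mab, _, hn _ (by simp), rfl⟩)
        (Subgroup.subset_closure ⟨g2maaab, _, hn _ (by simp), rfl⟩)
    rw [CfsgLib.Chevalley.borel_inf_negUnipotent fullG2, Subgroup.mem_bot] at hyU
    rw [hyU, conj_eq_one_iff, reeX_eq_one_iff hK] at e
    exact one_ne_zero (neg_eq_zero.1 e)
  obtain ⟨s, hs⟩ := exists_isRankOne_ree hK
  have hS := hs.of_monomial hwG hwN hwB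
  -- the image
  have hX : ∀ t, (⟨⟨reeX m t, reeX_mem t⟩, (memC _).2 (hcx t).1⟩ : C) ∈ ψ.range := fun t =>
    ⟨(1, QuotientGroup.mk (slX t)), by
      refine Subtype.ext (Subtype.ext ?_)
      simp [ψ, φP, φC, hφX, εh]⟩
  have hWr : (⟨⟨w, hwG⟩, (memC _).2 hwA⟩ : C) ∈ ψ.range :=
    ⟨(1, QuotientGroup.mk (wEl slX slY 1)), by
      refine Subtype.ext (Subtype.ext ?_)
      simp [ψ, φP, φC, hφW, εh, hw]⟩
  have hH : ∀ (g : C), ((g : ↥(twistedG2 K (3 ^ m))) : GL chevG2.Idx K) ∈ chevG2.diagonalSubgroup K →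
      g ∈ ψ.range := by
    intro g hg
    obtain ⟨c, hc, h | h⟩ := reeTorus_cases hK (g := ⟨_, hg, g.1.2⟩) ha
    · refine ⟨(1, QuotientGroup.mk (hEl slX slY c)), Subtype.ext (Subtype.ext ?_)⟩
      simp only [ψ, φP, φC, MonoidHom.noncommCoprod_apply, map_one, one_mul, QuotientGroup.lift_mk]
      exact (hφH c).trans h.symm
    · refine ⟨(Multiplicative.ofAdd 1, QuotientGroup.mk (hEl slX slY c)), Subtype.ext (Subtype.ext ?_)⟩
      simp only [ψ, φP, φC, MonoidHom.noncommCoprod_apply, hεA, QuotientGroup.lift_mk]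
      show (A : GL chevG2.Idx K) * φ (hEl slX slY c) = _
      rw [hφH]
      exact h.symm
  have hsurj : Function.Surjective ψ := by
    rw [← MonoidHom.range_eq_top, eq_top_iff]
    rintro ⟨⟨g, hg⟩, hgC⟩ -
    have hga : Commute (A : GL chevG2.Idx K) g := (memC _).1 hgC
    have hconjU : ∀ {y : GL chevG2.Idx K}, y ∈ chevG2.posUnipotent K →
        (A : GL chevG2.Idx K) * y * (A : GL chevG2.Idx K)⁻¹ ∈ chevG2.posUnipotent K :=
      fun hy => IsRankOne.conj_pos fullG2 (Subgroup.mem_sup_right hA) hy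
    have hcommT : ∀ {t : GL chevG2.Idx K}, t ∈ chevG2.diagonalSubgroup K →
        Commute (A : GL chevG2.Idx K) t := by
      intro t ht
      rw [CfsgLib.Chevalley.diagonalSubgroup_eq_range fullG2] at ht
      obtain ⟨c, rfl⟩ := ht
      have hA' := hA
      rw [CfsgLib.Chevalley.diagonalSubgroup_eq_range fullG2] at hA'
      obtain ⟨d, hd⟩ := hA'
      rw [← hd]
      exact (Commute.all d c).map _
    -- elements of the Borel subgroup
    have hBor : ∀ (b : GL chevG2.Idx K) (hb : b ∈ twistedG2 K (3 ^ m)) (hbC : Commute (A : GL chevG2.Idx K) b),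
        b ∈ chevG2.borelSubgroup K → (⟨⟨b, hb⟩, (memC _).2 hbC⟩ : C) ∈ ψ.range := by
      intro b hb hbC hbB
      obtain ⟨u, t, hu, huU, ht, htH, rfl⟩ := hS.borel b hb hbB
      have h1 : Commute (A : GL chevG2.Idx K) u := by
        have := hbC.mul_right (hcommT htH).inv_right
        rwa [mul_inv_cancel_right] at this
      obtain ⟨v, rfl⟩ := reeInv_unipotent hK ha ⟨hu, huU⟩ h1
      exact mul_mem (hX v) (hH ⟨⟨t, ht⟩, (memC _).2 (hcommT htH)⟩ htH)
    rcases hS.cover g hg with hB | ⟨u, b, hu, huU, hb, hbB, rfl⟩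
    · exact hBor g hg hga hB
    have hua : Commute (A : GL chevG2.Idx K) u := by
      set u' := (A : GL chevG2.Idx K) * u * (A : GL chevG2.Idx K)⁻¹
      set b' := (A : GL chevG2.Idx K) * b * (A : GL chevG2.Idx K)⁻¹
      have hb' : b' ∈ chevG2.borelSubgroup K :=
        mul_mem (mul_mem (Subgroup.mem_sup_right hA) hbB) (inv_mem (Subgroup.mem_sup_right hA))
      have e : u' * w * b' = u * w * b := by
        have h2 : (A : GL chevG2.Idx K) * w * (A : GL chevG2.Idx K)⁻¹ = w := by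
          rw [hwA.eq, mul_inv_cancel_right]
        have h3 : (A : GL chevG2.Idx K) * (u * w * b) * (A : GL chevG2.Idx K)⁻¹ = u * w * b := by
          rw [hga.eq, mul_inv_cancel_right]
        calc u' * w * b' = u' * ((A : GL chevG2.Idx K) * w * (A : GL chevG2.Idx K)⁻¹) * b' := by rw [h2]
          _ = (A : GL chevG2.Idx K) * (u * w * b) * (A : GL chevG2.Idx K)⁻¹ := by simp only [u', b']; group
          _ = _ := h3
      have h1 : u⁻¹ * u' = 1 := by
        refine hS.eq_one_of_conj_mem (mul_mem (inv_mem huU) (hconjU huU)) (one_mem _) ?_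
        rw [mul_one, show w⁻¹ * (u⁻¹ * u') * w = b * b'⁻¹ by
          rw [eq_mul_inv_iff_mul_eq]
          calc w⁻¹ * (u⁻¹ * u') * w * b' = w⁻¹ * u⁻¹ * (u' * w * b') := by group
            _ = b := by rw [e]; group]
        exact mul_mem hbB (inv_mem hb')
      exact mul_inv_eq_iff_eq_mul.1 (inv_mul_eq_one.1 h1).symm
    have hba : Commute (A : GL chevG2.Idx K) b := by
      have := (hua.mul_right hwA).inv_right.mul_right hga
      rwa [inv_mul_cancel_left] at this
    obtain ⟨v, rfl⟩ := reeInv_unipotent hK ha ⟨hu, huU⟩ hua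
    exact mul_mem (mul_mem (hX v) hWr) (hBor b hb hba hbB)
  -- the count
  have hcard : Nat.card (Multiplicative (ZMod 2) × ProjectiveSpecialLinearGroup (Fin 2) K) ≤ Nat.card C := by
    let T := ↥(chevG2.diagonalSubgroup K ⊓ twistedG2 K (3 ^ m))
    have hAT : ∀ t : T, Commute (A : GL chevG2.Idx K) (t : GL chevG2.Idx K) := fun t => by
      obtain ⟨c, hc⟩ := (CfsgLib.Chevalley.diagonalSubgroup_eq_range fullG2).le (Subgroup.mem_inf.1 t.2).1
      obtain ⟨d, hd⟩ := (CfsgLib.Chevalley.diagonalSubgroup_eq_range fullG2).le hA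
      rw [← hc, ← hd]
      exact (Commute.all d c).map _
    let f₁ : K × T → C := fun p => ⟨⟨reeX m p.1 * p.2, mul_mem (reeX_mem _) p.2.2.2⟩,
      (memC _).2 ((hcx p.1).1.mul_right (hAT p.2))⟩
    let f₂ : K × K × T → C := fun p => ⟨⟨reeX m p.1 * w * (reeX m p.2.1 * p.2.2),
      mul_mem (mul_mem (reeX_mem _) hwG) (mul_mem (reeX_mem _) p.2.2.2.2)⟩,
      (memC _).2 (((hcx p.1).1.mul_right hwA).mul_right ((hcx p.2.1).1.mul_right (hAT p.2.2)))⟩
    have hx0 : ∀ t t' : K, (reeX m t)⁻¹ * reeX m t' = 1 → t = t' := by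
      intro t t' e
      have h1 : reeX m (t' + -t) = 1 := by
        have e' : reeX m (-t) = (reeX m t)⁻¹ := eq_inv_of_mul_eq_one_left (by
          rw [reeX_add hK, neg_add_cancel, (reeX_eq_one_iff hK 0).2 rfl])
        rw [← reeX_add hK, e', mul_eq_one_comm, e]
      exact (neg_add_eq_zero.1 (by rw [add_comm]; exact (reeX_eq_one_iff hK _).1 h1))
    have hB : ∀ (t : K) (h : T), reeX m t * (h : GL chevG2.Idx K) ∈ chevG2.borelSubgroup K := fun t h =>
      mul_mem (Subgroup.mem_sup_left (hXU t).2) (Subgroup.mem_sup_right h.2.1)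
    have huniq : ∀ (t t' : K) (h h' : T), reeX m t * (h : GL chevG2.Idx K) = reeX m t' * h' → t = t' ∧ h = h' := by
      intro t t' h h' e
      have h1 := CfsgLib.Chevalley.eq_one_of_mem_pos_diagonal fullG2 (g := (reeX m t)⁻¹ * reeX m t')
        (mul_mem (inv_mem (hXU t).2) (hXU t').2) (by
          rw [show (reeX m t)⁻¹ * reeX m t' = (h : GL chevG2.Idx K) * (h' : GL chevG2.Idx K)⁻¹ by
            rw [eq_mul_inv_iff_mul_eq, mul_assoc, ← e, inv_mul_cancel_left]]
          exact mul_mem h.2.1 (inv_mem h'.2.1))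
      obtain rfl := hx0 _ _ h1
      exact ⟨rfl, Subtype.ext (mul_left_cancel e)⟩
    have hinj : Function.Injective (Sum.elim f₁ f₂) := by
      have mixed : ∀ p q, f₁ p = f₂ q → False := by
        intro p q e
        have e' : reeX m p.1 * (p.2 : GL chevG2.Idx K) = reeX m q.1 * w * (reeX m q.2.1 * q.2.2) :=
          congrArg (fun z : C => ((z : ↥(twistedG2 K (3 ^ m))) : GL chevG2.Idx K)) e
        refine hwB ?_
        rw [show w = (reeX m q.1)⁻¹ * (reeX m p.1 * (p.2 : GL chevG2.Idx K)) * (reeX m q.2.1 * q.2.2)⁻¹ by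
          rw [e']; group]
        exact mul_mem (mul_mem (inv_mem (Subgroup.mem_sup_left (hXU _).2)) (hB _ _)) (inv_mem (hB _ _))
      rintro (p | p) (q | q) e
      · obtain ⟨h1, h2⟩ := huniq _ _ _ _
          (congrArg (fun z : C => ((z : ↥(twistedG2 K (3 ^ m))) : GL chevG2.Idx K)) e)
        exact congrArg Sum.inl (Prod.ext h1 h2)
      · exact (mixed _ _ e).elim
      · exact (mixed _ _ e.symm).elim
      · have e' : reeX m p.1 * w * (reeX m p.2.1 * p.2.2) = reeX m q.1 * w * (reeX m q.2.1 * q.2.2) :=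
          congrArg (fun z : C => ((z : ↥(twistedG2 K (3 ^ m))) : GL chevG2.Idx K)) e
        have h0 : (reeX m q.1)⁻¹ * reeX m p.1 = 1 := by
          refine hS.eq_one_of_conj_mem (mul_mem (inv_mem (hXU _).2) (hXU _).2) (one_mem _) ?_
          rw [mul_one, show w⁻¹ * ((reeX m q.1)⁻¹ * reeX m p.1) * w =
              (reeX m q.2.1 * q.2.2) * (reeX m p.2.1 * p.2.2)⁻¹ by
            rw [eq_mul_inv_iff_mul_eq]
            calc w⁻¹ * ((reeX m q.1)⁻¹ * reeX m p.1) * w * (reeX m p.2.1 * p.2.2)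
                = w⁻¹ * (reeX m q.1)⁻¹ * (reeX m p.1 * w * (reeX m p.2.1 * p.2.2)) := by group
              _ = _ := by rw [e']; group]
          exact mul_mem (hB _ _) (inv_mem (hB _ _))
        have h0' := hx0 _ _ h0
        rw [← h0'] at e'
        obtain ⟨h1, h2⟩ := huniq _ _ _ _ (mul_left_cancel e')
        exact congrArg Sum.inr (Prod.ext h0'.symm (Prod.ext h1 h2))
    refine le_trans ?_ (Nat.card_le_card_of_injective _ hinj)
    rw [Nat.card_sum, Nat.card_prod, Nat.card_prod, Nat.card_prod, Nat.card_prod, card_reeTorus hK,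
      Nat.card_eq_fintype_card (α := K), hK, Nat.card_congr Multiplicative.toAdd, Nat.card_zmod]
    have hq : Odd (3 ^ (2 * m + 1)) := (by decide : Odd 3).pow
    rw [CfsgLib.ClassicalLinear.card_PSL_two_of_odd hK hq]
    generalize hQ : 3 ^ (2 * m + 1) = Q at hq ⊢
    obtain ⟨k, rfl⟩ : ∃ k, Q = k + 1 := ⟨Q - 1, by obtain ⟨j, rfl⟩ := hq; omega⟩
    have : (k + 1) ^ 2 - 1 = k * k + 2 * k := by
      have : (k + 1) ^ 2 = k * k + 2 * k + 1 := by ring
      omega
    rw [this, Nat.add_sub_cancel]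
    nlinarith
  exact ⟨MulEquiv.ofBijective ψ (hsurj.bijective_of_nat_card_le hcard)⟩

theorem exists_psl_four_group : ∃ f : Multiplicative (ZMod 2) × Multiplicative (ZMod 2) →*
    ProjectiveSpecialLinearGroup (Fin 2) K, Function.Injective f ∧
      ∀ c, (∀ x, Commute c (f x)) → c ∈ f.range := by
  classical
  -- a four-group in PSL₂
  have h2 : (2 : K) ≠ 0 := fun e => ree_neg_one_ne_one hK (by linear_combination -e)
  obtain ⟨x, y, hxy⟩ : ∃ x y : K, x ^ 2 + y ^ 2 = -1 := by
    have hr : ringChar K ≠ 2 := by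
      have : CharP K 3 := charP_ree hK
      rw [ringChar.eq K 3]; norm_num
    obtain ⟨x, y, h⟩ := FiniteField.exists_root_sum_quadratic (R := K) (f := Polynomial.X ^ 2)
      (g := Polynomial.X ^ 2 - Polynomial.C (-1)) (Polynomial.degree_X_pow 2)
      (Polynomial.degree_X_pow_sub_C two_pos _) (by
        rw [← Nat.odd_iff, Nat.odd_iff, FiniteField.odd_card_of_char_ne_two hr])
    simp only [Polynomial.eval_pow, Polynomial.eval_X, Polynomial.eval_sub, Polynomial.eval_C] at h
    exact ⟨x, y, by linear_combination h⟩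
  let W : SpecialLinearGroup (Fin 2) K := ⟨!![0, 1; -1, 0], by simp [Matrix.det_fin_two]⟩
  let M : SpecialLinearGroup (Fin 2) K := ⟨!![x, y; y, -x], by
    rw [Matrix.det_fin_two_of]; linear_combination -hxy⟩
  let cW : ProjectiveSpecialLinearGroup (Fin 2) K := QuotientGroup.mk W
  let cM : ProjectiveSpecialLinearGroup (Fin 2) K := QuotientGroup.mk M
  have hz : ∀ g : SpecialLinearGroup (Fin 2) K,
      (QuotientGroup.mk g : ProjectiveSpecialLinearGroup (Fin 2) K) = 1 ↔
      CfsgLib.SL2.IsScalarMat (g : Matrix (Fin 2) (Fin 2) K) := fun g => by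
    rw [QuotientGroup.eq_one_iff, CfsgLib.SL2.mem_center_iff_isScalarMat]
  have hWW : cW * cW = 1 := by
    refine ((hz (W * W)).2 ?_ : (QuotientGroup.mk (W * W) : ProjectiveSpecialLinearGroup (Fin 2) K) = 1)
    rw [Matrix.SpecialLinearGroup.coe_mul]
    simp [CfsgLib.SL2.IsScalarMat, W, Matrix.mul_apply]
  have hMM : cM * cM = 1 := by
    refine ((hz (M * M)).2 ?_ : (QuotientGroup.mk (M * M) : ProjectiveSpecialLinearGroup (Fin 2) K) = 1)
    rw [Matrix.SpecialLinearGroup.coe_mul]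
    simp [CfsgLib.SL2.IsScalarMat, M, Matrix.mul_apply]
    refine ⟨?_, ?_, ?_⟩ <;> ring
  have hWM : Commute cW cM := by
    show (QuotientGroup.mk (W * M) : ProjectiveSpecialLinearGroup (Fin 2) K) = QuotientGroup.mk (M * W)
    refine QuotientGroup.eq.2 ?_
    rw [CfsgLib.SL2.mem_center_iff]
    refine Or.inr ?_
    rw [inv_mul_eq_iff_eq_mul, mul_neg, mul_one]
    refine Subtype.ext ?_
    rw [Matrix.SpecialLinearGroup.coe_neg, Matrix.SpecialLinearGroup.coe_mul, Matrix.SpecialLinearGroup.coe_mul]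
    simp only [W, M]
    ext i j
    fin_cases i <;> fin_cases j <;> simp
  have hW1 : cW ≠ 1 := fun h => by
    have := (hz W).1 h
    simp [CfsgLib.SL2.IsScalarMat, W] at this
  have hM1 : cM ≠ 1 := fun h => by
    obtain ⟨hy, -, hx⟩ := (hz M).1 h
    simp [M] at hy hx
    have : x = 0 := by
      rcases mul_eq_zero.1 (show (2 : K) * x = 0 by linear_combination hx) with h | h
      exacts [absurd h h2, h]
    rw [hy, this] at hxy
    simp at hxy
  have hWM1 : cW * cM ≠ 1 := fun h => by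
    obtain ⟨hx, -, hy⟩ := (hz (W * M)).1 h
    rw [Matrix.SpecialLinearGroup.coe_mul] at hx hy
    simp [W, M, Matrix.mul_apply] at hx hy
    have : y = 0 := by
      rcases mul_eq_zero.1 (show (2 : K) * y = 0 by linear_combination hy) with h | h
      exacts [absurd h h2, h]
    rw [hx, this] at hxy
    simp at hxy
  have two := mulZModTwo_cases
  have hne := mulZModTwo_ne
  let pick : ∀ {c : ProjectiveSpecialLinearGroup (Fin 2) K}, c * c = 1 →
      (Multiplicative (ZMod 2) →* ProjectiveSpecialLinearGroup (Fin 2) K) := fun {c} hc =>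
    { toFun := fun i => if i = 1 then 1 else c
      map_one' := if_pos rfl
      map_mul' := fun i j => by
        rcases two i with rfl | rfl <;> rcases two j with rfl | rfl <;>
          simp [hne, hc, mulZModTwo_sq] }
  let f : Multiplicative (ZMod 2) × Multiplicative (ZMod 2) →* ProjectiveSpecialLinearGroup (Fin 2) K :=
    (pick hWW).noncommCoprod (pick hMM) fun i j => by
      rcases two i with rfl | rfl <;> rcases two j with rfl | rfl <;> simp [pick, hne, hWM]
  have hf : Function.Injective f := by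
    rw [injective_iff_map_eq_one]
    rintro ⟨i, j⟩ h
    rcases two i with rfl | rfl <;> rcases two j with rfl | rfl <;>
      simp_all [f, pick]
  refine ⟨f, hf, fun c hc => ?_⟩
  have hfW : f (Multiplicative.ofAdd 1, 1) = cW := by simp [f, pick, hne]
  have hfM : f (1, Multiplicative.ofAdd 1) = cM := by simp [f, pick, hne]
  obtain ⟨g, rfl⟩ := QuotientGroup.mk_surjective c
  have hMW : M * W = -(W * M) := by
    refine Subtype.ext ?_
    rw [Matrix.SpecialLinearGroup.coe_neg, Matrix.SpecialLinearGroup.coe_mul, Matrix.SpecialLinearGroup.coe_mul]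
    simp only [W, M]
    ext i j
    fin_cases i <;> fin_cases j <;> simp
  have hWM' : W * M = -(M * W) := by rw [hMW, neg_neg]
  have sgn : ∀ u v : SpecialLinearGroup (Fin 2) K,
      Commute (QuotientGroup.mk u : ProjectiveSpecialLinearGroup (Fin 2) K) (QuotientGroup.mk v) →
      u * v = v * u ∨ u * v = -(v * u) := by
    intro u v h
    have := (QuotientGroup.eq (s := Subgroup.center (SpecialLinearGroup (Fin 2) K))).1
      (show (QuotientGroup.mk (v * u) : ProjectiveSpecialLinearGroup (Fin 2) K) = QuotientGroup.mk (u * v) from h.eq.symm)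
    rw [CfsgLib.SL2.mem_center_iff, inv_mul_eq_one, inv_mul_eq_iff_eq_mul, mul_neg, mul_one] at this
    exact this.imp Eq.symm id
  -- an element commuting exactly with both is a scalar
  have exact_comm : ∀ k : SpecialLinearGroup (Fin 2) K, k * W = W * k → k * M = M * k →
      (QuotientGroup.mk k : ProjectiveSpecialLinearGroup (Fin 2) K) = 1 := by
    intro k h1 h2'
    rw [hz]
    have a1 := congrArg (fun z : SpecialLinearGroup (Fin 2) K => (z : Matrix (Fin 2) (Fin 2) K) 0 0) h1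
    have a2 := congrArg (fun z : SpecialLinearGroup (Fin 2) K => (z : Matrix (Fin 2) (Fin 2) K) 0 1) h1
    have a3 := congrArg (fun z : SpecialLinearGroup (Fin 2) K => (z : Matrix (Fin 2) (Fin 2) K) 0 0) h2'
    have a4 := congrArg (fun z : SpecialLinearGroup (Fin 2) K => (z : Matrix (Fin 2) (Fin 2) K) 0 1) h2'
    simp only [Matrix.SpecialLinearGroup.coe_mul] at a1 a2 a3 a4
    simp [W, M, Matrix.mul_apply] at a1 a2 a3 a4
    set a := (k : Matrix (Fin 2) (Fin 2) K) 0 0
    set b := (k : Matrix (Fin 2) (Fin 2) K) 0 1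
    set c := (k : Matrix (Fin 2) (Fin 2) K) 1 0
    set d := (k : Matrix (Fin 2) (Fin 2) K) 1 1
    have e1 : 2 * (b * y) = 0 := by linear_combination a3 - y * a1
    have e2 : 2 * (b * x) = 0 := by linear_combination -a4 + y * a2
    have hb : b = 0 := by
      have hby : b * y = 0 := (mul_eq_zero.1 e1).resolve_left h2
      have hbx : b * x = 0 := (mul_eq_zero.1 e2).resolve_left h2
      linear_combination b * hxy - x * hbx - y * hby
    exact ⟨hb, by linear_combination -a1 - hb, a2⟩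
  have hcases : ∀ k : SpecialLinearGroup (Fin 2) K,
      k * W = W * k → (k * M = M * k ∨ k * M = -(M * k)) →
      (QuotientGroup.mk k : ProjectiveSpecialLinearGroup (Fin 2) K) ∈ f.range := by
    intro k h1 h2'
    rcases h2' with h2' | h2'
    · rw [exact_comm k h1 h2']; exact one_mem _
    · have : (QuotientGroup.mk (k * W) : ProjectiveSpecialLinearGroup (Fin 2) K) = 1 :=
        exact_comm _ (by rw [← mul_assoc W, ← h1]) (by
          rw [mul_assoc, hWM', mul_neg, ← mul_assoc, h2', neg_mul, neg_neg, mul_assoc])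
      have e : (QuotientGroup.mk k : ProjectiveSpecialLinearGroup (Fin 2) K) = cW := by
        calc (QuotientGroup.mk k : ProjectiveSpecialLinearGroup (Fin 2) K)
            = QuotientGroup.mk (k * W) * cW⁻¹ := eq_mul_inv_of_mul_eq rfl
          _ = cW := by rw [this, one_mul]; exact inv_eq_of_mul_eq_one_left hWW
      exact ⟨_, hfW.trans e.symm⟩
  rcases sgn g W (by rw [← show cW = QuotientGroup.mk W from rfl, ← hfW]; exact hc _) with h1 | h1
  · exact hcases g h1 (sgn g M (by rw [← show cM = QuotientGroup.mk M from rfl, ← hfM]; exact hc _))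
  · have hgM : (g * M) * W = W * (g * M) := by
      rw [mul_assoc, hMW, mul_neg, ← mul_assoc, h1, neg_mul, neg_neg, mul_assoc]
    have := hcases (g * M) hgM ((sgn g M (by rw [← show cM = QuotientGroup.mk M from rfl, ← hfM]; exact hc _)).imp
      (fun h => by rw [← mul_assoc M, ← h]) (fun h => by rw [← mul_assoc M, h, neg_mul]))
    rw [show (QuotientGroup.mk g : ProjectiveSpecialLinearGroup (Fin 2) K) = QuotientGroup.mk (g * M) * cM⁻¹ from
      eq_mul_inv_of_mul_eq rfl]
    exact mul_mem this (inv_mem ⟨_, hfM⟩)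

/-- A Sylow 2-subgroup through an involution of the torus. -/
theorem exists_ree_sylow_two {A : ↥(twistedG2 K (3 ^ m))}
    (hA : (A : GL chevG2.Idx K) ∈ chevG2.diagonalSubgroup K) (hA1 : A ≠ 1) (hA2 : A * A = 1) :
    ∃ S : Sylow 2 ↥(twistedG2 K (3 ^ m)), A ∈ S ∧ Nat.card S = 8 ∧ (∀ x ∈ S, x * x = 1) ∧
      Subgroup.centralizer ((S : Subgroup ↥(twistedG2 K (3 ^ m))) : Set ↥(twistedG2 K (3 ^ m))) ≤ S ∧
      (commutator (ProjectiveSpecialLinearGroup (Fin 2) K) = ⊤ →
        ∃ n ∈ Subgroup.normalizer ((S : Subgroup ↥(twistedG2 K (3 ^ m))) : Set ↥(twistedG2 K (3 ^ m))),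
          Commute n A ∧ ∃ x ∈ S, n⁻¹ * x * n ≠ x) := by
  classical
  have : Fact (Nat.Prime 2) := ⟨Nat.prime_two⟩
  obtain ⟨e⟩ := ree_centralizer_involution hK hA hA1 hA2
  obtain ⟨f, hf, hcf⟩ := exists_psl_four_group hK
  let F : Multiplicative (ZMod 2) × Multiplicative (ZMod 2) × Multiplicative (ZMod 2) →* ↥(twistedG2 K (3 ^ m)) :=
    ((Subgroup.subtype _).comp e.toMonoidHom).comp ((MonoidHom.id _).prodMap f)
  have hF : Function.Injective F := by
    intro p q h
    have := e.injective (Subtype.ext h)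
    exact Prod.ext (congrArg Prod.fst this :) (hf (congrArg Prod.snd this :))
  have hcard : Nat.card F.range = 2 ^ (Nat.card ↥(twistedG2 K (3 ^ m))).factorization 2 := by
    rw [← Nat.card_congr (MonoidHom.ofInjective hF).toEquiv, Nat.card_prod, Nat.card_prod,
      Nat.card_congr Multiplicative.toAdd, Nat.card_zmod]
    suffices (Nat.card ↥(twistedG2 K (3 ^ m))).factorization 2 = 3 by rw [this]; norm_num
    obtain ⟨r, hr, hodd⟩ : ∃ r, Nat.card ↥(twistedG2 K (3 ^ m)) = 2 ^ 3 * r ∧ Odd r := by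
      have h9 : ∀ n : ℕ, 9 ^ n % 8 = 1 := fun n => by rw [Nat.pow_mod]; simp
      have hq : 3 ^ (2 * m + 1) % 8 = 3 := by rw [pow_succ, pow_mul, Nat.mul_mod, show (3 : ℕ) ^ 2 = 9 from rfl, h9]
      have hq3 : (3 ^ (2 * m + 1)) ^ 3 % 8 = 3 := by rw [Nat.pow_mod, hq]
      refine ⟨(3 ^ (2 * m + 1)) ^ 3 * ((3 ^ (2 * m + 1) - 1) / 2) * (((3 ^ (2 * m + 1)) ^ 3 + 1) / 4), ?_, ?_⟩
      · rw [card_ree hK]
        obtain ⟨A, hA⟩ : 2 ∣ 3 ^ (2 * m + 1) - 1 := Nat.dvd_of_mod_eq_zero (by omega)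
        obtain ⟨B, hB⟩ : 4 ∣ (3 ^ (2 * m + 1)) ^ 3 + 1 := Nat.dvd_of_mod_eq_zero (by omega)
        rw [hA, hB, Nat.mul_div_cancel_left _ (by norm_num), Nat.mul_div_cancel_left _ (by norm_num)]
        ring
      · refine (((by decide : Odd 3).pow).pow.mul ?_).mul ?_ <;> rw [Nat.odd_iff] <;> omega
    rw [hr, Nat.factorization_mul (by norm_num) (by rintro rfl; exact absurd hodd (by decide)), Finsupp.add_apply,
      Nat.factorization_eq_zero_of_not_dvd (Nat.two_dvd_ne_zero.2 (Nat.odd_iff.1 hodd)), add_zero,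
      Nat.Prime.factorization_pow Nat.prime_two, Finsupp.single_eq_same]
  have hrange : Nat.card F.range = 8 := by
    rw [← Nat.card_congr (MonoidHom.ofInjective hF).toEquiv, Nat.card_prod, Nat.card_prod,
      Nat.card_congr Multiplicative.toAdd, Nat.card_zmod]
  have key : ∀ z : ↥(Subgroup.centralizer ({A} : Set ↥(twistedG2 K (3 ^ m)))),
      (∀ x, Commute (e.symm z).2 (f x)) → (z : ↥(twistedG2 K (3 ^ m))) ∈ F.range := by
    intro z hz
    obtain ⟨x, hx⟩ := hcf _ hz
    refine ⟨((e.symm z).1, x), ?_⟩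
    show ((e ((e.symm z).1, f x) : _) : ↥(twistedG2 K (3 ^ m))) = z
    rw [hx, Prod.mk.eta, MulEquiv.apply_symm_apply]
  let AC : ↥(Subgroup.centralizer ({A} : Set ↥(twistedG2 K (3 ^ m)))) :=
    ⟨A, Subgroup.mem_centralizer_singleton_iff.2 rfl⟩
  have hAC : ∀ z, Commute AC z := fun z => Subtype.ext (Subgroup.mem_centralizer_singleton_iff.1 z.2).symm
  have hAF : A ∈ F.range := key AC fun x => by
    have h := (hAC (e (1, f x))).map e.symm
    rw [MulEquiv.symm_apply_apply] at h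
    exact congrArg Prod.snd h.eq
  have hperfN : commutator (ProjectiveSpecialLinearGroup (Fin 2) K) = ⊤ →
      ∃ n ∈ Subgroup.normalizer ((Sylow.ofCard F.range hcard : Subgroup ↥(twistedG2 K (3 ^ m))) :
        Set ↥(twistedG2 K (3 ^ m))), Commute n A ∧ ∃ x ∈ Sylow.ofCard F.range hcard, n⁻¹ * x * n ≠ x := by
    intro hperf
    have h4 : Nat.card f.range = 4 := by
      rw [← Nat.card_congr (MonoidHom.ofInjective hf).toEquiv, Nat.card_prod, Nat.card_congr Multiplicative.toAdd,
        Nat.card_zmod]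
    have hV : Nat.card f.range =
        2 ^ (Nat.card (ProjectiveSpecialLinearGroup (Fin 2) K)).factorization 2 := by
      have hq : Odd (3 ^ (2 * m + 1)) := (by decide : Odd 3).pow
      have h := CfsgLib.ClassicalLinear.card_PSL_two_of_odd hK hq
      have hq8 : 3 ^ (2 * m + 1) % 8 = 3 := by
        rw [pow_succ, pow_mul, Nat.mul_mod, Nat.pow_mod]
        simp
      have h2q : ((3 ^ (2 * m + 1)) ^ 2 - 1) % 16 = 8 := by
        have e : (3 ^ (2 * m + 1)) ^ 2 % 16 = 9 := by
          rw [← pow_mul, show (2 * m + 1) * 2 = 4 * m + 2 by ring, pow_add, pow_mul, Nat.mul_mod, Nat.pow_mod]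
          simp
        omega
      obtain ⟨r, hr, hodd⟩ : ∃ r, Nat.card (ProjectiveSpecialLinearGroup (Fin 2) K) = 2 ^ 2 * r ∧ Odd r := by
        obtain ⟨B, hB⟩ : 8 ∣ (3 ^ (2 * m + 1)) ^ 2 - 1 := Nat.dvd_of_mod_eq_zero (by omega)
        refine ⟨3 ^ (2 * m + 1) * B, ?_, hq.mul (Nat.odd_iff.2 (by omega))⟩
        rw [hB] at h
        linarith
      rw [h4, hr, Nat.factorization_mul (by norm_num) (by rintro rfl; exact absurd hodd (by decide)), Finsupp.add_apply,
        Nat.factorization_eq_zero_of_not_dvd (Nat.two_dvd_ne_zero.2 (Nat.odd_iff.1 hodd)), add_zero,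
        Nat.Prime.factorization_pow Nat.prime_two, Finsupp.single_eq_same]
      norm_num
    let V := Sylow.ofCard f.range hV
    have hVcomm : IsMulCommutative (V : Subgroup (ProjectiveSpecialLinearGroup (Fin 2) K)) :=
      ⟨⟨fun x y => by
        obtain ⟨a, ha⟩ := x.2
        obtain ⟨b, hb⟩ := y.2
        refine Subtype.ext ?_
        rw [Subgroup.coe_mul, Subgroup.coe_mul, ← ha, ← hb, ← map_mul, ← map_mul, mul_comm]⟩⟩
    have hne : Multiplicative.ofAdd (1 : ZMod 2) ≠ 1 := mulZModTwo_ne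
    have hv : f (Multiplicative.ofAdd 1, 1) ≠ 1 := fun e' =>
      hne (congrArg Prod.fst ((injective_iff_map_eq_one f).1 hf _ e'))
    obtain ⟨n, hn, hnx⟩ : ∃ n ∈ Subgroup.normalizer ((V : Subgroup (ProjectiveSpecialLinearGroup (Fin 2) K)) :
        Set (ProjectiveSpecialLinearGroup (Fin 2) K)),
        n⁻¹ * f (Multiplicative.ofAdd 1, 1) * n ≠ f (Multiplicative.ofAdd 1, 1) := by
      by_contra hcon
      push Not at hcon
      exact hv (eq_one_of_central_normalizer hperf V ⟨_, rfl⟩ hcon)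
    refine ⟨(e (1, n) : _), ?_, (Subgroup.mem_centralizer_singleton_iff.1 (e (1, n)).2),
      F (1, (Multiplicative.ofAdd 1, 1)), ⟨_, rfl⟩, ?_⟩
    · have hFr : F.range = (((⊤ : Subgroup (Multiplicative (ZMod 2))).prod f.range).map
          ((Subgroup.subtype _).comp e.toMonoidHom)) := by
        ext z
        constructor
        · rintro ⟨⟨i, j⟩, rfl⟩
          exact ⟨(i, f j), ⟨trivial, j, rfl⟩, rfl⟩
        · rintro ⟨⟨i, _⟩, ⟨-, j, rfl⟩, rfl⟩
          exact ⟨(i, j), rfl⟩
      show _ ∈ Subgroup.normalizer (↑(F.range) : Set ↥(twistedG2 K (3 ^ m)))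
      rw [hFr]
      refine Subgroup.le_normalizer_map _ ⟨(1, n), Subgroup.mem_normalizer_iff.2 fun p => ?_, rfl⟩
      have hn' : p.2 ∈ f.range ↔ n * p.2 * n⁻¹ ∈ f.range := Subgroup.mem_normalizer_iff.1 hn p.2
      simp only [Subgroup.mem_prod, Subgroup.mem_top, true_and]
      exact hn'
    · intro h
      refine hnx ?_
      have h' : e ((1, n)⁻¹ * (1, f (Multiplicative.ofAdd 1, 1)) * (1, n)) = e (1, f (Multiplicative.ofAdd 1, 1)) :=
        Subtype.ext (by rw [map_mul, map_mul, map_inv]; exact h)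
      exact congrArg Prod.snd (e.injective h')
  refine ⟨Sylow.ofCard F.range hcard, hAF, hrange, ?_, ?_, hperfN⟩
  · rintro _ ⟨p, rfl⟩
    rw [← map_mul, show p * p = 1 by simp [mulZModTwo_sq, Prod.ext_iff], map_one]
  · intro z hz
    have hzA : z ∈ Subgroup.centralizer ({A} : Set ↥(twistedG2 K (3 ^ m))) :=
      Subgroup.mem_centralizer_singleton_iff.2 (Subgroup.mem_centralizer_iff.1 hz A hAF).symm
    refine key ⟨z, hzA⟩ fun x => ?_
    have h1 : e (1, f x) * (⟨z, hzA⟩ : ↥(Subgroup.centralizer ({A} : Set ↥(twistedG2 K (3 ^ m))))) =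
        ⟨z, hzA⟩ * e (1, f x) := Subtype.ext (Subgroup.mem_centralizer_iff.1 hz _ ⟨(1, x), rfl⟩)
    have h2 := congrArg e.symm h1
    rw [map_mul, map_mul, MulEquiv.symm_apply_apply] at h2
    exact (congrArg Prod.snd h2).symm

/-- The Sylow 2-subgroups are elementary abelian of order 8 and equal their centralisers. -/
theorem ree_sylow_two' (S : Sylow 2 ↥(twistedG2 K (3 ^ m))) : Nat.card S = 8 ∧ (∀ x ∈ S, x * x = 1) ∧
    Subgroup.centralizer ((S : Subgroup ↥(twistedG2 K (3 ^ m))) : Set ↥(twistedG2 K (3 ^ m))) = S := by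
  have : Fact (Nat.Prime 2) := ⟨Nat.prime_two⟩
  obtain ⟨g, hg⟩ := reeTorusVal_surj hK (neg_ne_zero.2 (one_ne_zero (α := K)))
  have hg1 : g ≠ 1 := fun e => ree_neg_one_ne_one hK (by rw [← hg, e, map_one])
  have hg2 : g * g = 1 := reeTorusVal_injective hK (by rw [map_mul, hg, map_one]; ring)
  obtain ⟨S₀, -, h8, hsq, hcen, -⟩ := exists_ree_sylow_two hK (A := ⟨g, g.2.2⟩) g.2.1
    (fun e => hg1 (Subtype.ext (congrArg (fun w : ↥(twistedG2 K (3 ^ m)) => (w : GL chevG2.Idx K)) e)))
    (Subtype.ext (congrArg (fun w : ↥(chevG2.diagonalSubgroup K ⊓ twistedG2 K (3 ^ m)) => (w : GL chevG2.Idx K)) hg2))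
  obtain ⟨k, rfl⟩ := MulAction.exists_smul_eq ↥(twistedG2 K (3 ^ m)) S₀ S
  have hmem : ∀ x, x ∈ k • S₀ ↔ k⁻¹ * x * k ∈ S₀ := by
    intro x
    rw [Sylow.smul_def]
    show x ∈ (MulAut.conj k • (S₀ : Subgroup ↥(twistedG2 K (3 ^ m)))) ↔ _
    rw [Subgroup.mem_pointwise_smul_iff_inv_smul_mem]
    simp [MulAut.smul_def]
    rfl
  have hsq' : ∀ x ∈ k • S₀, x * x = 1 := fun x hx => by
    have h := hsq _ ((hmem x).1 hx)
    rw [show k⁻¹ * x * k * (k⁻¹ * x * k) = k⁻¹ * (x * x) * k by group] at h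
    rw [show x * x = k * (k⁻¹ * (x * x) * k) * k⁻¹ by group, h]
    group
  refine ⟨(Nat.card_congr (S₀.equiv (k • S₀)).toEquiv).symm.trans h8, hsq', le_antisymm (fun x hx => ?_) ?_⟩
  · refine (hmem x).2 (hcen (Subgroup.mem_centralizer_iff.2 fun y hy => ?_))
    have h := Subgroup.mem_centralizer_iff.1 hx (k * y * k⁻¹) ((hmem _).2 (by
      rwa [show k⁻¹ * (k * y * k⁻¹) * k = y by group]))
    calc y * (k⁻¹ * x * k) = k⁻¹ * (k * y * k⁻¹ * x) * k := by group
      _ = k⁻¹ * (x * (k * y * k⁻¹)) * k := by rw [h]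
      _ = _ := by group
  · intro x hx
    refine Subgroup.mem_centralizer_iff.2 fun y hy => ?_
    have hi : ∀ z ∈ k • S₀, z⁻¹ = z := fun z hz => inv_eq_of_mul_eq_one_left (hsq' z hz)
    calc y * x = (y * x)⁻¹ := (hi _ (mul_mem hy hx)).symm
      _ = x⁻¹ * y⁻¹ := _root_.mul_inv_rev _ _
      _ = x * y := by rw [hi x hx, hi y hy]

theorem ree_sylow_two (S : Sylow 2 ↥(twistedG2 K (3 ^ m))) : Nat.card S = 8 ∧ ∀ x ∈ S, x * x = 1 :=
  ⟨(ree_sylow_two' hK S).1, (ree_sylow_two' hK S).2.1⟩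

end CfsgLib.Twisted
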