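import Cfsg.Agent.Lib.Twisted.ReeNonsplit
import Cfsg.Agent.Lib.Twisted.GLSeven

/-! Centralisers of elements of the cyclic tori of ²G₂(q); Sylow subgroups. -/

set_option autoImplicit false
set_option linter.unusedSectionVars false

namespace CfsgLib.Twisted

open Cfsg.Lie
open scoped Pointwise

variable {K : Type*} [Field K] [Fintype K] {m : ℕ} (hK : Fintype.card K = 3 ^ (2 * m + 1))
include hK

theorem card_ree' : Nat.card ↥(twistedG2 K (3 ^ m)) =
    (3 ^ (2 * m + 1)) ^ 3 * ((3 ^ (2 * m + 1) - 1) * ((3 ^ (2 * m + 1) + 1) *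
      ((3 ^ (2 * m + 1)) ^ 2 - 3 ^ (2 * m + 1) + 1))) := by
  rw [card_ree hK, mul_assoc]
  congr 2
  generalize 3 ^ (2 * m + 1) = q
  have h : q ≤ q ^ 2 := Nat.le_self_pow two_ne_zero q
  zify [h]
  ring

/-- A prime at least five divides exactly one of `q - 1`, `q + 1`, `q² - q + 1` when it divides the
order. -/
theorem ree_prime_cases {ℓ : ℕ} (hℓ : ℓ.Prime) (h5 : 5 ≤ ℓ) (hd : ℓ ∣ Nat.card ↥(twistedG2 K (3 ^ m))) :
    ℓ ∣ 3 ^ (2 * m + 1) - 1 ∨ ℓ ∣ 3 ^ (2 * m + 1) + 1 ∨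
      ℓ ∣ (3 ^ (2 * m + 1)) ^ 2 - 3 ^ (2 * m + 1) + 1 := by
  rw [card_ree' hK] at hd
  rcases hℓ.dvd_mul.1 hd with h | h
  · have := (Nat.prime_dvd_prime_iff_eq hℓ Nat.prime_three).1 (hℓ.dvd_of_dvd_pow (hℓ.dvd_of_dvd_pow h))
    omega
  · rcases hℓ.dvd_mul.1 h with h | h
    · exact Or.inl h
    · exact Or.inr (hℓ.dvd_mul.1 h)

omit hK in
theorem ree_coprime_facts (hm : 1 ≤ m) {ℓ : ℕ} (hℓ : ℓ.Prime)
    (hd : ℓ ∣ (3 ^ (2 * m + 1)) ^ 2 - 3 ^ (2 * m + 1) + 1) :
    5 ≤ ℓ ∧ ¬ ℓ ∣ 3 ^ (2 * m + 1) ∧ ¬ ℓ ∣ 3 ^ (2 * m + 1) - 1 ∧ ¬ ℓ ∣ 3 ^ (2 * m + 1) + 1 := by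
  obtain ⟨h27, h8, h3⟩ := ree_q_data (m := m) hm
  generalize 3 ^ (2 * m + 1) = q at *
  have hq : q ≤ q ^ 2 := Nat.le_self_pow two_ne_zero q
  obtain ⟨w, hw⟩ : ∃ w, q = w + 1 := ⟨q - 1, by omega⟩
  have hN1 : q ^ 2 - q + 1 = w * q + 1 := by
    zify [hq]; push_cast [hw]; ring
  have hdq : ¬ ℓ ∣ q := fun h => hℓ.not_dvd_one (by
    have := Nat.dvd_sub (hN1 ▸ hd) (dvd_mul_of_dvd_right h w)
    rwa [Nat.add_sub_cancel_left] at this)
  have hdm : ¬ ℓ ∣ q - 1 := fun h => hℓ.not_dvd_one (by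
    rw [hw, Nat.add_sub_cancel] at h
    have := Nat.dvd_sub (hN1 ▸ hd) (dvd_mul_of_dvd_left h q)
    rwa [Nat.add_sub_cancel_left] at this)
  have hdp : ¬ ℓ ∣ q + 1 := fun h => by
    have h1 : ℓ ∣ (q + 1) * q := dvd_mul_of_dvd_left h q
    have e : (q + 1) * q = q ^ 2 - q + 1 + (2 * q - 1) := by
      zify [hq, show 1 ≤ 2 * q by omega]; ring
    have h2 : ℓ ∣ 2 * q - 1 := (Nat.dvd_add_right hd).1 (e ▸ h1)
    have h3' : ℓ ∣ 3 := by
      have := Nat.dvd_sub (dvd_mul_of_dvd_right h 2) h2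
      rwa [show 2 * (q + 1) - (2 * q - 1) = 3 by omega] at this
    rw [(Nat.prime_dvd_prime_iff_eq hℓ Nat.prime_three).1 h3'] at h
    omega
  refine ⟨?_, hdq, hdm, hdp⟩
  by_contra h
  have := hℓ.two_le
  interval_cases ℓ
  · exact hdm (by omega)
  · exact hdq (by omega)
  · norm_num at hℓ

omit hK in
theorem orderOf_q_eq_six (hm : 1 ≤ m) {p : ℕ} [hp : Fact p.Prime]
    (hd : p ∣ (3 ^ (2 * m + 1)) ^ 2 - 3 ^ (2 * m + 1) + 1) :
    orderOf ((3 ^ (2 * m + 1) : ℕ) : ZMod p) = 6 := by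
  obtain ⟨h5, hq0, hq1, hq2⟩ := ree_coprime_facts hm hp.out hd
  generalize 3 ^ (2 * m + 1) = q at *
  have hq : q ≤ q ^ 2 := Nat.le_self_pow two_ne_zero q
  have e : ((q : ZMod p)) ^ 2 - q + 1 = 0 := by
    have h := (ZMod.natCast_eq_zero_iff _ _).2 hd
    rw [Nat.cast_add, Nat.cast_sub hq, Nat.cast_pow, Nat.cast_one] at h
    exact h
  have h3 : (q : ZMod p) ^ 3 = -1 := by linear_combination ((q : ZMod p) + 1) * e
  have hne1 : (q : ZMod p) ≠ -1 := fun h => hq2 ((ZMod.natCast_eq_zero_iff _ _).1 (by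
    rw [Nat.cast_add, h, Nat.cast_one, neg_add_cancel]))
  have h2 : (-1 : ZMod p) ≠ 1 := fun h => by
    have h' : ((2 : ℕ) : ZMod p) = 0 := by push_cast; linear_combination -h
    have := Nat.le_of_dvd two_pos ((ZMod.natCast_eq_zero_iff _ _).1 h')
    omega
  rw [orderOf_eq_iff (by norm_num)]
  refine ⟨by rw [show 6 = 3 * 2 by norm_num, pow_mul, h3]; ring, fun j hj hj0 h => ?_⟩
  have hone : (q : ZMod p) ≠ 1 := fun h1 => by
    have h' : ((1 : ℕ) : ZMod p) = 0 := by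
      rw [h1] at e; push_cast; linear_combination e
    exact hp.out.not_dvd_one ((ZMod.natCast_eq_zero_iff _ _).1 h')
  interval_cases j
  · exact hone (by rwa [pow_one] at h)
  · rcases sq_eq_one_iff.1 h with h | h
    · exact hone h
    · exact hne1 h
  · rw [h3] at h; exact h2 h
  · apply hne1
    rw [show (q : ZMod p) = -((q : ZMod p) ^ 4) by rw [pow_succ, h3]; ring, h]
  · have : (q : ZMod p) ^ 2 = -1 := by
      rw [show (q : ZMod p) ^ 2 = -((q : ZMod p) ^ 5) by rw [show 5 = 3 + 2 by rfl, pow_add, h3]; ring, h]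
    have hq' : (q : ZMod p) = 0 := by linear_combination -e + this
    exact hq0 ((ZMod.natCast_eq_zero_iff _ _).1 hq')

theorem index_of_card (H : Subgroup ↥(twistedG2 K (3 ^ m))) {r : ℕ}
    (h : Nat.card ↥(twistedG2 K (3 ^ m)) = Nat.card H * r) : H.index = r :=
  Nat.eq_of_mul_eq_mul_left Nat.card_pos (H.card_mul_index.trans h)

/-- Elements of prime order dividing `q - 1` are conjugate into the split torus. -/
theorem exists_conj_reeH (hm : 1 ≤ m) {z : ↥(twistedG2 K (3 ^ m))} {ℓ : ℕ} (hℓ : ℓ.Prime)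
    (h5 : 5 ≤ ℓ) (hd : ℓ ∣ 3 ^ (2 * m + 1) - 1) (hz : orderOf z = ℓ) :
    ∃ c, c * z * c⁻¹ ∈ reeH K m := by
  have : Fact ℓ.Prime := ⟨hℓ⟩
  refine exists_conj_mem_of_index _ ?_ (k := 1) (by rw [pow_one, hz])
  obtain ⟨h27, -, -⟩ := ree_q_data (m := m) hm
  rw [index_of_card hK (reeH K m) (r := (3 ^ (2 * m + 1)) ^ 3 * ((3 ^ (2 * m + 1) + 1) *
    ((3 ^ (2 * m + 1)) ^ 2 - 3 ^ (2 * m + 1) + 1))) (by rw [card_reeH hK, card_ree' hK]; ring)]
  intro h
  rcases hℓ.dvd_mul.1 h with h | h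
  · have := (Nat.prime_dvd_prime_iff_eq hℓ Nat.prime_three).1 (hℓ.dvd_of_dvd_pow (hℓ.dvd_of_dvd_pow h))
    omega
  · rcases hℓ.dvd_mul.1 h with h | h
    · have h2 := Nat.dvd_sub h hd
      rw [show 3 ^ (2 * m + 1) + 1 - (3 ^ (2 * m + 1) - 1) = 2 by omega] at h2
      have := Nat.le_of_dvd two_pos h2
      omega
    · exact (ree_coprime_facts hm hℓ h).2.2.1 hd

/-- Elements of prime order dividing `q + 1` are conjugate into `M`. -/
theorem exists_conj_nonsplit (hm : 1 ≤ m) {M : Subgroup ↥(twistedG2 K (3 ^ m))}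
    {A e o : ↥(twistedG2 K (3 ^ m))} (hN : IsNonsplit M A e o)
    {z : ↥(twistedG2 K (3 ^ m))} {ℓ : ℕ} (hℓ : ℓ.Prime)
    (h5 : 5 ≤ ℓ) (hd : ℓ ∣ 3 ^ (2 * m + 1) + 1) (hz : orderOf z = ℓ) :
    ∃ c, c * z * c⁻¹ ∈ M := by
  have : Fact ℓ.Prime := ⟨hℓ⟩
  refine exists_conj_mem_of_index _ ?_ (k := 1) (by rw [pow_one, hz])
  obtain ⟨h27, -, -⟩ := ree_q_data (m := m) hm
  rw [index_of_card hK M (r := (3 ^ (2 * m + 1)) ^ 3 * ((3 ^ (2 * m + 1) - 1) *
    ((3 ^ (2 * m + 1)) ^ 2 - 3 ^ (2 * m + 1) + 1))) (by rw [hN.card, card_ree' hK]; ring)]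
  intro h
  rcases hℓ.dvd_mul.1 h with h | h
  · have := (Nat.prime_dvd_prime_iff_eq hℓ Nat.prime_three).1 (hℓ.dvd_of_dvd_pow (hℓ.dvd_of_dvd_pow h))
    omega
  · rcases hℓ.dvd_mul.1 h with h | h
    · have h2 := Nat.dvd_sub hd h
      rw [show 3 ^ (2 * m + 1) + 1 - (3 ^ (2 * m + 1) - 1) = 2 by omega] at h2
      have := Nat.le_of_dvd two_pos h2
      omega
    · exact (ree_coprime_facts hm hℓ h).2.2.2 hd

/-- Elements of the split torus whose square is not one have the torus as centraliser. -/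
theorem centralizer_eq_reeH (hm : 1 ≤ m) {g : ↥(twistedG2 K (3 ^ m))} (hg : g ∈ reeH K m)
    (hg2 : g * g ≠ 1) : Subgroup.centralizer {g} = reeH K m := by
  obtain ⟨h27, hq8, -⟩ := ree_q_data (m := m) hm
  have hd : orderOf g ∣ 3 ^ (2 * m + 1) - 1 := card_reeH hK ▸ Subgroup.orderOf_dvd_natCard _ hg
  obtain ⟨a, r, hr, har⟩ := Nat.exists_eq_pow_mul_and_not_dvd (orderOf_pos g).ne' 2 (by norm_num)
  have ha : a ≤ 1 := by
    by_contra ha
    have h4 : 4 ∣ 3 ^ (2 * m + 1) - 1 :=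
      ((show 4 ∣ 2 ^ a from ⟨2 ^ (a - 2), by rw [show (4 : ℕ) = 2 ^ 2 by norm_num, ← pow_add]; congr 1; omega⟩).trans
        (har ▸ dvd_mul_right _ _)).trans hd
    omega
  have hy1 : g ^ 2 ≠ 1 := by rwa [pow_two]
  have hodd : Odd (orderOf (g ^ 2)) := by
    have hdr : orderOf (g ^ 2) ∣ r := orderOf_dvd_of_pow_eq_one (by
      rw [← pow_mul]
      refine orderOf_dvd_iff_pow_eq_one.1 ?_
      rw [har]
      exact mul_dvd_mul_right ((pow_dvd_pow 2 ha).trans (by rw [pow_one])) r)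
    exact (Nat.odd_iff.2 (by omega) : Odd r).of_dvd_nat hdr
  obtain ⟨w, -, -, hC, -⟩ := reeH_odd hK (pow_mem hg 2) hy1 hodd
  refine le_antisymm (fun x hx => hC.le ?_) (fun x hx => ?_)
  · exact Subgroup.mem_centralizer_singleton_iff.2
      ((show Commute x g from Subgroup.mem_centralizer_singleton_iff.1 hx).pow_right 2).eq
  · exact Subgroup.mem_centralizer_singleton_iff.2
      (congrArg Subtype.val ((isCyclic_reeH hK).isMulCommutative.is_comm.comm ⟨x, hx⟩ ⟨g, hg⟩))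

/-- The normaliser of the split torus. -/
theorem card_normalizer_reeH (hm : 1 ≤ m) :
    Nat.card (Subgroup.normalizer (reeH K m : Set ↥(twistedG2 K (3 ^ m)))) =
      2 * (3 ^ (2 * m + 1) - 1) := by
  obtain ⟨h27, hq8, -⟩ := ree_q_data (m := m) hm
  have := isCyclic_reeH hK
  obtain ⟨⟨g, hg⟩, hgen⟩ := IsCyclic.exists_ofOrder_eq_natCard (α := reeH K m)
  rw [← Subgroup.orderOf_coe, card_reeH hK] at hgen
  change orderOf g = _ at hgen
  have hg2 : g * g ≠ 1 := fun h => by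
    have := orderOf_dvd_of_pow_eq_one (show g ^ 2 = 1 by rw [pow_two, h])
    rw [hgen] at this
    have := Nat.le_of_dvd two_pos this
    omega
  have hy1 : g ^ 2 ≠ 1 := by rwa [pow_two]
  have hodd : Odd (orderOf (g ^ 2)) := by
    rw [orderOf_pow' g two_ne_zero, hgen, Nat.gcd_eq_right (by omega), Nat.odd_iff]
    omega
  obtain ⟨w, hwB, hw, hC, hmain⟩ := reeH_odd hK (pow_mem hg 2) hy1 hodd
  set N := Subgroup.normalizer (reeH K m : Set ↥(twistedG2 K (3 ^ m)))
  have hwN : w ∈ N := by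
    refine Subgroup.mem_normalizer_iff.2 fun x => ⟨fun hx => (hw x hx).symm ▸ inv_mem hx, fun hx => ?_⟩
    have h2 : w * (w * x * w⁻¹)⁻¹ * w⁻¹ = w * x * w⁻¹ := by rw [hw _ (inv_mem hx), inv_inv]
    have h3 := mul_left_cancel (mul_right_cancel h2)
    exact h3 ▸ inv_mem hx
  have hidx : ((reeH K m).subgroupOf N).index = 2 := by
    rw [Subgroup.index_eq_two_iff]
    refine ⟨⟨w, hwN⟩, fun b => ?_⟩
    have hnot : w ∉ reeH K m := fun h => hwB (mem_borelIn_ree.2 (Subgroup.mem_sup_right (mem_reeH.1 h)))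
    show Xor' ((b : ↥(twistedG2 K (3 ^ m))) * w ∈ reeH K m) ((b : ↥(twistedG2 K (3 ^ m))) ∈ reeH K m)
    rcases hmain b ((Subgroup.mem_normalizer_iff.1 b.2 _).1 (pow_mem hg 2)) with h | h
    · refine Or.inr ⟨h, fun h' => hnot ?_⟩
      have := mul_mem (inv_mem h) h'
      rwa [inv_mul_cancel_left] at this
    · refine Or.inl ⟨h, fun h' => hnot ?_⟩
      have := mul_mem (inv_mem h') h
      rwa [inv_mul_cancel_left] at this
  rw [← ((reeH K m).subgroupOf N).card_mul_index, hidx,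
    Nat.card_congr (Subgroup.subgroupOfEquivOfLe Subgroup.le_normalizer).toEquiv, card_reeH hK,
    mul_comm]

/-- The centraliser of an element of prime order dividing `q² - q + 1`. -/
theorem centralizer_coxeter (hm : 1 ≤ m) {x : ↥(twistedG2 K (3 ^ m))} {p : ℕ} [hp : Fact p.Prime]
    (hd : p ∣ (3 ^ (2 * m + 1)) ^ 2 - 3 ^ (2 * m + 1) + 1) (hx : orderOf x = p) :
    IsCyclic (Subgroup.centralizer ({x} : Set ↥(twistedG2 K (3 ^ m)))) ∧
    Nat.card (Subgroup.centralizer ({x} : Set ↥(twistedG2 K (3 ^ m)))) ∣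
      (3 ^ (2 * m + 1)) ^ 2 - 3 ^ (2 * m + 1) + 1 := by
  classical
  obtain ⟨h5, hpq, hpm, hpp⟩ := ree_coprime_facts hm hp.out hd
  obtain ⟨h27, hq8, hq3⟩ := ree_q_data (m := m) hm
  obtain ⟨A, hA, hA1, hA2⟩ := exists_reeH_involution hK
  obtain ⟨M, A', e, o, hN⟩ := exists_nonsplit hK hm
  set C := Subgroup.centralizer ({x} : Set ↥(twistedG2 K (3 ^ m)))
  have hprimes : ∀ ℓ, ℓ.Prime → ℓ ∣ Nat.card C →
      ¬ ℓ ∣ 3 ^ (2 * m + 1) ∧ ¬ ℓ ∣ 3 ^ (2 * m + 1) - 1 ∧ ¬ ℓ ∣ 3 ^ (2 * m + 1) + 1 := by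
    intro ℓ hℓ hℓC
    have : Fact ℓ.Prime := ⟨hℓ⟩
    obtain ⟨⟨z, hz⟩, hoz⟩ := exists_prime_orderOf_dvd_card' ℓ hℓC
    rw [← Subgroup.orderOf_coe] at hoz
    change orderOf z = ℓ at hoz
    have hzx : Commute z x := Subgroup.mem_centralizer_singleton_iff.1 hz
    have hconj : ∀ c : ↥(twistedG2 K (3 ^ m)), c * x * c⁻¹ ∈ Subgroup.centralizer {c * z * c⁻¹} := fun c =>
      Subgroup.mem_centralizer_singleton_iff.2 (hzx.symm.map (MulAut.conj c).toMonoidHom).eq
    have hordc : ∀ c : ↥(twistedG2 K (3 ^ m)), orderOf (c * x * c⁻¹) = p := fun c =>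
      (orderOf_injective (MulAut.conj c).toMonoidHom (MulAut.conj c).injective x).trans hx
    have h2 : ℓ ≠ 2 := by
      rintro rfl
      obtain ⟨c, hc⟩ := exists_conj_involution hK hm hA hA1 hA2
        (fun e => by rw [e, orderOf_one] at hoz; omega : z ≠ 1)
        (by rw [← pow_two, ← hoz, pow_orderOf_eq_one])
      have := Subgroup.orderOf_dvd_natCard _ (hconj c)
      rw [hc, hordc, card_centralizer_reeInvolution hK hA hA1 hA2] at this
      rcases hp.out.dvd_mul.1 this with h | h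
      · exact hpq h
      · rw [show (3 ^ (2 * m + 1)) ^ 2 - 1 = (3 ^ (2 * m + 1) + 1) * (3 ^ (2 * m + 1) - 1) by
          rw [← Nat.sq_sub_sq, one_pow]] at h
        rcases hp.out.dvd_mul.1 h with h | h
        · exact hpp h
        · exact hpm h
    have h3 : ℓ ≠ 3 := by
      rintro rfl
      have ho : orderOf (z * x) = 3 * p := by
        rw [hzx.orderOf_mul_eq_mul_orderOf_of_coprime (by
          rw [hoz, hx]; exact (Nat.coprime_primes Nat.prime_three hp.out).2 (by omega)), hoz, hx]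
      rcases orderOf_of_three_dvd hK hm (ho ▸ dvd_mul_right 3 p : 3 ∣ orderOf (z * x)) with ⟨k, hk⟩ | hk <;>
        rw [ho] at hk
      · have := (Nat.prime_dvd_prime_iff_eq hp.out Nat.prime_three).1
          (hp.out.dvd_of_dvd_pow (hk ▸ dvd_mul_left p 3))
        omega
      · omega
    have hℓ5 : 5 ≤ ℓ := by
      by_contra h
      have := hℓ.two_le
      interval_cases ℓ
      · exact h2 rfl
      · exact h3 rfl
      · norm_num at hℓ
    refine ⟨fun h => ?_, fun h => ?_, fun h => ?_⟩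
    · have := (Nat.prime_dvd_prime_iff_eq hℓ Nat.prime_three).1 (hℓ.dvd_of_dvd_pow h)
      omega
    · obtain ⟨c, hc⟩ := exists_conj_reeH hK hm hℓ hℓ5 h hoz
      set z' := c * z * c⁻¹
      have hoz' : orderOf z' = ℓ := (orderOf_injective (MulAut.conj c).toMonoidHom (MulAut.conj c).injective z).trans hoz
      have hC := centralizer_eq_reeH hK hm hc (fun e => by
        have := orderOf_dvd_of_pow_eq_one (show z' ^ 2 = 1 by rw [pow_two, e])
        rw [hoz'] at this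
        have := Nat.le_of_dvd two_pos this
        omega)
      have := Subgroup.orderOf_dvd_natCard _ (hC.le (hconj c))
      rw [hordc, card_reeH hK] at this
      exact hpm this
    · obtain ⟨c, hc⟩ := exists_conj_nonsplit hK hm hN hℓ hℓ5 h hoz
      have hoz' : orderOf (c * z * c⁻¹) = ℓ :=
        (orderOf_injective (MulAut.conj c).toMonoidHom (MulAut.conj c).injective z).trans hoz
      have hC := centralizer_eq_nonsplit hK hN hm hc hℓ h2 hoz'
      have := Subgroup.orderOf_dvd_natCard _ (hC.le (hconj c))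
      rw [hordc, hN.card] at this
      exact hpp this
  have hcop : ∀ n, (∀ ℓ, ℓ.Prime → ℓ ∣ n → ℓ ∣ 3 ^ (2 * m + 1) ∨ ℓ ∣ 3 ^ (2 * m + 1) - 1 ∨
      ℓ ∣ 3 ^ (2 * m + 1) + 1) → (Nat.card C).Coprime n := by
    intro n hn
    refine Nat.coprime_of_dvd fun ℓ hℓ h1 h2 => ?_
    obtain ⟨ha, hb, hc⟩ := hprimes ℓ hℓ h1
    rcases hn ℓ hℓ h2 with h | h | h
    exacts [ha h, hb h, hc h]
  refine ⟨?_, ?_⟩
  · obtain ⟨ρ, hρ⟩ := exists_reeSeven hK hm
    have hord : orderOf (Fintype.card K : ZMod p) = 6 := by rw [hK]; exact orderOf_q_eq_six hm hd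
    have hcyc := GLSeven.isCyclic_of_commute hord (x := ρ x) (by rw [orderOf_injective ρ hρ, hx])
      (C.map ρ) (by
        rintro _ ⟨b, hb, rfl⟩
        exact (show Commute b x from Subgroup.mem_centralizer_singleton_iff.1 hb).map ρ)
      (by
        rw [Subgroup.card_map_of_injective hρ, hK]
        exact hcop _ fun ℓ _ h => Or.inr (Or.inl h))
    exact isCyclic_of_injective (Subgroup.equivMapOfInjective C ρ hρ).toMonoidHom (MulEquiv.injective _)
  · have hdvd := Subgroup.card_subgroup_dvd_card C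
    rw [card_ree' hK] at hdvd
    have h1 := (hcop ((3 ^ (2 * m + 1)) ^ 3) fun ℓ hℓ h => Or.inl (hℓ.dvd_of_dvd_pow h)).dvd_of_dvd_mul_left hdvd
    have h2 := (hcop (3 ^ (2 * m + 1) - 1) fun ℓ _ h => Or.inr (Or.inl h)).dvd_of_dvd_mul_left h1
    exact (hcop (3 ^ (2 * m + 1) + 1) fun ℓ _ h => Or.inr (Or.inr h)).dvd_of_dvd_mul_left h2

/-- Non-trivial elements of such a centraliser have the same centraliser. -/
theorem centralizer_coxeter_eq (hm : 1 ≤ m) {x : ↥(twistedG2 K (3 ^ m))} {p : ℕ} [hp : Fact p.Prime]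
    (hd : p ∣ (3 ^ (2 * m + 1)) ^ 2 - 3 ^ (2 * m + 1) + 1) (hx : orderOf x = p)
    {z : ↥(twistedG2 K (3 ^ m))} (hz : z ∈ Subgroup.centralizer {x}) (hz1 : z ≠ 1) :
    Subgroup.centralizer {z} = Subgroup.centralizer {x} := by
  obtain ⟨hcyc, hdvd⟩ := centralizer_coxeter hK hm hd hx
  have hab : ∀ {u v}, u ∈ Subgroup.centralizer ({x} : Set ↥(twistedG2 K (3 ^ m))) →
      v ∈ Subgroup.centralizer {x} → u * v = v * u := fun {u v} hu hv =>
    congrArg Subtype.val (hcyc.isMulCommutative.is_comm.comm ⟨u, hu⟩ ⟨v, hv⟩)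
  have hz0 : orderOf z ≠ 1 := fun h => hz1 (orderOf_eq_one_iff.1 h)
  obtain ⟨ℓ, hℓ, hℓd⟩ := Nat.exists_prime_and_dvd hz0
  have : Fact ℓ.Prime := ⟨hℓ⟩
  set y := z ^ (orderOf z / ℓ)
  have hoy : orderOf y = ℓ := orderOf_pow_orderOf_div (orderOf_pos z).ne' hℓd
  have hℓN : ℓ ∣ (3 ^ (2 * m + 1)) ^ 2 - 3 ^ (2 * m + 1) + 1 :=
    hℓd.trans ((Subgroup.orderOf_dvd_natCard _ hz).trans hdvd)
  obtain ⟨hcycy, -⟩ := centralizer_coxeter hK hm hℓN hoy
  have hxy : x ∈ Subgroup.centralizer {y} := Subgroup.mem_centralizer_singleton_iff.2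
    (hab (Subgroup.mem_centralizer_singleton_iff.2 rfl) (pow_mem hz _))
  refine le_antisymm (fun u hu => ?_) (fun u hu => Subgroup.mem_centralizer_singleton_iff.2 (hab hu hz))
  have huy : u ∈ Subgroup.centralizer {y} := Subgroup.mem_centralizer_singleton_iff.2
    ((show Commute u z from Subgroup.mem_centralizer_singleton_iff.1 hu).pow_right _).eq
  exact Subgroup.mem_centralizer_singleton_iff.2
    (congrArg Subtype.val (hcycy.isMulCommutative.is_comm.comm ⟨u, huy⟩ ⟨x, hxy⟩))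

/-- The automiser of such a torus has order dividing six. -/
theorem normalizer_coxeter (hm : 1 ≤ m) {x : ↥(twistedG2 K (3 ^ m))} {p : ℕ} [hp : Fact p.Prime]
    (hd : p ∣ (3 ^ (2 * m + 1)) ^ 2 - 3 ^ (2 * m + 1) + 1) (hx : orderOf x = p) :
    ∃ f', f' ∣ 6 ∧ Nat.card (Subgroup.normalizer
      (Subgroup.centralizer ({x} : Set ↥(twistedG2 K (3 ^ m))) : Set ↥(twistedG2 K (3 ^ m)))) =
      Nat.card (Subgroup.centralizer ({x} : Set ↥(twistedG2 K (3 ^ m)))) * f' := by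
  classical
  obtain ⟨hcyc, -⟩ := centralizer_coxeter hK hm hd hx
  set C := Subgroup.centralizer ({x} : Set ↥(twistedG2 K (3 ^ m)))
  set N := Subgroup.normalizer (C : Set ↥(twistedG2 K (3 ^ m)))
  set X := Subgroup.zpowers x
  have hXC : X ≤ C := Subgroup.zpowers_le.2 (Subgroup.mem_centralizer_singleton_iff.2 rfl)
  have hNX : N ≤ Subgroup.normalizer (X : Set ↥(twistedG2 K (3 ^ m))) := normalizer_le_of_cyclic hXC
  set φ := X.normalizerMonoidHom.comp (Subgroup.inclusion hNX)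
  have hXcard : Nat.card X = p := by rw [Nat.card_zpowers, hx]
  have : IsCyclic (MulAut X) := by
    have : IsCyclic (ZMod (Nat.card X))ˣ := by rw [hXcard]; infer_instance
    exact isCyclic_of_surjective _ (IsCyclic.mulAutMulEquiv X).symm.surjective
  have hker : φ.ker = C.subgroupOf N := by
    ext n
    rw [MonoidHom.mem_ker, Subgroup.mem_subgroupOf]
    constructor
    · intro h
      have h1 := congrArg Subtype.val (DFunLike.congr_fun h ⟨x, Subgroup.mem_zpowers x⟩)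
      change (n : ↥(twistedG2 K (3 ^ m))) * x * (n : ↥(twistedG2 K (3 ^ m)))⁻¹ = x at h1
      exact Subgroup.mem_centralizer_singleton_iff.2 (mul_inv_eq_iff_eq_mul.1 h1)
    · intro h
      refine MulEquiv.ext fun z => Subtype.ext ?_
      obtain ⟨j, hj⟩ := Subgroup.mem_zpowers_iff.1 z.2
      show (n : ↥(twistedG2 K (3 ^ m))) * z * (n : ↥(twistedG2 K (3 ^ m)))⁻¹ = z
      rw [← hj, ((show Commute (n : ↥(twistedG2 K (3 ^ m))) x from
        Subgroup.mem_centralizer_singleton_iff.1 h).zpow_right j).eq, mul_inv_cancel_right]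
  obtain ⟨ρ, hρ⟩ := exists_reeSeven hK hm
  have hord : orderOf (Fintype.card K : ZMod p) = 6 := by rw [hK]; exact orderOf_q_eq_six hm hd
  have hsix : ∀ n : N, φ n ^ 6 = 1 := by
    intro n
    rw [← map_pow, ← MonoidHom.mem_ker, hker, Subgroup.mem_subgroupOf, Subgroup.coe_pow]
    set y := (n : ↥(twistedG2 K (3 ^ m)))
    have hmem : y * x * y⁻¹ ∈ X := (Subgroup.mem_normalizer_iff.1 (hNX n.2) x).1 (Subgroup.mem_zpowers x)
    obtain ⟨i, -, hi⟩ := Finset.mem_image.1 ((mem_zpowers_iff_mem_range_orderOf).1 hmem)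
    obtain ⟨j, hj⟩ := GLSeven.conj_eq_pow hord (x := ρ x) (y := ρ y) (i := i)
      (by rw [orderOf_injective ρ hρ, hx]) (by rw [← map_inv, ← map_mul, ← map_mul, ← hi, map_pow])
    have hk : ∀ k : ℕ, y ^ k * x * (y ^ k)⁻¹ = x ^ i ^ k := by
      intro k
      induction k with
      | zero => simp
      | succ k ih =>
        calc y ^ (k + 1) * x * (y ^ (k + 1))⁻¹ = y ^ k * (y * x * y⁻¹) * (y ^ k)⁻¹ := by
              rw [pow_succ]; group
          _ = (y ^ k * x * (y ^ k)⁻¹) ^ i := by rw [← hi, conj_pow]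
          _ = _ := by rw [ih, ← pow_mul, ← pow_succ]
    have h6 : x ^ i ^ 6 = x := by
      conv_rhs => rw [← pow_one x]
      rw [pow_eq_pow_iff_modEq, hx, ← ZMod.natCast_eq_natCast_iff, Nat.cast_pow, hj, ← pow_mul,
        mul_comm, pow_mul, ← hord, pow_orderOf_eq_one, one_pow, Nat.cast_one]
    exact Subgroup.mem_centralizer_singleton_iff.2 (mul_inv_eq_iff_eq_mul.1 ((hk 6).trans h6))
  refine ⟨Nat.card φ.range, ?_, ?_⟩
  · rw [← IsCyclic.exponent_eq_card]
    refine Monoid.exponent_dvd_of_forall_pow_eq_one ?_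
    rintro ⟨_, n, rfl⟩
    exact Subtype.ext (hsix n)
  · rw [← φ.ker.card_mul_index, Subgroup.index_ker, hker,
      Nat.card_congr (Subgroup.subgroupOfEquivOfLe Subgroup.le_normalizer).toEquiv]

/-- Sylow subgroups for primes above three are cyclic. -/
theorem isCyclic_sylow_ree (hm : 1 ≤ m) {p : ℕ} [hp : Fact p.Prime] (h3 : 3 < p)
    (P : Sylow p ↥(twistedG2 K (3 ^ m))) : IsCyclic (P : Subgroup ↥(twistedG2 K (3 ^ m))) := by
  classical
  have h5 : 5 ≤ p := by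
    by_contra h
    have h4 : p = 4 := by omega
    exact (by norm_num : ¬ Nat.Prime 4) (h4 ▸ hp.out)
  by_cases hP1 : Nat.card (P : Subgroup ↥(twistedG2 K (3 ^ m))) = 1
  · rw [Subgroup.card_eq_one.1 hP1]
    infer_instance
  -- a central element of order `p`
  have : Nontrivial (P : Subgroup ↥(twistedG2 K (3 ^ m))) := by
    rw [← Finite.one_lt_card_iff_nontrivial]
    have := Nat.card_pos (α := (P : Subgroup ↥(twistedG2 K (3 ^ m))))
    omega
  have hnt := P.isPGroup'.center_nontrivial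
  obtain ⟨c, hc⟩ := exists_ne (1 : Subgroup.center (P : Subgroup ↥(twistedG2 K (3 ^ m))))
  obtain ⟨k, hk⟩ := (P.isPGroup'.to_subgroup (Subgroup.center _)) c
  have hdvd : p ∣ orderOf c := by
    obtain ⟨j, -, hj⟩ := (Nat.dvd_prime_pow hp.out).1 (orderOf_dvd_of_pow_eq_one hk)
    rcases Nat.eq_zero_or_pos j with rfl | hj0
    · exact absurd (orderOf_eq_one_iff.1 (by rw [hj, pow_zero])) hc
    · rw [hj]; exact dvd_pow_self p hj0.ne'
  set z := c ^ (orderOf c / p)
  set x : ↥(twistedG2 K (3 ^ m)) := ((z : (P : Subgroup ↥(twistedG2 K (3 ^ m)))) : ↥(twistedG2 K (3 ^ m)))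
  have hx : orderOf x = p := by
    rw [Subgroup.orderOf_coe, Subgroup.orderOf_coe]
    exact orderOf_pow_orderOf_div (orderOf_pos c).ne' hdvd
  have hPx : ∀ u ∈ (P : Subgroup ↥(twistedG2 K (3 ^ m))), u * x = x * u := fun u hu =>
    congrArg Subtype.val (Subgroup.mem_center_iff.1 z.2 ⟨u, hu⟩)
  obtain ⟨M, A, e, o, hN⟩ := exists_nonsplit hK hm
  have key : ∀ (H : Subgroup ↥(twistedG2 K (3 ^ m))) (d : ↥(twistedG2 K (3 ^ m))),
      Subgroup.centralizer {d * x * d⁻¹} = H →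
      ∀ u ∈ (P : Subgroup ↥(twistedG2 K (3 ^ m))), d * u * d⁻¹ ∈ H := fun H d hH u hu => by
    rw [← hH]
    exact Subgroup.mem_centralizer_singleton_iff.2
      ((show Commute u x from hPx u hu).map (MulAut.conj d).toMonoidHom).eq
  rcases ree_prime_cases hK hp.out h5 (hx ▸ orderOf_dvd_natCard x) with h | h | h
  · obtain ⟨d, hd⟩ := exists_conj_reeH hK hm hp.out h5 h hx
    have hox : orderOf (d * x * d⁻¹) = p :=
      (orderOf_injective (MulAut.conj d).toMonoidHom (MulAut.conj d).injective x).trans hx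
    have hC := centralizer_eq_reeH hK hm hd (fun e => by
      have := orderOf_dvd_of_pow_eq_one (show (d * x * d⁻¹) ^ 2 = 1 by rw [pow_two, e])
      rw [hox] at this
      have := Nat.le_of_dvd two_pos this
      omega)
    have := isCyclic_reeH hK (m := m)
    exact isCyclic_of_injective
      (((MulAut.conj d).toMonoidHom.comp (P : Subgroup ↥(twistedG2 K (3 ^ m))).subtype).codRestrict _
        (fun u => key _ d hC u u.2))
      ((MonoidHom.injective_codRestrict _ _ _).2 ((MulAut.conj d).injective.comp Subtype.val_injective))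
  · obtain ⟨d, hd⟩ := exists_conj_nonsplit hK hm hN hp.out h5 h hx
    have hox : orderOf (d * x * d⁻¹) = p :=
      (orderOf_injective (MulAut.conj d).toMonoidHom (MulAut.conj d).injective x).trans hx
    have hC := centralizer_eq_nonsplit hK hN hm hd hp.out (by omega) hox
    refine isCyclic_of_injective
      (((MulAut.conj d).toMonoidHom.comp (P : Subgroup ↥(twistedG2 K (3 ^ m))).subtype).codRestrict
        (Subgroup.zpowers o) fun u => hN.odd_mem _ (key _ d hC u u.2) ?_)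
      ((MonoidHom.injective_codRestrict _ _ _).2 ((MulAut.conj d).injective.comp Subtype.val_injective))
    obtain ⟨j, hj⟩ := P.isPGroup' u
    have h1 : orderOf (d * (u : ↥(twistedG2 K (3 ^ m))) * d⁻¹) ∣ p ^ j := by
      refine orderOf_dvd_of_pow_eq_one ?_
      rw [conj_pow, ← Subgroup.coe_pow, hj, Subgroup.coe_one, mul_one, mul_inv_cancel]
    exact (hp.out.odd_of_ne_two (by omega)).pow.of_dvd_nat h1
  · obtain ⟨hcyc, -⟩ := centralizer_coxeter hK hm h hx
    exact isCyclic_of_injective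
      ((P : Subgroup ↥(twistedG2 K (3 ^ m))).subtype.codRestrict _
        fun u => Subgroup.mem_centralizer_singleton_iff.2 (hPx u u.2))
      ((MonoidHom.injective_codRestrict _ _ _).2 Subtype.val_injective)

end CfsgLib.Twisted
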