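import Cfsg.Agent.Lib.Twisted.FixedG2
import Mathlib

/-! The multiplication in the unipotent part of ²G₂(q) in the coordinates at `b`, `3a + b`, `3a + 2b`. -/

set_option autoImplicit false

namespace CfsgLib.Twisted

open Cfsg.Lie
open CfsgLib.Chevalley (Std auxG2 cert_G2 posG2 xG coe_xG xG_mul xG_zero prodU prodU_injOn)

/-- the word of positive root elements in increasing order -/
noncomputable def reeSorted {K : Type*} [Field K] (t a c d E F : K) : GL chevG2.Idx K :=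
  wordG cert_G2 [(g2b, t), (g2a, a), (g2ab, c), (g2aab, d), (g2aaab, E), (g2aaabb, F)]

/-- the coordinates at `b`, `3a + b`, `3a + 2b` -/
def ReeCoord {K : Type*} [Field K] (x : GL chevG2.Idx K) (t E F : K) : Prop :=
  ∃ a c d, x = reeSorted t a c d E F

variable {K : Type*} [Field K]

theorem reeSorted_mul (h30 : ((3 : ℕ) : K) = 0) (t a c d E F t' a' c' d' E' F' : K) :
    ∃ c'' d'', reeSorted t a c d E F * reeSorted t' a' c' d' E' F' =
      reeSorted (t + t') (a + a') c'' d'' (E + E' + t' * a ^ 3) (F + F' + t' ^ 2 * a ^ 3 - E * t') := by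
  have hc := g2Comm_ok
  simp only [Bool.and_eq_true, List.all_eq_true, decide_eq_true_eq] at hc
  obtain ⟨⟨⟨⟨⟨⟨⟨⟨⟨⟨⟨⟨⟨⟨⟨⟨⟨⟨⟨⟨⟨⟨⟨-, -⟩, -⟩, -⟩, x67⟩, x87⟩, x106⟩, k97⟩, k107⟩, k117⟩, k86⟩, k96⟩, k116⟩,
    k89⟩, k810⟩, k811⟩, k910⟩, k911⟩, k1011⟩, -⟩, -⟩, -⟩, -⟩, hlt⟩ := hc
  let X : ℕ → K → GL chevG2.Idx K := fun r s => xG cert_G2 r s
  have ex : ∀ {r r' : ℕ} {tail : List (ℕ × SPoly)},
      checkWordP chevG2 3 [(r, pT), (r', pU)] (wordVec chevG2 ((r', pU) :: (r, pT) :: tail)) = true →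
      r < chevG2.nroots → r' < chevG2.nroots → (∀ y ∈ tail, y.1 < chevG2.nroots) →
      ∀ x v : K, x ≠ 0 → v ≠ 0 → X r x * X r' v =
        X r' v * (X r x * wordG cert_G2 (tail.map fun y => (y.1, pEval x v y.2))) := by
    intro r r' tail h hr hr' ht x v hx hv
    have h' := checkWordP_eq hx hv h30 h (by
      intro y hy
      simp only [List.mem_cons] at hy
      rcases hy with rfl | rfl | hy
      exacts [hr', hr, ht y hy])
    apply Units.ext
    simp only [X, Units.val_mul, coe_xG, coe_wordG]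
    simpa [ChevalleyDatum.wordMat, pEval, pT, pU, mEval, mul_assoc] using h'
  have l6 : g2b < chevG2.nroots := hlt _ (by simp)
  have l7 : g2a < chevG2.nroots := hlt _ (by simp)
  have l8 : g2ab < chevG2.nroots := hlt _ (by simp)
  have l9 : g2aab < chevG2.nroots := hlt _ (by simp)
  have l10 : g2aaab < chevG2.nroots := hlt _ (by simp)
  have l11 : g2aaabb < chevG2.nroots := hlt _ (by simp)
  have cm : ∀ {r r' : ℕ}, checkCommuteP chevG2 3 r r' = true → ∀ (s s' : K) (M : GL chevG2.Idx K),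
      X r s * (X r' s' * M) = X r' s' * (X r s * M) := fun h s s' M => by
    rw [← mul_assoc, ← mul_assoc]
    congr 1
    exact Units.ext (rootCertG2.commute_xP h30 h s s').eq
  have q : ∀ (r : ℕ) (s s' : K) (M : GL chevG2.Idx K), X r s * (X r s' * M) = X r (s + s') * M := fun r s s' M => by
    rw [← mul_assoc]
    exact congrArg (· * M) (xG_mul cert_G2 r s s')
  have q1 : ∀ (r : ℕ) (s s' : K), X r s * X r s' = X r (s + s') := fun r s s' => xG_mul cert_G2 r s s'
  have cm1 : ∀ {r r' : ℕ}, checkCommuteP chevG2 3 r r' = true → ∀ (s s' : K),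
      X r s * X r' s' = X r' s' * X r s := fun h s s' => Units.ext (rootCertG2.commute_xP h30 h s s').eq
  -- `X_a X_b`
  have hba : ∀ (v x : K) (M : GL chevG2.Idx K), X g2a v * (X g2b x * M) = X g2b x * (X g2a v *
      (X g2ab (-(x * v)) * (X g2aab (-(x * v ^ 2)) * (X g2aaab (x * v ^ 3) * (X g2aaabb (x ^ 2 * v ^ 3) * M))))) := by
    intro v x M
    by_cases hx : x = 0
    · simp [X, hx, xG_zero]
    by_cases hv : v = 0
    · simp [X, hv, xG_zero]
    have h := ex x67 l6 l7 (by simp [l8, l9, l10, l11]) x v hx hv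
    simp only [List.map_cons, List.map_nil, wordG_cons, wordG_nil, mul_one, pEval, mEval, List.map, List.sum_cons,
      List.sum_nil, add_zero, Int.cast_one, Int.cast_neg, one_mul, pow_one, zpow_one, zpow_ofNat, neg_mul] at h
    have hz : ∀ (r : ℕ), X r 0 = 1 := fun r => xG_zero cert_G2 r
    have e : X g2b x * (X g2a v * (X g2ab (-(x * v)) * (X g2aab (-(x * v ^ 2)) * (X g2aaab (x * v ^ 3) *
        (X g2aaabb (x ^ 2 * v ^ 3) * M))))) = (X g2b x * X g2a v) * (X g2ab (-(x * v)) *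
        (X g2aab (-(x * v ^ 2)) * (X g2aaab (x * v ^ 3) * (X g2aaabb (x ^ 2 * v ^ 3) * M)))) := by group
    rw [e, h]
    simp only [X] at *
    simp only [mul_assoc]
    rw [← cm k811, ← cm k810, ← cm k89, q, add_neg_cancel, hz, one_mul, ← cm k911, ← cm k910, q, add_neg_cancel,
      hz, one_mul, ← cm k1011, q, neg_add_cancel, hz, one_mul, q, neg_add_cancel, hz, one_mul]
  have hCa : ∀ (z v : K) (M : GL chevG2.Idx K),
      X g2ab z * (X g2a v * M) = X g2a v * (X g2ab z * (X g2aab (-(z * v)) * M)) := by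
    intro x v M
    by_cases hx : x = 0
    · simp [X, hx, xG_zero]
    by_cases hv : v = 0
    · simp [X, hv, xG_zero]
    have h := ex x87 l8 l7 (by simp [l9]) x v hx hv
    simp only [List.map_cons, List.map_nil, wordG_cons, wordG_nil, mul_one, pEval, mEval, List.map, List.sum_cons,
      List.sum_nil, add_zero, Int.cast_one, Int.cast_neg, one_mul, pow_one, zpow_one, zpow_ofNat, neg_mul] at h
    rw [← mul_assoc, h]
    simp only [X, mul_assoc]
  have hEb : ∀ (z v : K) (M : GL chevG2.Idx K),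
      X g2aaab z * (X g2b v * M) = X g2b v * (X g2aaab z * (X g2aaabb (-(z * v)) * M)) := by
    intro x v M
    by_cases hx : x = 0
    · simp [X, hx, xG_zero]
    by_cases hv : v = 0
    · simp [X, hv, xG_zero]
    have h := ex x106 l10 l6 (by simp [l11]) x v hx hv
    simp only [List.map_cons, List.map_nil, wordG_cons, wordG_nil, mul_one, pEval, mEval, List.map, List.sum_cons,
      List.sum_nil, add_zero, Int.cast_one, Int.cast_neg, one_mul, pow_one, zpow_one, zpow_ofNat, neg_mul] at h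
    rw [← mul_assoc, h]
    simp only [X, mul_assoc]
  refine ⟨-(t' * a) + c + c', -(t' * a ^ 2) + d + -((-(t' * a) + c) * a') + d', ?_⟩
  simp only [reeSorted, wordG_cons, wordG_nil, mul_one, mul_assoc]
  change X g2b t * (X g2a a * (X g2ab c * (X g2aab d * (X g2aaab E * (X g2aaabb F * (X g2b t' * (X g2a a' *
    (X g2ab c' * (X g2aab d' * (X g2aaab E' * X g2aaabb F')))))))))) = X g2b _ * (X g2a _ * (X g2ab _ *
      (X g2aab _ * (X g2aaab _ * X g2aaabb _))))
  rw [cm k116, hEb, cm k96, cm k86, hba, q g2b]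
  simp only [cm k117, cm k107, cm k97]
  rw [hCa c a']
  simp only [cm k117, cm k107, cm k97]
  rw [hCa _ a', q g2a]
  simp only [← cm k811, ← cm k810, ← cm k89, ← cm k911, ← cm k910, ← cm k1011, q, q1, ← cm1 k1011]
  ring_nf

theorem ReeCoord.mul (h30 : ((3 : ℕ) : K) = 0) {e : ℕ} {x y : GL chevG2.Idx K} {t E F t' E' F' : K}
    (hx : ∃ c d, x = reeSorted t (t ^ e) c d E F) (hy : ReeCoord y t' E' F') :
    ReeCoord (x * y) (t + t') (E + E' + t' * (t ^ e) ^ 3) (F + F' + t' ^ 2 * (t ^ e) ^ 3 - E * t') := by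
  obtain ⟨c, d, rfl⟩ := hx
  obtain ⟨a', c', d', rfl⟩ := hy
  obtain ⟨c'', d'', h⟩ := reeSorted_mul h30 t (t ^ e) c d E F t' a' c' d' E' F'
  exact ⟨_, c'', d'', h⟩

theorem reeCoord_one : ReeCoord (1 : GL chevG2.Idx K) 0 0 0 :=
  ⟨0, 0, 0, by simp [reeSorted, wordG, xG_zero]⟩

theorem ReeCoord.unique {x : GL chevG2.Idx K} {t E F t' E' F' : K} (h : ReeCoord x t E F)
    (h' : ReeCoord x t' E' F') : t = t' ∧ E = E' ∧ F = F' := by
  obtain ⟨a, c, d, rfl⟩ := h
  obtain ⟨a', c', d', h'⟩ := h'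
  have hS : Std chevG2 auxG2 := ⟨cert_G2, posG2, by simp⟩
  let G : K → K → K → K → K → K → ℕ → K := fun t a c d E F r => if r = g2b then t else if r = g2a then a else
    if r = g2ab then c else if r = g2aab then d else if r = g2aaab then E else F
  have hp := g2Fixed_ok
  simp only [Bool.and_eq_true, beq_iff_eq] at hp
  have e : ∀ t a c d E F : K, reeSorted t a c d E F = prodU hS.cert chevG2.posRoots (G t a c d E F) := by
    intro t a c d E F
    rw [hp.2]
    simp only [reeSorted, prodU, wordG, List.map_cons, List.map_nil, G, g2a, g2b, g2ab, g2aab, g2aaab, g2aaabb,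
      Nat.reduceEqDiff, ↓reduceIte]
  rw [e, e] at h'
  obtain ⟨h1, h2, -⟩ := hS.posList
  have key := prodU_injOn hS h1 (h2 ▸ hS.isClosed_pos) h'
  have k6 := key g2b (by rw [hp.2]; simp)
  have k10 := key g2aaab (by rw [hp.2]; simp)
  have k11 := key g2aaabb (by rw [hp.2]; simp)
  simp only [G, g2a, g2b, g2ab, g2aab, g2aaab, g2aaabb, Nat.reduceEqDiff, ↓reduceIte] at k6 k10 k11
  exact ⟨k6, k10, k11⟩

variable [Fintype K] {m : ℕ} (hK : Fintype.card K = 3 ^ (2 * m + 1))
include hK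

theorem reeCoord_word (t u v : K) :
    ReeCoord (wordG cert_G2 (reeWordU (3 ^ m) t u v)) t (u + t * (t ^ 3 ^ m) ^ 3) (v + t ^ 2 * (t ^ 3 ^ m) ^ 3) :=
  ⟨t ^ 3 ^ m, u ^ 3 ^ m, v ^ 3 ^ m, (reeWordU_sorted hK t u v).1⟩

/-- the cube of an element of the unipotent part -/
theorem reeCoord_cube (t u v : K) :
    ReeCoord (wordG cert_G2 (reeWordU (3 ^ m) t u v) ^ 3) 0 0 (-(t ^ 2 * (t ^ 3 ^ m) ^ 3)) := by
  have h30 : ((3 : ℕ) : K) = 0 := natCast_char_zero (p := 3) (k := 2 * m + 1) (by omega) hK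
  have h3 : (3 : K) = 0 := by simpa using h30
  set w := wordG cert_G2 (reeWordU (3 ^ m) t u v) with hw
  have hw' : ∃ c d, w = reeSorted t (t ^ 3 ^ m) c d (u + t * (t ^ 3 ^ m) ^ 3) (v + t ^ 2 * (t ^ 3 ^ m) ^ 3) :=
    ⟨u ^ 3 ^ m, v ^ 3 ^ m, (reeWordU_sorted hK t u v).1⟩
  have h2 := ReeCoord.mul h30 hw' (reeCoord_word hK t u v)
  have h3' := ReeCoord.mul h30 hw' h2
  rw [← mul_assoc, ← hw, show w * w * w = w ^ 3 by rw [pow_succ, pow_two]] at h3'
  obtain ⟨a, c, d, e⟩ := h3'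
  refine ⟨a, c, d, ?_⟩
  rw [e]
  congr 1
  · linear_combination t * h3
  · linear_combination (u + 2 * (t * (t ^ 3 ^ m) ^ 3)) * h3
  · linear_combination (v + 2 * (t ^ 2 * (t ^ 3 ^ m) ^ 3) - t * u) * h3

theorem reeWordU_pow_three_eq_one_iff (t u v : K) :
    wordG cert_G2 (reeWordU (3 ^ m) t u v) ^ 3 = 1 ↔ t = 0 := by
  have hinj : ∀ {x : GL chevG2.Idx K} {F : K}, x ∈ chevG2.posUnipotent K ⊓ twistedG2 K (3 ^ m) →
      ReeCoord x 0 0 F → F = 0 → x = 1 := by
    intro x F hx hc hF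
    rw [inf_comm] at hx
    obtain ⟨t, u, v, rfl⟩ := (mem_unipotent_g2 hK (g2Twist_isTwist hK) le_rfl x).1 hx
    obtain ⟨rfl, e2, e3⟩ := (reeCoord_word hK t u v).unique hc
    simp only [zero_mul, zero_pow two_ne_zero, add_zero, hF] at e2 e3
    subst e2; subst e3
    simp [reeWordU, wordG, xG_zero, (Nat.pow_pos (by norm_num : 0 < 3)).ne']
  have hc := reeCoord_cube hK t u v
  constructor
  · intro h1
    rw [h1] at hc
    obtain ⟨-, -, hF⟩ := (reeCoord_one (K := K)).unique hc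
    have := neg_eq_zero.1 hF.symm
    simpa using this
  · intro ht
    have hmem : wordG cert_G2 (reeWordU (3 ^ m) t u v) ∈ chevG2.posUnipotent K ⊓ twistedG2 K (3 ^ m) := by
      rw [inf_comm]
      exact (mem_unipotent_g2 hK (g2Twist_isTwist hK) le_rfl _).2 ⟨t, u, v, rfl⟩
    exact hinj (Subgroup.pow_mem _ hmem 3) hc (by simp [ht])

/-- the elements of order three -/
theorem card_order_three :
    Nat.card {x : ↥(chevG2.posUnipotent K ⊓ twistedG2 K (3 ^ m)) // orderOf x = 3} =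
      (3 ^ (2 * m + 1)) ^ 2 - 1 := by
  classical
  haveI : Fact (Nat.Prime 3) := ⟨Nat.prime_three⟩
  have hmem : ∀ u v : K, wordG cert_G2 (reeWordU (3 ^ m) 0 u v) ∈ chevG2.posUnipotent K ⊓ twistedG2 K (3 ^ m) := by
    intro u v
    rw [inf_comm]
    exact (mem_unipotent_g2 hK (g2Twist_isTwist hK) le_rfl _).2 ⟨0, u, v, rfl⟩
  have hinj : ∀ u v u' v' : K, wordG cert_G2 (reeWordU (3 ^ m) 0 u v) = wordG cert_G2 (reeWordU (3 ^ m) 0 u' v') →
      u = u' ∧ v = v' := by
    intro u v u' v' h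
    obtain ⟨-, e2, e3⟩ := (h ▸ reeCoord_word hK 0 u v).unique (reeCoord_word hK 0 u' v')
    exact ⟨add_right_cancel e2, add_right_cancel e3⟩
  have h00 : wordG cert_G2 (reeWordU (3 ^ m) (0 : K) 0 0) = 1 := by
    simp [reeWordU, wordG, xG_zero, (Nat.pow_pos (by norm_num : 0 < 3)).ne']
  let f : {p : K × K // p ≠ 0} → {x : ↥(chevG2.posUnipotent K ⊓ twistedG2 K (3 ^ m)) // orderOf x = 3} :=
    fun p => ⟨⟨_, hmem p.1.1 p.1.2⟩, orderOf_eq_prime
      (Subtype.ext ((reeWordU_pow_three_eq_one_iff hK _ _ _).2 rfl)) fun h => p.2 (by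
        obtain ⟨h1, h2⟩ := hinj p.1.1 p.1.2 0 0 ((congrArg Subtype.val h).trans h00.symm)
        exact Prod.ext h1 h2)⟩
  have hf : Function.Bijective f := by
    refine ⟨fun p q h => ?_, fun x => ?_⟩
    · obtain ⟨h1, h2⟩ := hinj _ _ _ _ (congrArg Subtype.val (congrArg Subtype.val h))
      exact Subtype.ext (Prod.ext h1 h2)
    · have hx : (x.1 : GL chevG2.Idx K) ∈ twistedG2 K (3 ^ m) ⊓ chevG2.posUnipotent K := by
        rw [inf_comm]
        exact x.1.2
      obtain ⟨t, u, v, e⟩ := (mem_unipotent_g2 hK (g2Twist_isTwist hK) le_rfl _).1 hx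
      have h3 : (x.1 : GL chevG2.Idx K) ^ 3 = 1 := by
        rw [← Subgroup.coe_pow]
        have := pow_orderOf_eq_one x.1
        rw [x.2] at this
        exact congrArg Subtype.val this
      rw [e] at h3
      obtain rfl := (reeWordU_pow_three_eq_one_iff hK _ _ _).1 h3
      refine ⟨⟨(u, v), fun h => ?_⟩, Subtype.ext (Subtype.ext e.symm)⟩
      obtain ⟨rfl, rfl⟩ : u = 0 ∧ v = 0 := Prod.ext_iff.1 h
      rw [h00] at e
      have h1 := x.2
      rw [show x.1 = 1 from Subtype.ext e, orderOf_one] at h1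
      norm_num at h1
  rw [← Nat.card_eq_of_bijective f hf, Nat.card_eq_fintype_card, Fintype.card_subtype_compl,
    Fintype.card_subtype_eq, Fintype.card_prod, hK, sq]

end CfsgLib.Twisted
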