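import Cfsg.Agent.Lib.Twisted.ReeTori
import Cfsg.Agent.Lib.Twisted.ReeUnipotentLaw

/-! The cyclic Hall subgroups and the element orders of ²G₂(q). -/

set_option autoImplicit false
set_option linter.unusedSectionVars false

namespace CfsgLib.Twisted

open Cfsg.Lie

theorem exists_orderOf_of_dvd {G : Type*} [Group G] [Finite G] {n d : ℕ} {g : G} (hg : orderOf g = n)
    (hd : d ∣ n) : ∃ h : G, orderOf h = d := by
  subst hg
  exact ⟨g ^ (orderOf g / d), orderOf_pow_orderOf_div (orderOf_pos g).ne' hd⟩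

theorem exists_orderOf_card {G : Type*} [Group G] [Finite G] (B : Subgroup G) [IsCyclic B] :
    ∃ g : G, orderOf g = Nat.card B := by
  obtain ⟨g, hg⟩ := IsCyclic.exists_ofOrder_eq_natCard (α := B)
  exact ⟨g, by rw [Subgroup.orderOf_coe]; exact hg⟩

/-- Subgroups of a cyclic group whose non-trivial elements have centraliser `M` share the
normaliser of `M`. -/
theorem normalizer_eq_of_ti {G : Type*} [Group G] [Finite G] {A M : Subgroup G} [IsCyclic A]
    (hC : ∀ y ∈ A, y ≠ 1 → Subgroup.centralizer {y} = M)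
    (hN : Subgroup.normalizer (M : Set G) ≤ Subgroup.normalizer (A : Set G))
    {A₀ : Subgroup G} (h0 : A₀ ≤ A) (hne : A₀ ≠ ⊥) :
    Subgroup.normalizer (A₀ : Set G) = Subgroup.normalizer (M : Set G) := by
  refine le_antisymm (fun g hg => ?_) (hN.trans (normalizer_le_of_cyclic h0))
  obtain ⟨⟨y, hy⟩, hy1⟩ := (Subgroup.ne_bot_iff_exists_ne_one).1 hne
  have hy1' : y ≠ 1 := fun e => hy1 (Subtype.ext e)
  exact mem_normalizer_of_centralizer_eq (hC y (h0 hy) hy1')
    (hC _ (h0 ((Subgroup.mem_normalizer_iff.1 hg y).1 hy)) (fun e => hy1' (conj_eq_one_iff.1 e)))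

variable {K : Type*} [Field K] [Fintype K] {m : ℕ} (hK : Fintype.card K = 3 ^ (2 * m + 1))
include hK

theorem ree_hall_tori (hm : 1 ≤ m) :
    ∀ k n : ℕ, ((k = (3 ^ (2 * m + 1) - 1) / 2 ∧ n = 2 * (3 ^ (2 * m + 1) - 1)) ∨
      (k = (3 ^ (2 * m + 1) + 1) / 4 ∧ n = 6 * (3 ^ (2 * m + 1) + 1)) ∨
      ((k = 3 ^ (2 * m + 1) - 3 ^ (m + 1) + 1 ∨ k = 3 ^ (2 * m + 1) + 3 ^ (m + 1) + 1) ∧ n = 6 * k)) →
      ∃ A : Subgroup ↥(twistedG2 K (3 ^ m)), IsCyclic A ∧ Nat.card A = k ∧
        Nat.card (Subgroup.normalizer (A : Set ↥(twistedG2 K (3 ^ m)))) = n ∧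
        ∀ A₀ : Subgroup ↥(twistedG2 K (3 ^ m)), A₀ ≤ A → A₀ ≠ ⊥ →
          Subgroup.normalizer (A₀ : Set ↥(twistedG2 K (3 ^ m))) =
            Subgroup.normalizer (A : Set ↥(twistedG2 K (3 ^ m))) := by
  obtain ⟨h27, hq8, hq3⟩ := ree_q_data (m := m) hm
  intro k n hkn
  suffices h : ∃ (A M : Subgroup ↥(twistedG2 K (3 ^ m))), IsCyclic A ∧ Nat.card A = k ∧ A ≠ ⊥ ∧
      (∀ y ∈ A, y ≠ 1 → Subgroup.centralizer {y} = M) ∧
      Subgroup.normalizer (M : Set ↥(twistedG2 K (3 ^ m))) ≤ Subgroup.normalizer (A : Set ↥(twistedG2 K (3 ^ m))) ∧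
      Nat.card (Subgroup.normalizer (M : Set ↥(twistedG2 K (3 ^ m)))) = n by
    obtain ⟨A, M, hA, hk, hne, hC, hN, hn⟩ := h
    refine ⟨A, hA, hk, ?_, fun A₀ h0 hne0 => ?_⟩
    · rw [normalizer_eq_of_ti hC hN le_rfl hne, hn]
    · rw [normalizer_eq_of_ti hC hN h0 hne0, normalizer_eq_of_ti hC hN le_rfl hne]
  rcases hkn with ⟨rfl, rfl⟩ | ⟨rfl, rfl⟩ | ⟨hk, rfl⟩
  · have := isCyclic_reeH hK (m := m)
    obtain ⟨⟨g, hg⟩, hgen⟩ := IsCyclic.exists_ofOrder_eq_natCard (α := reeH K m)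
    rw [← Subgroup.orderOf_coe, card_reeH hK] at hgen
    change orderOf g = _ at hgen
    have ho : orderOf (g ^ 2) = (3 ^ (2 * m + 1) - 1) / 2 := by
      rw [orderOf_pow' g two_ne_zero, hgen, Nat.gcd_eq_right (by omega)]
    have hle : Subgroup.zpowers (g ^ 2) ≤ reeH K m := Subgroup.zpowers_le.2 (pow_mem hg 2)
    refine ⟨Subgroup.zpowers (g ^ 2), reeH K m, inferInstance, by rw [Nat.card_zpowers, ho], ?_, ?_,
      normalizer_le_of_cyclic hle, card_normalizer_reeH hK hm⟩
    · intro e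
      rw [Subgroup.zpowers_eq_bot] at e
      rw [e, orderOf_one] at ho
      omega
    · intro y hy hy1
      refine centralizer_eq_reeH hK hm (hle hy) fun e => hy1 ?_
      have h2 : orderOf y ∣ 2 := orderOf_dvd_of_pow_eq_one (by rw [pow_two, e])
      have hd : orderOf y ∣ (3 ^ (2 * m + 1) - 1) / 2 := by
        rw [← ho, ← Nat.card_zpowers (g ^ 2)]; exact Subgroup.orderOf_dvd_natCard _ hy
      rcases (Nat.dvd_prime Nat.prime_two).1 h2 with h | h
      · exact orderOf_eq_one_iff.1 h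
      · rw [h] at hd; omega
  · obtain ⟨M, A, e, o, hN⟩ := exists_nonsplit hK hm
    obtain ⟨ho, hodd, -, ho7⟩ := nonsplit_orderOf_o hK hN hm
    refine ⟨Subgroup.zpowers o, M, inferInstance, by rw [Nat.card_zpowers, ho], ?_, ?_, ?_,
      card_normalizer_nonsplit hK hN hm⟩
    · intro h
      rw [Subgroup.zpowers_eq_bot] at h
      rw [h, orderOf_one] at ho7
      omega
    · intro y hy hy1
      refine centralizer_eq_nonsplit_of_sq_ne hK hN hm (Subgroup.zpowers_le.2 hN.memo hy) fun e => hy1 ?_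
      have h2 : orderOf y ∣ 2 := orderOf_dvd_of_pow_eq_one (by rw [pow_two, e])
      have hd : orderOf y ∣ orderOf o := by
        rw [← Nat.card_zpowers o]; exact Subgroup.orderOf_dvd_natCard _ hy
      rcases (Nat.dvd_prime Nat.prime_two).1 h2 with h | h
      · exact orderOf_eq_one_iff.1 h
      · rw [h] at hd
        have := Nat.odd_iff.1 hodd
        omega
    · intro g hg
      have key : ∀ h ∈ Subgroup.normalizer (M : Set ↥(twistedG2 K (3 ^ m))), ∀ z ∈ Subgroup.zpowers o,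
          h * z * h⁻¹ ∈ Subgroup.zpowers o := by
        intro h hh z hz
        refine hN.odd_mem _ ((Subgroup.mem_normalizer_iff.1 hh z).1 (Subgroup.zpowers_le.2 hN.memo hz)) ?_
        rw [ree_orderOf_conj hK]
        refine hodd.of_dvd_nat ?_
        rw [← Nat.card_zpowers o]; exact Subgroup.orderOf_dvd_natCard _ hz
      refine Subgroup.mem_normalizer_iff.2 fun z => ⟨key g hg z, fun hz => ?_⟩
      simpa [mul_assoc] using key g⁻¹ (inv_mem hg) _ hz
  · obtain ⟨B, hB, hcard, hnorm, hC⟩ := (exists_coxeter_tori hK hm).1 k hk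
    refine ⟨B, B, hB, hcard, ?_, hC, le_rfl, hnorm⟩
    intro e
    rw [e, Subgroup.card_bot] at hcard
    have hr : 3 ^ (m + 1) < 3 ^ (2 * m + 1) := Nat.pow_lt_pow_right (by norm_num) (by omega)
    generalize 3 ^ (m + 1) = r at hr hk
    generalize 3 ^ (2 * m + 1) = q at hr hk
    rcases hk with h | h <;> omega

theorem ree_element_orders (hm : 1 ≤ m) (d : ℕ) :
    (∃ g : ↥(twistedG2 K (3 ^ m)), orderOf g = d) ↔
      (d ∣ 6 ∨ d ∣ 9 ∨ d ∣ 3 ^ (2 * m + 1) - 1 ∨ d ∣ (3 ^ (2 * m + 1) + 1) / 2 ∨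
        d ∣ 3 ^ (2 * m + 1) - 3 ^ (m + 1) + 1 ∨ d ∣ 3 ^ (2 * m + 1) + 3 ^ (m + 1) + 1) := by
  classical
  obtain ⟨h27, hq8, hq3⟩ := ree_q_data (m := m) hm
  constructor
  · rintro ⟨g, rfl⟩
    by_cases hg : g = 1
    · exact Or.inl (by rw [hg, orderOf_one]; exact one_dvd _)
    rcases ree_kinds hK hm hg with h | ⟨k, h⟩ | h | ⟨-, h⟩ | ⟨-, h⟩ | ⟨h, -⟩
    · exact Or.inl (by rw [h]; norm_num)
    · exact Or.inr (Or.inl (orderOf_dvd_of_pow_eq_one (pow_nine_eq_one hK hm h)))
    · exact Or.inl (by rw [h])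
    · exact Or.inr (Or.inr (Or.inl h))
    · exact Or.inr (Or.inr (Or.inr (Or.inl h)))
    · exact Or.inr (Or.inr (Or.inr (Or.inr ((exists_coxeter_tori hK hm).2 g h))))
  · rintro (h | h | h | h | h | h)
    · -- an element of order six
      have h6 := card_order_six hK hm
      have hne : Nonempty {g : ↥(twistedG2 K (3 ^ m)) // orderOf g = 6} := by
        by_contra hno
        rw [not_nonempty_iff] at hno
        rw [Nat.card_of_isEmpty, zero_mul] at h6
        rcases mul_eq_zero.1 h6.symm with h' | h'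
        · exact Nat.card_pos.ne' h'
        · omega
      obtain ⟨g, hg⟩ := hne
      exact exists_orderOf_of_dvd hg h
    · -- an element of order nine
      obtain ⟨u, hu, hu3⟩ : ∃ u ∈ reeU K m, u ^ 3 ≠ 1 := by
        by_contra hno
        simp only [not_exists, not_and, not_not] at hno
        have : Fact (Nat.Prime 3) := ⟨Nat.prime_three⟩
        have hc := card_order_three (m := m) hK
        let ι : {x : reeU K m // x ≠ 1} →
            {x : ↥(chevG2.posUnipotent K ⊓ twistedG2 K (3 ^ m)) // orderOf x = 3} := fun x =>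
          ⟨⟨((x.1 : ↥(twistedG2 K (3 ^ m))) : GL chevG2.Idx K), Subgroup.mem_inf.2
            ⟨mem_reeU.1 x.1.2, (x.1 : ↥(twistedG2 K (3 ^ m))).2⟩⟩, by
            rw [← Subgroup.orderOf_coe]
            show orderOf ((x.1 : ↥(twistedG2 K (3 ^ m))) : GL chevG2.Idx K) = 3
            rw [Subgroup.orderOf_coe]
            exact orderOf_eq_prime (hno _ x.1.2) (fun e => x.2 (Subtype.ext e))⟩
        have hι : Function.Injective ι := fun a b e => Subtype.ext (Subtype.ext (Subtype.ext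
          (congrArg (fun z : {x : ↥(chevG2.posUnipotent K ⊓ twistedG2 K (3 ^ m)) // orderOf x = 3} =>
            (z.1 : GL chevG2.Idx K)) e)))
        have hle := Nat.card_le_card_of_injective ι hι
        have hU : Nat.card {x : reeU K m // x ≠ 1} = (3 ^ (2 * m + 1)) ^ 3 - 1 := by
          have := Fintype.ofFinite (reeU K m)
          rw [Nat.card_eq_fintype_card, Fintype.card_subtype_compl, Fintype.card_subtype_eq,
            ← Nat.card_eq_fintype_card, card_reeU hK]
        rw [hU, hc] at hle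
        have hlt : (3 ^ (2 * m + 1)) ^ 2 < (3 ^ (2 * m + 1)) ^ 3 := Nat.pow_lt_pow_right (by omega) (by norm_num)
        have hpos : 0 < (3 ^ (2 * m + 1)) ^ 2 := by positivity
        omega
      have : Fact (Nat.Prime 3) := ⟨Nat.prime_three⟩
      have hd : orderOf u ∣ 3 ^ (3 * (2 * m + 1)) := by
        rw [mul_comm 3, pow_mul, ← card_reeU hK]; exact Subgroup.orderOf_dvd_natCard _ hu
      obtain ⟨i, -, hi⟩ := (Nat.dvd_prime_pow Nat.prime_three).1 hd
      have h9 := pow_nine_eq_one hK hm hi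
      have hu9 : orderOf u = 9 :=
        (orderOf_eq_prime_pow (p := 3) (n := 1) (by rwa [pow_one]) (by norm_num; exact h9)).trans (by norm_num)
      exact exists_orderOf_of_dvd hu9 h
    · have := isCyclic_reeH hK (m := m)
      obtain ⟨g, hg⟩ := exists_orderOf_card (reeH K m)
      exact exists_orderOf_of_dvd hg (by rw [card_reeH hK]; exact h)
    · obtain ⟨M, A, e, o, hN⟩ := exists_nonsplit hK hm
      obtain ⟨g, -, hg⟩ := hN.gen
      exact exists_orderOf_of_dvd (g := g) (by omega) h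
    · obtain ⟨B, hB, hcard, -, -⟩ := (exists_coxeter_tori hK hm).1 _ (Or.inl rfl)
      obtain ⟨g, hg⟩ := exists_orderOf_card B
      exact exists_orderOf_of_dvd hg (hcard.symm ▸ h)
    · obtain ⟨B, hB, hcard, -, -⟩ := (exists_coxeter_tori hK hm).1 _ (Or.inr rfl)
      obtain ⟨g, hg⟩ := exists_orderOf_card B
      exact exists_orderOf_of_dvd hg (hcard.symm ▸ h)

end CfsgLib.Twisted
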