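import Cfsg.Agent.Lib.Twisted.ReeSplit
import Cfsg.Agent.Lib.Twisted.PSLTorus
import Cfsg.Agent.Lib.FourTransitive.FourGroupOdd

/-! The tori of order `q + 1` of ²G₂(q). -/

set_option autoImplicit false
set_option linter.unusedSectionVars false

namespace CfsgLib.Twisted

open Cfsg.Lie
open IsRankOne (borelIn)
open scoped Pointwise

/-- The elements of order at most two of an abelian subgroup. -/
def invSubgroup {G : Type*} [Group G] (M : Subgroup G) (h : IsMulCommutative M) : Subgroup G where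
  carrier := {x | x ∈ M ∧ x * x = 1}
  one_mem' := ⟨one_mem _, one_mul 1⟩
  mul_mem' {a b} ha hb := ⟨mul_mem ha.1 hb.1, by
    rw [mul_assoc, ← mul_assoc b, show b * a = a * b from congrArg Subtype.val (h.is_comm.comm ⟨b, hb.1⟩ ⟨a, ha.1⟩),
      mul_assoc a b b, hb.2, mul_one, ha.2]⟩
  inv_mem' {a} ha := ⟨inv_mem ha.1, by rw [← mul_inv_rev, ha.2, inv_one]⟩

variable {K : Type*} [Field K] [Fintype K] {m : ℕ} (hK : Fintype.card K = 3 ^ (2 * m + 1))
include hK

local notation "C₂" => Multiplicative (ZMod 2)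
local notation "PK" => Matrix.ProjectiveSpecialLinearGroup (Fin 2) K

theorem three_eq_zero_ree : (3 : K) = 0 := by
  simpa using natCast_char_zero (p := 3) (k := 2 * m + 1) (by omega) hK

theorem natCard_ree : Nat.card K = 3 ^ (2 * m + 1) := by rw [Nat.card_eq_fintype_card, hK]

/-- The isomorphism `2 × L₂(q) ≅ C(A)` sends the central involution to `A`. -/
theorem exists_invHom (hm : 1 ≤ m) {A : ↥(twistedG2 K (3 ^ m))} (hA : A ∈ reeH K m) (hA1 : A ≠ 1)
    (hA2 : A * A = 1) : ∃ Ψ : C₂ × PK →* ↥(twistedG2 K (3 ^ m)), Function.Injective Ψ ∧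
      (∀ g, g ∈ Ψ.range ↔ g * A = A * g) ∧ Ψ (Multiplicative.ofAdd 1, 1) = A := by
  obtain ⟨e⟩ := ree_centralizer_involution hK (mem_reeH.1 hA) hA1 hA2
  refine ⟨(Subgroup.centralizer {A}).subtype.comp e.toMonoidHom,
    Subtype.val_injective.comp e.injective, fun g => ?_, ?_⟩
  · rw [← Subgroup.mem_centralizer_singleton_iff]
    constructor
    · rintro ⟨x, rfl⟩; exact (e x).2
    · intro hg
      exact ⟨e.symm ⟨g, hg⟩, by simp⟩
  set AC : Subgroup.centralizer ({A} : Set ↥(twistedG2 K (3 ^ m))) :=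
    ⟨A, Subgroup.mem_centralizer_singleton_iff.2 rfl⟩
  obtain ⟨⟨i, s⟩, hx⟩ : ∃ x, x = e.symm AC := ⟨_, rfl⟩
  have hcen : ∀ y : C₂ × PK, Commute (i, s) y := fun y => by
    rw [hx, ← e.symm_apply_apply y]
    exact Commute.map (Subtype.ext (Subgroup.mem_centralizer_singleton_iff.1 (e y).2).symm) e.symm
  have hsq : (i, s) * (i, s) = 1 := by
    rw [hx, ← map_mul, show AC * AC = 1 from Subtype.ext hA2, map_one]
  have hs : s = 1 := by
    by_contra hs
    obtain ⟨-, hq, -⟩ := ree_q_data (m := m) hm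
    have hc := PSLTorus.card_centralizer_involution (three_eq_zero_ree hK) (natCard_ree hK) (by omega)
      hs (congrArg Prod.snd hsq)
    have htop : Subgroup.centralizer ({s} : Set PK) = ⊤ := eq_top_iff.2 fun y _ =>
      Subgroup.mem_centralizer_singleton_iff.2 (congrArg Prod.snd (hcen (1, y)).eq).symm
    rw [htop, Subgroup.card_top] at hc
    have hP := CfsgLib.ClassicalLinear.card_PSL_two_of_odd hK ((by decide : Odd 3).pow)
    rw [hc] at hP
    obtain ⟨h27, -, -⟩ := ree_q_data (m := m) hm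
    have h8 : 8 ≤ (3 ^ (2 * m + 1)) ^ 2 - 1 := by
      have : 9 ≤ (3 ^ (2 * m + 1)) ^ 2 := by nlinarith
      omega
    nlinarith
  have hi : i = Multiplicative.ofAdd 1 := by
    rcases mulZModTwo_cases i with h | h
    · exfalso
      have : e.symm AC = 1 := by rw [← hx, h, hs]; rfl
      exact hA1 (congrArg Subtype.val (e.symm.map_eq_one_iff.1 this))
    · exact h
  rw [← hi, ← hs, hx]
  simp [AC]

/-- Centralisers in `C(f)` of elements of prime order at least five dividing `q + 1`. -/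
theorem centralizer_pair (hm : 1 ≤ m) {f y : ↥(twistedG2 K (3 ^ m))} (hf1 : f ≠ 1) (hf2 : f * f = 1)
    (hc : Commute y f) {ℓ : ℕ} (hℓ : ℓ.Prime) (h5 : 5 ≤ ℓ) (hd : ℓ ∣ 3 ^ (2 * m + 1) + 1)
    (hy : orderOf y = ℓ) :
    IsMulCommutative ↥(Subgroup.centralizer ({f} : Set ↥(twistedG2 K (3 ^ m))) ⊓ Subgroup.centralizer {y}) ∧
    Nat.card ↥(Subgroup.centralizer ({f} : Set ↥(twistedG2 K (3 ^ m))) ⊓ Subgroup.centralizer {y}) =
      3 ^ (2 * m + 1) + 1 := by
  obtain ⟨A, hA, hA1, hA2⟩ := exists_reeH_involution hK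
  obtain ⟨c, hcf⟩ := exists_conj_involution hK hm hA hA1 hA2 hf1 hf2
  obtain ⟨Ψ, hΨ, hrange, hΨA⟩ := exists_invHom hK hm hA hA1 hA2
  set y' := c * y * c⁻¹
  obtain ⟨⟨i, s⟩, hx⟩ := (hrange y').2 (by
    rw [← hcf]; exact (hc.map (MulAut.conj c).toMonoidHom).eq)
  have hpow : (i, s) ^ ℓ = 1 := by
    apply hΨ
    rw [map_pow, hx, map_one, conj_pow, ← hy, pow_orderOf_eq_one, mul_one, mul_inv_cancel]
  have hi : i = 1 := by
    rcases mulZModTwo_cases i with h | h
    · exact h
    exfalso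
    have h2 := congrArg Prod.fst hpow
    simp only [Prod.pow_fst, Prod.fst_one, h] at h2
    obtain ⟨k, hk⟩ := hℓ.odd_of_ne_two (by omega)
    rw [hk, pow_succ, pow_mul, pow_two, mulZModTwo_sq, one_pow, one_mul] at h2
    exact mulZModTwo_ne h2
  subst hi
  have hs : orderOf s = ℓ := by
    refine (orderOf_eq_prime_iff (hp := ⟨hℓ⟩)).2 ⟨congrArg Prod.snd hpow, fun e => ?_⟩
    subst e
    have h1 : y' = 1 := by rw [← hx]; exact map_one Ψ
    rw [conj_eq_one_iff.1 h1, orderOf_one] at hy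
    omega
  obtain ⟨-, hq8, -⟩ := ree_q_data (m := m) hm
  obtain ⟨hcomm, hcard⟩ := PSLTorus.centralizer_prime (three_eq_zero_ree hK) (natCard_ree hK)
    (by omega) hℓ h5 hd hs
  set D := Subgroup.centralizer ({f} : Set ↥(twistedG2 K (3 ^ m))) ⊓ Subgroup.centralizer {y}
  set χ := (MulAut.conj c⁻¹).toMonoidHom.comp Ψ
  have hD : D = ((⊤ : Subgroup C₂).prod (Subgroup.centralizer {s})).map χ := by
    ext g
    simp only [D, Subgroup.mem_inf, Subgroup.mem_centralizer_singleton_iff, Subgroup.mem_map,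
      Subgroup.mem_prod, Subgroup.mem_top, true_and]
    constructor
    · rintro ⟨hgf, hgy⟩
      obtain ⟨⟨j, u⟩, hju⟩ := (hrange (c * g * c⁻¹)).2 (by
        rw [← hcf]; exact ((show Commute g f from hgf).map (MulAut.conj c).toMonoidHom).eq)
      refine ⟨(j, u), ?_, ?_⟩
      · have h : Ψ (j, u) * Ψ (1, s) = Ψ (1, s) * Ψ (j, u) := by
          rw [hju, hx]; exact ((show Commute g y from hgy).map (MulAut.conj c).toMonoidHom).eq
        rw [← map_mul, ← map_mul] at h
        exact congrArg Prod.snd (hΨ h)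
      · show c⁻¹ * Ψ (j, u) * c⁻¹⁻¹ = g
        rw [hju]; group
    · rintro ⟨⟨j, u⟩, hu, rfl⟩
      have ef : f = χ (Multiplicative.ofAdd 1, 1) := by
        show f = c⁻¹ * Ψ _ * c⁻¹⁻¹
        rw [hΨA, ← hcf]; group
      have ey : y = χ (1, s) := by
        show y = c⁻¹ * Ψ _ * c⁻¹⁻¹
        rw [hx]; simp only [y']; group
      rw [ef, ey]
      simp only [← map_mul, Prod.mk_mul_mk, mul_one, one_mul, mul_comm j]
      exact ⟨trivial, congrArg _ (Prod.ext rfl hu)⟩
  have hχ : Function.Injective χ := (MulAut.conj c⁻¹).injective.comp hΨ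
  rw [hD]
  refine ⟨⟨⟨?_⟩⟩, ?_⟩
  · rintro ⟨_, a, ha, rfl⟩ ⟨_, b, hb, rfl⟩
    refine Subtype.ext ?_
    show χ a * χ b = χ b * χ a
    rw [← map_mul, ← map_mul]
    refine congrArg _ (Prod.ext (mul_comm _ _) ?_)
    exact congrArg Subtype.val (hcomm.is_comm.comm ⟨a.2, ha.2⟩ ⟨b.2, hb.2⟩)
  · rw [Subgroup.card_map_of_injective hχ, Nat.card_congr (Subgroup.prodEquiv _ _).toEquiv,
      Nat.card_prod, Subgroup.card_top, Nat.card_congr Multiplicative.toAdd, Nat.card_zmod, hcard]

/-- The data of a torus of order `q + 1`: `M`, its involutions `A, e, Ae` and a generator `o` of its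
odd part. -/
structure IsNonsplit (M : Subgroup ↥(twistedG2 K (3 ^ m))) (A e o : ↥(twistedG2 K (3 ^ m))) : Prop where
  comm : IsMulCommutative M
  card : Nat.card M = 3 ^ (2 * m + 1) + 1
  memA : A ∈ M
  meme : e ∈ M
  memo : o ∈ M
  A_ne : A ≠ 1
  e_ne : e ≠ 1
  Ae_ne : A * e ≠ 1
  A_sq : A * A = 1
  e_sq : e * e = 1
  order_o : 4 * orderOf o = 3 ^ (2 * m + 1) + 1
  invs : ∀ x ∈ M, x * x = 1 → x = 1 ∨ x = A ∨ x = e ∨ x = A * e
  odd_mem : ∀ x ∈ M, Odd (orderOf x) → x ∈ Subgroup.zpowers o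
  exp : ∀ x ∈ M, orderOf x ∣ (3 ^ (2 * m + 1) + 1) / 2
  gen : ∃ x ∈ M, 2 * orderOf x = 3 ^ (2 * m + 1) + 1
  card_cent : Nat.card ↥(Subgroup.centralizer ({A} : Set ↥(twistedG2 K (3 ^ m))) ⊓
    Subgroup.centralizer {e}) = 2 * (3 ^ (2 * m + 1) + 1)
  no_swap : ∀ g, g * A = A * g → g * e * g⁻¹ ≠ A * e

theorem exists_nonsplit (hm : 1 ≤ m) : ∃ (M : Subgroup ↥(twistedG2 K (3 ^ m)))
    (A e o : ↥(twistedG2 K (3 ^ m))), IsNonsplit M A e o := by
  classical
  obtain ⟨A, hA, hA1, hA2⟩ := exists_reeH_involution hK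
  obtain ⟨Ψ, hΨ, hrange, hΨA⟩ := exists_invHom hK hm hA hA1 hA2
  obtain ⟨h27, hq8, -⟩ := ree_q_data (m := m) hm
  have h3 := three_eq_zero_ree hK
  have hnq := natCard_ree hK
  obtain ⟨g, hg⟩ := PSLTorus.exists_torus h3 hnq (by omega)
  set k := (3 ^ (2 * m + 1) + 1) / 4 with hk
  have hgk : orderOf g = 2 * k := by omega
  have hkodd : Odd k := Nat.odd_iff.2 (by omega)
  have hg1 : g ^ k ≠ 1 := pow_ne_one_of_lt_orderOf (by omega) (by omega)
  have hg2 : g ^ k * g ^ k = 1 := by rw [← pow_add, ← two_mul, ← hgk, pow_orderOf_eq_one]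
  set j : C₂ := Multiplicative.ofAdd 1
  have hj : j ≠ 1 := mulZModTwo_ne
  set M0 := (⊤ : Subgroup C₂).prod (Subgroup.zpowers g)
  have hM0 : ∀ x, x ∈ M0 → ∃ (i : C₂) (n : ℕ), x = (i, g ^ n) := by
    rintro ⟨i, u⟩ ⟨-, hu⟩
    obtain ⟨n, -, rfl⟩ := Finset.mem_image.1 ((mem_zpowers_iff_mem_range_orderOf).1 hu)
    exact ⟨i, n, rfl⟩
  have hjcases : ∀ i : C₂, i = 1 ∨ i = j := mulZModTwo_cases
  refine ⟨M0.map Ψ, A, Ψ (1, g ^ k), Ψ (1, g ^ 2), ?_⟩
  have hord : ∀ u : PK, orderOf (Ψ (1, u)) = orderOf u := fun u => by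
    rw [orderOf_injective Ψ hΨ, Prod.orderOf, orderOf_one, Nat.lcm_one_left]
  refine
    { comm := ⟨⟨fun x y => ?_⟩⟩
      card := ?_
      memA := ⟨(j, 1), ⟨Subgroup.mem_top _, one_mem _⟩, hΨA⟩
      meme := ⟨_, ⟨Subgroup.mem_top _, pow_mem (Subgroup.mem_zpowers g) _⟩, rfl⟩
      memo := ⟨_, ⟨Subgroup.mem_top _, pow_mem (Subgroup.mem_zpowers g) _⟩, rfl⟩
      A_ne := hA1
      e_ne := fun h => hg1 (congrArg Prod.snd (hΨ (h.trans (map_one Ψ).symm)))
      Ae_ne := ?_
      A_sq := hA2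
      e_sq := by rw [← map_mul, Prod.mk_mul_mk, one_mul, hg2]; exact map_one Ψ
      order_o := ?_
      invs := ?_
      odd_mem := ?_
      exp := ?_
      gen := ⟨Ψ (1, g), ⟨(1, g), ⟨Subgroup.mem_top _, Subgroup.mem_zpowers g⟩, rfl⟩, by rw [hord]; omega⟩
      card_cent := ?_
      no_swap := ?_ }
  · obtain ⟨x, a, ha, rfl⟩ := x
    obtain ⟨y, b, hb, rfl⟩ := y
    obtain ⟨i, n, rfl⟩ := hM0 a ha
    obtain ⟨i', n', rfl⟩ := hM0 b hb
    refine Subtype.ext ?_
    show Ψ _ * Ψ _ = Ψ _ * Ψ _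
    rw [← map_mul, ← map_mul, Prod.mk_mul_mk, Prod.mk_mul_mk, mul_comm i, ← pow_add, ← pow_add, add_comm n]
  · rw [Subgroup.card_map_of_injective hΨ, Nat.card_congr (Subgroup.prodEquiv _ _).toEquiv,
      Nat.card_prod, Subgroup.card_top, Nat.card_congr Multiplicative.toAdd, Nat.card_zmod,
      Nat.card_zpowers, hgk]
    omega
  · rw [← hΨA, ← map_mul, Prod.mk_mul_mk, one_mul, mul_one]
    exact fun h => hj (congrArg Prod.fst (hΨ (h.trans (map_one Ψ).symm)))
  · rw [hord, orderOf_pow' g two_ne_zero, hgk, Nat.gcd_eq_right (dvd_mul_right 2 k),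
      Nat.mul_div_cancel_left k two_pos]
    omega
  · rintro _ ⟨a, ha, rfl⟩ h2
    obtain ⟨i, n, rfl⟩ := hM0 a ha
    rw [← map_mul, ← map_one Ψ] at h2
    have h := congrArg Prod.snd (hΨ h2)
    simp only [Prod.mk_mul_mk, ← pow_add, Prod.snd_one] at h
    have hd : k ∣ n := by
      have := orderOf_dvd_of_pow_eq_one h
      rw [hgk, ← two_mul] at this
      exact Nat.dvd_of_mul_dvd_mul_left two_pos this
    obtain ⟨t, rfl⟩ := hd
    rcases Nat.even_or_odd t with ⟨s, rfl⟩ | ⟨s, rfl⟩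
    · have hz : g ^ (k * (s + s)) = 1 := by
        rw [show k * (s + s) = orderOf g * s by rw [hgk]; ring, pow_mul, pow_orderOf_eq_one, one_pow]
      rcases hjcases i with rfl | rfl
      · left; rw [hz]; exact map_one Ψ
      · right; left; rw [hz, hΨA]
    · have hz : g ^ (k * (2 * s + 1)) = g ^ k := by
        rw [show k * (2 * s + 1) = orderOf g * s + k by rw [hgk]; ring, pow_add, pow_mul,
          pow_orderOf_eq_one, one_pow, one_mul]
      rcases hjcases i with rfl | rfl
      · right; right; left; rw [hz]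
      · right; right; right
        rw [hz, ← hΨA, ← map_mul, Prod.mk_mul_mk, one_mul, mul_one]
  · rintro _ ⟨a, ha, rfl⟩ hodd
    obtain ⟨i, n, rfl⟩ := hM0 a ha
    rw [orderOf_injective Ψ hΨ, Prod.orderOf] at hodd
    have hi : i = 1 := by
      rcases hjcases i with rfl | rfl
      · rfl
      exfalso
      have h2 : orderOf j = 2 := orderOf_eq_prime (by rw [pow_two]; exact mulZModTwo_sq j) hj
      rw [h2] at hodd
      exact Nat.not_even_iff_odd.2 hodd (even_iff_two_dvd.2 (Nat.dvd_lcm_left _ _))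
    subst hi
    rw [orderOf_one, Nat.lcm_one_left] at hodd
    -- an odd-order power of `g` is a power of `g ^ 2`
    obtain ⟨l, hl⟩ := exists_pow_eq_self_of_coprime (x := g ^ n) (n := 2)
      (Nat.coprime_two_left.2 hodd)
    refine Subgroup.mem_zpowers_iff.2 ⟨((n * l : ℕ) : ℤ), ?_⟩
    rw [zpow_natCast, ← map_pow, Prod.pow_mk, one_pow]
    refine congrArg Ψ (Prod.ext rfl ?_)
    show (g ^ 2) ^ (n * l) = g ^ n
    conv_rhs => rw [← hl]
    rw [← pow_mul, ← pow_mul, ← pow_mul]
    congr 1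
    ring
  · rintro _ ⟨a, ha, rfl⟩
    obtain ⟨i, n, rfl⟩ := hM0 a ha
    rw [orderOf_injective Ψ hΨ, Prod.orderOf, show (3 ^ (2 * m + 1) + 1) / 2 = 2 * k by omega]
    refine Nat.lcm_dvd ((orderOf_dvd_of_pow_eq_one (n := 2) ?_).trans (dvd_mul_right 2 k)) ?_
    · rw [pow_two]; exact mulZModTwo_sq i
    · rw [← hgk]; exact orderOf_pow_dvd n
  · have hset : Subgroup.centralizer ({A} : Set ↥(twistedG2 K (3 ^ m))) ⊓
        Subgroup.centralizer {Ψ (1, g ^ k)} =
        ((⊤ : Subgroup C₂).prod (Subgroup.centralizer {g ^ k})).map Ψ := by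
      ext x
      simp only [Subgroup.mem_inf, Subgroup.mem_centralizer_singleton_iff, Subgroup.mem_map,
        Subgroup.mem_prod, Subgroup.mem_top, true_and]
      constructor
      · rintro ⟨hxA, hxe⟩
        obtain ⟨⟨i, u⟩, rfl⟩ := (hrange x).2 hxA
        rw [← map_mul, ← map_mul] at hxe
        exact ⟨(i, u), congrArg Prod.snd (hΨ hxe), rfl⟩
      · rintro ⟨⟨i, u⟩, hu, rfl⟩
        refine ⟨(hrange _).1 ⟨_, rfl⟩, ?_⟩
        rw [← map_mul, ← map_mul, Prod.mk_mul_mk, Prod.mk_mul_mk, hu, mul_comm i]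
    rw [hset, Subgroup.card_map_of_injective hΨ, Nat.card_congr (Subgroup.prodEquiv _ _).toEquiv,
      Nat.card_prod, Subgroup.card_top, Nat.card_congr Multiplicative.toAdd, Nat.card_zmod,
      PSLTorus.card_centralizer_involution h3 hnq (by omega) hg1 hg2]
  · intro x hx h
    obtain ⟨⟨i, u⟩, rfl⟩ := (hrange x).2 hx
    rw [← hΨA, ← map_mul, ← map_mul, ← map_inv, ← map_mul] at h
    have h1 := congrArg Prod.fst (hΨ h)
    simp only [Prod.fst_mul, Prod.fst_inv, mul_one] at h1
    rw [mul_inv_cancel] at h1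
    exact hj h1.symm

variable {M : Subgroup ↥(twistedG2 K (3 ^ m))} {A e o : ↥(twistedG2 K (3 ^ m))}
variable (hN : IsNonsplit M A e o) (hm : 1 ≤ m)
include hN hm

theorem nonsplit_commute {x y : ↥(twistedG2 K (3 ^ m))} (hx : x ∈ M) (hy : y ∈ M) : x * y = y * x :=
  congrArg Subtype.val (hN.comm.is_comm.comm ⟨x, hx⟩ ⟨y, hy⟩)

theorem nonsplit_orderOf_o : orderOf o = (3 ^ (2 * m + 1) + 1) / 4 ∧ Odd (orderOf o) ∧
    ¬ 3 ∣ orderOf o ∧ 7 ≤ orderOf o := by
  obtain ⟨h27, hq8, hq3⟩ := ree_q_data (m := m) hm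
  have := hN.order_o
  refine ⟨by omega, Nat.odd_iff.2 (by omega), by omega, by omega⟩

theorem card_invSubgroup : Nat.card (invSubgroup M hN.comm) = 4 := by
  classical
  set E := invSubgroup M hN.comm
  have hAe1 : A * e * (A * e) = 1 := by
    rw [mul_assoc, ← mul_assoc e, nonsplit_commute hK hN hm hN.meme hN.memA, mul_assoc A e e, hN.e_sq,
      mul_one, hN.A_sq]
  have hAne : e ≠ A := fun h => hN.Ae_ne (by rw [h, hN.A_sq])
  have hset : ∀ x, x ∈ E ↔ x ∈ ({1, A, e, A * e} : Finset ↥(twistedG2 K (3 ^ m))) := by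
    intro x
    simp only [Finset.mem_insert, Finset.mem_singleton]
    refine ⟨fun h => hN.invs x h.1 h.2, ?_⟩
    rintro (h | h | h | h) <;> rw [h]
    · exact one_mem E
    · exact ⟨hN.memA, hN.A_sq⟩
    · exact ⟨hN.meme, hN.e_sq⟩
    · exact ⟨mul_mem hN.memA hN.meme, hAe1⟩
  rw [Nat.card_congr (Equiv.subtypeEquivRight hset), Nat.card_eq_fintype_card, Fintype.card_coe]
  have h1 : A ≠ A * e := fun h => hN.e_ne (mul_left_cancel (a := A) (by rw [mul_one]; exact h.symm))
  have h2 : e ≠ A * e := fun h => hN.A_ne (mul_right_cancel (b := e) (by rw [one_mul]; exact h.symm))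
  rw [Finset.card_insert_of_notMem (by simp [hN.A_ne.symm, hN.e_ne.symm, hN.Ae_ne.symm]),
    Finset.card_insert_of_notMem (by simp [hAne.symm, h1]),
    Finset.card_insert_of_notMem (by simp [h2]), Finset.card_singleton]

set_option maxHeartbeats 1600000 in
/-- Elements of prime order of the odd part have centraliser `M`. -/
theorem centralizer_eq_nonsplit {y : ↥(twistedG2 K (3 ^ m))} (hy : y ∈ M) {ℓ : ℕ} (hℓ : ℓ.Prime)
    (hℓ2 : ℓ ≠ 2) (hoy : orderOf y = ℓ) : Subgroup.centralizer {y} = M := by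
  classical
  have : Fact (Nat.Prime 2) := ⟨Nat.prime_two⟩
  have : Fact (Nat.Prime 3) := ⟨Nat.prime_three⟩
  obtain ⟨h27, hq8, hq3⟩ := ree_q_data (m := m) hm
  obtain ⟨ho, hoodd, ho3, ho7⟩ := nonsplit_orderOf_o hK hN hm
  have hdvd : ℓ ∣ orderOf o := by
    rw [← hoy, ← Nat.card_zpowers o]
    exact Subgroup.orderOf_dvd_natCard _ (hN.odd_mem y hy (hoy ▸ hℓ.odd_of_ne_two hℓ2))
  have hℓq : ℓ ∣ 3 ^ (2 * m + 1) + 1 := by rw [← hN.order_o]; exact dvd_mul_of_dvd_right hdvd 4
  have hℓ5 : 5 ≤ ℓ := by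
    by_contra h
    have := hℓ.two_le
    interval_cases ℓ
    · omega
    · exact ho3 hdvd
    · norm_num at hℓ
  set D := Subgroup.centralizer ({y} : Set ↥(twistedG2 K (3 ^ m))) with hD
  have hMD : M ≤ D := fun x hx => Subgroup.mem_centralizer_singleton_iff.2 (nonsplit_commute hK hN hm hx hy)
  -- the three involutions
  have hCf : ∀ f ∈ M, f ≠ 1 → f * f = 1 → Subgroup.centralizer {f} ⊓ D = M := by
    intro f hf hf1 hf2
    obtain ⟨-, hcard⟩ := centralizer_pair hK hm hf1 hf2
      (nonsplit_commute hK hN hm hy hf : Commute y f) hℓ hℓ5 hℓq hoy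
    refine (Subgroup.eq_of_le_of_card_ge (show M ≤ Subgroup.centralizer {f} ⊓ D from
      fun x hx => Subgroup.mem_inf.2 ⟨?_, hMD hx⟩) (le_of_eq (hcard.trans hN.card.symm))).symm
    exact Subgroup.mem_centralizer_singleton_iff.2 (nonsplit_commute hK hN hm hx hf)
  have hAe1 : A * e * (A * e) = 1 := by
    rw [mul_assoc, ← mul_assoc e, nonsplit_commute hK hN hm hN.meme hN.memA, mul_assoc A e e, hN.e_sq,
      mul_one, hN.A_sq]
  have hAne : e ≠ A := fun h => hN.Ae_ne (by rw [h, hN.A_sq])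
  have hC : ∀ g, g ∈ D → g * A = A * g → g ∈ M := fun g hg h =>
    (hCf A hN.memA hN.A_ne hN.A_sq).le ⟨Subgroup.mem_centralizer_singleton_iff.2 h, hg⟩
  -- no element of order three
  have h3D : ∀ z ∈ D, orderOf z ≠ 3 := by
    intro z hz hoz
    have hzy : Commute z y := Subgroup.mem_centralizer_singleton_iff.1 hz
    have h6 : 3 ∣ orderOf (z * y) := by
      rw [hzy.orderOf_mul_eq_mul_orderOf_of_coprime (by
        rw [hoz, hoy]; exact (Nat.coprime_primes Nat.prime_three hℓ).2 (by omega)), hoz]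
      exact dvd_mul_right _ _
    have hord : orderOf (z * y) = 3 * ℓ := by
      rw [hzy.orderOf_mul_eq_mul_orderOf_of_coprime (by
        rw [hoz, hoy]; exact (Nat.coprime_primes Nat.prime_three hℓ).2 (by omega)), hoz, hoy]
    rcases orderOf_of_three_dvd hK hm h6 with ⟨k, hk⟩ | hk <;> rw [hord] at hk
    · have : ℓ ∣ 3 ^ k := hk ▸ dvd_mul_left _ _
      have := (Nat.prime_dvd_prime_iff_eq hℓ Nat.prime_three).1 (hℓ.dvd_of_dvd_pow this)
      omega
    · omega
  -- the four-group
  set E := invSubgroup M hN.comm with hEdef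
  have hEcard : Nat.card E = 4 := card_invSubgroup hK hN hm
  have hED : E ≤ D := fun x hx => hMD hx.1
  -- two-elements of `D` normalising `E` centralise it
  have htwo : ∀ T : Subgroup ↥(twistedG2 K (3 ^ m)), IsPGroup 2 T → T ≤ D → E ≤ T → T ≤ E := by
    intro T hT hTD hET x hx
    obtain ⟨S, hS⟩ := hT.exists_le_sylow
    obtain ⟨-, hsq, hcen⟩ := ree_sylow_two' hK S
    have hxA : x * A = A * x :=
      (Subgroup.mem_centralizer_iff.1 (hcen.ge (hS hx)) A (hS (hET ⟨hN.memA, hN.A_sq⟩))).symm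
    exact ⟨hC x (hTD hx) hxA, hsq x (hS hx)⟩
  have hidx : ¬ 2 ∣ (E.subgroupOf D).index := by
    intro h2
    obtain ⟨S, hS⟩ := (IsPGroup.of_card (p := 2) (n := 2)
      (by rw [Nat.card_congr (Subgroup.subgroupOfEquivOfLe hED).toEquiv, hEcard]; norm_num) :
        IsPGroup 2 (E.subgroupOf D)).exists_le_sylow
    have hle : E ≤ (S : Subgroup D).map D.subtype := fun x hx =>
      ⟨⟨x, hED hx⟩, hS (Subgroup.mem_subgroupOf.2 hx), rfl⟩
    have h := htwo _ (S.isPGroup'.map D.subtype) (Subgroup.map_subtype_le _) hle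
    have hcS : Nat.card (S : Subgroup D) ∣ 4 := by
      rw [← hEcard, ← Subgroup.card_map_of_injective D.subtype_injective]
      exact Subgroup.card_dvd_of_le h
    have hS4 : (S : Subgroup D) = E.subgroupOf D := (Subgroup.eq_of_le_of_card_ge hS (by
      rw [Nat.card_congr (Subgroup.subgroupOfEquivOfLe hED).toEquiv, hEcard]
      exact Nat.le_of_dvd (by norm_num) hcS)).symm
    exact S.not_dvd_index (hS4 ▸ h2)
  set P : Sylow 2 D := Sylow.ofCard (E.subgroupOf D) (by
    rw [← (E.subgroupOf D).card_mul_index, Nat.factorization_mul Nat.card_pos.ne'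
      Subgroup.index_ne_zero_of_finite, Finsupp.add_apply, Nat.factorization_eq_zero_of_not_dvd hidx,
      add_zero, Nat.card_congr (Subgroup.subgroupOfEquivOfLe hED).toEquiv, hEcard,
      show (4 : ℕ) = 2 ^ 2 by norm_num, Nat.Prime.factorization_pow Nat.prime_two, Finsupp.single_eq_same]) with hP
  have hPN : Subgroup.normalizer ((P : Subgroup D) : Set D) ≤
      Subgroup.centralizer ((P : Subgroup D) : Set D) := by
    intro n hn
    set g : ↥(twistedG2 K (3 ^ m)) := (n : ↥(twistedG2 K (3 ^ m)))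
    have hgD : g ∈ D := n.2
    have hnE : ∀ x ∈ E, g * x * g⁻¹ ∈ E := by
      intro x hx
      exact Subgroup.mem_subgroupOf.1 ((Subgroup.mem_normalizer_iff.1 hn ⟨x, hED hx⟩).1
        (Subgroup.mem_subgroupOf.2 hx))
    -- powers
    have hpE : ∀ (i : ℕ) {x}, x ∈ E → g ^ i * x * (g ^ i)⁻¹ ∈ E := by
      intro i
      induction i with
      | zero => intro x hx; simpa using hx
      | succ i ih =>
        intro x hx
        have := hnE _ (ih hx)
        rw [pow_succ', mul_inv_rev]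
        simpa [mul_assoc] using this
    have hgM : g ∈ M := by
      refine hC g hgD ?_
      by_contra hA
      set f := g * A * g⁻¹ with hfdef
      have hfA : f ≠ A := fun h => hA (mul_inv_eq_iff_eq_mul.1 h)
      -- an element of `D` of two-power order normalising `E` fixes `A`
      have h2el : ∀ i : ℕ, (∃ a, (g ^ i) ^ 2 ^ a = 1) → g ^ i * A = A * g ^ i := by
        rintro i ⟨a, ha⟩
        set Z := Subgroup.zpowers (g ^ i) ⊔ E
        have hZ : IsPGroup 2 Z := by
          refine IsPGroup.to_sup_of_normal_right' ?_ (IsPGroup.of_card (n := 2) (by rw [hEcard]; norm_num)) ?_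
          · rintro ⟨z, hz⟩
            obtain ⟨j, rfl⟩ := Subgroup.mem_zpowers_iff.1 hz
            exact ⟨a, Subtype.ext (by
              show ((g ^ i) ^ j) ^ 2 ^ a = 1
              rw [← zpow_natCast, ← zpow_mul, mul_comm, zpow_mul, zpow_natCast, ha, one_zpow])⟩
          · rw [Subgroup.zpowers_le]
            refine Subgroup.mem_normalizer_iff.2 fun x => ⟨fun hx => hpE i hx, fun hx => ?_⟩
            let φ : E → E := fun x => ⟨g ^ i * x * (g ^ i)⁻¹, hpE i x.2⟩
            have hφ : Function.Injective φ := fun a b h =>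
              Subtype.ext (mul_left_cancel (mul_right_cancel (congrArg Subtype.val h)))
            obtain ⟨x', hx'⟩ := Finite.surjective_of_injective hφ ⟨_, hx⟩
            have := congrArg Subtype.val hx'
            rw [← mul_left_cancel (mul_right_cancel this)]
            exact x'.2
        have hZD : Z ≤ D := sup_le (Subgroup.zpowers_le.2 (pow_mem hgD i)) hED
        have hmem := htwo Z hZ hZD le_sup_right
          (Subgroup.mem_sup_left (Subgroup.mem_zpowers (g ^ i)))
        exact nonsplit_commute hK hN hm hmem.1 hN.memA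
      have hodd3 : ¬ 3 ∣ orderOf g := by
        intro h
        exact h3D (g ^ (orderOf g / 3)) (pow_mem hgD _) (orderOf_pow_orderOf_div (orderOf_pos g).ne' h)
      obtain ⟨a, b, hb, hab⟩ := Nat.exists_eq_pow_mul_and_not_dvd (orderOf_pos g).ne' 2 (by norm_num)
      have hgb := h2el b ⟨a, by rw [← pow_mul, mul_comm, ← hab, pow_orderOf_eq_one]⟩
      -- the period of `A` under `g` divides `6`
      have hfE : f ∈ E := hnE A ⟨hN.memA, hN.A_sq⟩
      set f2 := g * f * g⁻¹
      have hf2E : f2 ∈ E := hnE f hfE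
      have hne1 : ∀ z : ↥(twistedG2 K (3 ^ m)), z ≠ 1 → g * z * g⁻¹ ≠ 1 := fun z hz h => hz (conj_eq_one_iff.1 h)
      have hinj : ∀ {z w : ↥(twistedG2 K (3 ^ m))}, g * z * g⁻¹ = g * w * g⁻¹ → z = w :=
        fun h => mul_left_cancel (mul_right_cancel h)
      have hcases : ∀ x ∈ E, x ≠ 1 → x ≠ A → x ≠ f → ∀ y ∈ E, y ≠ 1 → y ≠ A → y ≠ f → y = x := by
        intro x hx hx1 hxA hxf y hy hy1 hyA hyf
        rcases hN.invs x hx.1 hx.2 with h | h | h | h <;>
          rcases hN.invs y hy.1 hy.2 with h' | h' | h' | h' <;>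
          first
            | exact absurd h hx1
            | exact absurd h hxA
            | exact absurd h' hy1
            | exact absurd h' hyA
            | exact h'.trans h.symm
            | (rcases hN.invs f hfE.1 hfE.2 with hf | hf | hf | hf
               · exact absurd hf (hne1 A hN.A_ne)
               · exact absurd hf hfA
               · first
                   | exact absurd (h.trans hf.symm) hxf
                   | exact absurd (h'.trans hf.symm) hyf
               · first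
                   | exact absurd (h.trans hf.symm) hxf
                   | exact absurd (h'.trans hf.symm) hyf)
      have hfix2or3 : g ^ 2 * A * (g ^ 2)⁻¹ = A ∨ g ^ 3 * A * (g ^ 3)⁻¹ = A := by
        have e2 : g ^ 2 * A * (g ^ 2)⁻¹ = f2 := by simp only [f2, f, pow_two]; group
        by_cases h : f2 = A
        · exact Or.inl (e2.trans h)
        refine Or.inr ?_
        have e3 : g ^ 3 * A * (g ^ 3)⁻¹ = g * f2 * g⁻¹ := by rw [← e2]; group
        rw [e3]
        by_contra h'
        have hf21 : f2 ≠ 1 := hne1 _ (hne1 A hN.A_ne)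
        have hf2f : f2 ≠ f := fun h'' => hfA (hinj h'')
        refine absurd (hcases f2 hf2E hf21 h hf2f _ (hnE _ hf2E) (hne1 _ hf21) h' ?_) ?_
        · exact fun h'' => h (hinj h'')
        · exact fun h'' => hf2f (hinj h'')
      have hst : ∀ i : ℕ, g ^ i * A * (g ^ i)⁻¹ = A → ∀ l : ℕ, g ^ (i * l) * A * (g ^ (i * l))⁻¹ = A := by
        intro i hi l
        rw [pow_mul]
        have := (show Commute (g ^ i) A from mul_inv_eq_iff_eq_mul.1 hi).pow_left l
        rw [this.eq, mul_inv_cancel_right]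
      have h6 : g ^ 6 * A * (g ^ 6)⁻¹ = A := by
        rcases hfix2or3 with h | h
        · exact hst 2 h 3
        · exact hst 3 h 2
      have hgb' : g ^ b * A * (g ^ b)⁻¹ = A := by rw [hgb, mul_inv_cancel_right]
      have h3b : ¬ 3 ∣ b := fun h => hodd3 (hab ▸ dvd_mul_of_dvd_right h _)
      -- `gcd (b, 6) = 1`
      have hcop : Nat.Coprime b 6 := by
        rw [show (6 : ℕ) = 2 * 3 by norm_num]
        exact Nat.Coprime.mul_right (Nat.coprime_comm.1 ((Nat.prime_two.coprime_iff_not_dvd).2 hb))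
          (Nat.coprime_comm.1 ((Nat.prime_three.coprime_iff_not_dvd).2 h3b))
      obtain ⟨u, hu⟩ := Nat.exists_mul_mod_eq_one_of_coprime hcop (by norm_num)
      have hdec : b * u = 6 * (b * u / 6) + 1 := by
        have := Nat.div_add_mod (b * u) 6; omega
      refine hfA ?_
      have h1 := hst b hgb' u
      rw [hdec, pow_succ, mul_inv_rev] at h1
      have h6' := hst 6 h6 (b * u / 6)
      set G6 := g ^ (6 * (b * u / 6))
      have : G6 * f * G6⁻¹ = G6 * A * G6⁻¹ := by
        rw [h6', ← h1]; simp only [f]; group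
      exact mul_left_cancel (mul_right_cancel this)
    refine Subgroup.mem_centralizer_iff.2 fun x hx => ?_
    exact Subtype.ext (nonsplit_commute hK hN hm (Subgroup.mem_subgroupOf.1 hx).1 hgM)
  obtain ⟨N0, hN0, hcompl⟩ : ∃ N0 : Subgroup D, N0.Normal ∧ Subgroup.IsComplement' N0 (P : Subgroup D) :=
    ⟨_, MonoidHom.normal_ker _, MonoidHom.ker_transferSylow_isComplement' P hPN⟩
  set X := N0.map D.subtype
  set k := orderOf o with hk'
  have hXcard : Nat.card X * 4 = Nat.card D := by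
    have h := hcompl.card_mul
    rw [show Nat.card (P : Subgroup D) = 4 by
      rw [hP]; show Nat.card (E.subgroupOf D) = 4
      rw [Nat.card_congr (Subgroup.subgroupOfEquivOfLe hED).toEquiv, hEcard]] at h
    rw [Subgroup.card_map_of_injective D.subtype_injective]
    exact h
  have hXD : X ≤ D := Subgroup.map_subtype_le _
  have hXodd : Odd (Nat.card X) := by
    rw [Nat.odd_iff]
    by_contra h
    have h2 : 2 ∣ Nat.card X := by omega
    refine hidx ?_
    have := (E.subgroupOf D).card_mul_index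
    rw [Nat.card_congr (Subgroup.subgroupOfEquivOfLe hED).toEquiv, hEcard, ← hXcard, mul_comm 4] at this
    rw [Nat.eq_of_mul_eq_mul_right (by norm_num) this]
    exact h2
  have hnorm : ∀ d ∈ D, ∀ x ∈ X, d * x * d⁻¹ ∈ X := by
    rintro d hd _ ⟨x, hx, rfl⟩
    exact ⟨⟨d, hd⟩ * x * ⟨d, hd⟩⁻¹, hN0.conj_mem x hx _, rfl⟩
  -- `X` meets `M` in a group of order `k`
  have hXM : Nat.card ↥(X ⊓ M) = k := by
    have h1 : Nat.card ↥(X ⊓ M) ∣ k := by
      have hodd : Odd (Nat.card ↥(X ⊓ M)) := hXodd.of_dvd_nat (Subgroup.card_dvd_of_le inf_le_left)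
      have hd : Nat.card ↥(X ⊓ M) ∣ 4 * k := by
        rw [hk', hN.order_o, ← hN.card]; exact Subgroup.card_dvd_of_le inf_le_right
      exact (Nat.Coprime.dvd_of_dvd_mul_left (by
        rw [show (4 : ℕ) = 2 ^ 2 by norm_num]
        exact (Nat.coprime_two_left.2 hodd).symm.pow_right 2) hd)
    refine Nat.dvd_antisymm h1 ?_
    rw [hk', ← Nat.card_zpowers]
    refine Subgroup.card_dvd_of_le (Subgroup.zpowers_le.2 ⟨?_, hN.memo⟩)
    -- the quotient by `X` has order four
    have hoD : o ∈ D := hMD hN.memo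
    obtain ⟨l, hl⟩ := exists_pow_eq_self_of_coprime (x := o) (n := 4) (by
      rw [show (4 : ℕ) = 2 ^ 2 by norm_num]
      exact (Nat.coprime_two_left.2 hoodd).pow_left 2)
    have hidx4 : N0.index = 4 := by
      rw [hcompl.symm.index_eq_card]
      rw [hP]; show Nat.card (E.subgroupOf D) = 4
      rw [Nat.card_congr (Subgroup.subgroupOfEquivOfLe hED).toEquiv, hEcard]
    have hmem := Subgroup.pow_index_mem N0 ⟨o, hoD⟩
    rw [hidx4] at hmem
    exact hl ▸ pow_mem (show o ^ 4 ∈ X from ⟨_, hmem, rfl⟩) l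
  have hXC : ∀ f ∈ M, f ≠ 1 → f * f = 1 → X ⊓ Subgroup.centralizer {f} = X ⊓ M := by
    intro f hf hf1 hf2
    refine le_antisymm (fun x hx => ⟨hx.1, (hCf f hf hf1 hf2).le ⟨hx.2, hXD hx.1⟩⟩)
      (fun x hx => ⟨hx.1, ?_⟩)
    exact Subgroup.mem_centralizer_singleton_iff.2 (nonsplit_commute hK hN hm hx.2 hf)
  have hform := CfsgLib.FourTransitive.card_mul_sq_eq hXodd hN.A_sq hN.e_sq
    (nonsplit_commute hK hN hm hN.memA hN.meme) (hnorm A (hMD hN.memA)) (hnorm e (hMD hN.meme))
  have hXAe : X ⊓ Subgroup.centralizer {A} ⊓ Subgroup.centralizer {e} = X ⊓ M := by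
    rw [hXC A hN.memA hN.A_ne hN.A_sq]
    refine le_antisymm inf_le_left (fun x hx => ⟨hx, ?_⟩)
    exact Subgroup.mem_centralizer_singleton_iff.2 (nonsplit_commute hK hN hm hx.2 hN.meme)
  rw [hXAe, hXC A hN.memA hN.A_ne hN.A_sq, hXC e hN.meme hN.e_ne hN.e_sq,
    hXC _ (mul_mem hN.memA hN.meme) hN.Ae_ne hAe1, hXM] at hform
  have hX : Nat.card X = k := by
    rw [pow_two] at hform
    exact Nat.eq_of_mul_eq_mul_right (by have := ho7; positivity) (hform.trans (mul_assoc k k k))
  exact (Subgroup.eq_of_le_of_card_ge hMD (by rw [← hXcard, hX, hN.card, ← hN.order_o]; omega)).symm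

/-- Elements of `M` other than those of order at most two have centraliser `M`. -/
theorem centralizer_eq_nonsplit_of_sq_ne {g : ↥(twistedG2 K (3 ^ m))} (hg : g ∈ M) (hg2 : g * g ≠ 1) :
    Subgroup.centralizer {g} = M := by
  obtain ⟨ho, hoodd, ho3, ho7⟩ := nonsplit_orderOf_o hK hN hm
  obtain ⟨h27, hq8, hq3⟩ := ree_q_data (m := m) hm
  obtain ⟨ℓ, hℓ, hℓ2, hd⟩ : ∃ ℓ, ℓ.Prime ∧ ℓ ≠ 2 ∧ ℓ ∣ orderOf g := by
    by_contra hcon
    simp only [not_exists, not_and] at hcon
    obtain ⟨a, r, hr, har⟩ := Nat.exists_eq_pow_mul_and_not_dvd (orderOf_pos g).ne' 2 (by norm_num)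
    have hr1 : r = 1 := by
      by_contra h
      obtain ⟨ℓ, hℓ, hd⟩ := Nat.exists_prime_and_dvd h
      exact hcon ℓ hℓ (fun e => hr (e ▸ hd)) (har ▸ dvd_mul_of_dvd_right hd _)
    have hexp := hN.exp g hg
    rw [har, hr1, mul_one] at hexp
    have ha : a ≤ 1 := by
      by_contra ha
      have h4 : 4 ∣ (3 ^ (2 * m + 1) + 1) / 2 :=
        (show 4 ∣ 2 ^ a from ⟨2 ^ (a - 2), by rw [show (4 : ℕ) = 2 ^ 2 by norm_num, ← pow_add]; congr 1; omega⟩).trans hexp
      omega
    refine hg2 ?_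
    rw [← pow_two]
    apply orderOf_dvd_iff_pow_eq_one.1
    rw [har, hr1, mul_one]
    exact (pow_dvd_pow 2 ha).trans (by norm_num)
  have hy : g ^ (orderOf g / ℓ) ∈ M := pow_mem hg _
  have h := centralizer_eq_nonsplit hK hN hm hy hℓ hℓ2 (orderOf_pow_orderOf_div (orderOf_pos g).ne' hd)
  refine le_antisymm (fun x hx => h.le ?_) (fun x hx =>
    Subgroup.mem_centralizer_singleton_iff.2 (nonsplit_commute hK hN hm hx hg))
  exact Subgroup.mem_centralizer_singleton_iff.2
    ((show Commute x g from Subgroup.mem_centralizer_singleton_iff.1 hx).pow_right _).eq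

set_option maxHeartbeats 1600000 in
/-- The normaliser of a torus of order `q + 1`. -/
theorem card_normalizer_nonsplit :
    Nat.card (Subgroup.normalizer (M : Set ↥(twistedG2 K (3 ^ m)))) = 6 * (3 ^ (2 * m + 1) + 1) := by
  classical
  have : Fact (Nat.Prime 2) := ⟨Nat.prime_two⟩
  have : Fact (Nat.Prime 3) := ⟨Nat.prime_three⟩
  have : Fact (Nat.Prime 7) := ⟨by norm_num⟩
  obtain ⟨h27, hq8, hq3⟩ := ree_q_data (m := m) hm
  obtain ⟨ho, hoodd, ho3, ho7⟩ := nonsplit_orderOf_o hK hN hm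
  set E := invSubgroup M hN.comm with hEdef
  have hEcard : Nat.card E = 4 := card_invSubgroup hK hN hm
  set C' := Subgroup.centralizer ({A} : Set ↥(twistedG2 K (3 ^ m))) ⊓ Subgroup.centralizer {e} with hC'
  have hMC : M ≤ C' := fun x hx =>
    ⟨Subgroup.mem_centralizer_singleton_iff.2 (nonsplit_commute hK hN hm hx hN.memA),
      Subgroup.mem_centralizer_singleton_iff.2 (nonsplit_commute hK hN hm hx hN.meme)⟩
  have hidx2 : (M.subgroupOf C').index = 2 := by
    have h := (M.subgroupOf C').card_mul_index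
    rw [Nat.card_congr (Subgroup.subgroupOfEquivOfLe hMC).toEquiv, hN.card, hN.card_cent] at h
    exact Nat.eq_of_mul_eq_mul_left (Nat.succ_pos _) (h.trans (mul_comm _ _))
  have hMnorm : (M.subgroupOf C').Normal := Subgroup.normal_of_index_eq_two hidx2
  have hC'N : C' ≤ Subgroup.normalizer (M : Set ↥(twistedG2 K (3 ^ m))) :=
    (Subgroup.normal_subgroupOf_iff_le_normalizer hMC).1 hMnorm
  have hinv_cases : ∀ x ∈ E, x ≠ 1 → x = A ∨ x = e ∨ x = A * e := fun x hx hx1 =>
    (hN.invs x hx.1 hx.2).resolve_left hx1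
  -- a Sylow 2-subgroup through the involutions
  have hEp : IsPGroup 2 E := IsPGroup.of_card (n := 2) (by rw [hEcard]; norm_num)
  obtain ⟨S, hS⟩ := hEp.exists_le_sylow
  obtain ⟨h8, hsq, hcen⟩ := ree_sylow_two' hK S
  set NS := Subgroup.normalizer ((S : Subgroup ↥(twistedG2 K (3 ^ m))) : Set ↥(twistedG2 K (3 ^ m))) with hNS
  set NE := Subgroup.normalizer (E : Set ↥(twistedG2 K (3 ^ m))) with hNE
  have hSH : (S : Subgroup ↥(twistedG2 K (3 ^ m))) ≤ NS ⊓ NE := by
    intro x hx
    refine ⟨Subgroup.le_normalizer hx, Subgroup.mem_normalizer_iff.2 fun z => ?_⟩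
    have hcomm : ∀ z ∈ S, x * z = z * x := fun z hz =>
      (Subgroup.mem_centralizer_iff.1 (hcen.ge hx) z hz).symm
    constructor
    · intro hz
      rw [hcomm z (hS hz), mul_inv_cancel_right]; exact hz
    · intro hz
      have h1 : z = x⁻¹ * (x * z * x⁻¹) * x := by group
      rw [h1, mul_assoc, ← hcomm _ (hS hz), inv_mul_cancel_left]; exact hz
  -- a pair of involutions determines the four-group
  let P : Fin 4 → ↥(twistedG2 K (3 ^ m)) × ↥(twistedG2 K (3 ^ m)) :=
    ![(A, e), (e, A), (A, A * e), (A * e, A)]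
  have hAe : A * e ∈ E := mul_mem (show A ∈ E from ⟨hN.memA, hN.A_sq⟩) (show e ∈ E from ⟨hN.meme, hN.e_sq⟩)
  have hAE : A ∈ E := ⟨hN.memA, hN.A_sq⟩
  have heE : e ∈ E := ⟨hN.meme, hN.e_sq⟩
  have hgen : ∀ i, (P i).1 ∈ E ∧ (P i).2 ∈ E ∧ ∀ T : Subgroup ↥(twistedG2 K (3 ^ m)),
      (P i).1 ∈ T → (P i).2 ∈ T → E ≤ T := by
    have key : ∀ T : Subgroup ↥(twistedG2 K (3 ^ m)), A ∈ T → e ∈ T → E ≤ T := by
      intro T hA he x hx
      rcases hN.invs x hx.1 hx.2 with h | h | h | h <;> rw [h]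
      exacts [one_mem _, hA, he, mul_mem hA he]
    have he' : ∀ T : Subgroup ↥(twistedG2 K (3 ^ m)), A ∈ T → A * e ∈ T → e ∈ T := fun T hA hAe => by
      have := mul_mem (inv_mem hA) hAe
      rwa [inv_mul_cancel_left] at this
    intro i
    fin_cases i
    · exact ⟨hAE, heE, key⟩
    · exact ⟨heE, hAE, fun T a b => key T b a⟩
    · exact ⟨hAE, hAe, fun T a b => key T a (he' T a b)⟩
    · exact ⟨hAe, hAE, fun T a b => key T b (he' T b a)⟩
  -- the stabiliser of the four-group in the normaliser of `S` has order divisible by three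
  have h3 : 3 ∣ Nat.card ↥(NS ⊓ NE) := by
    have hd : Nat.card ↥(NS ⊓ NE) ∣ 168 := by
      rw [← ree_card_normalizer_sylow_two hK hm S]; exact Subgroup.card_dvd_of_le inf_le_left
    have h8d : 8 ∣ Nat.card ↥(NS ⊓ NE) := by
      rw [← h8]; exact Subgroup.card_dvd_of_le hSH
    have hne7 : ¬ 7 ∣ Nat.card ↥(NS ⊓ NE) := by
      intro h7
      obtain ⟨⟨n, hn⟩, hon⟩ := exists_prime_orderOf_dvd_card' 7 h7
      rw [← Subgroup.orderOf_coe] at hon
      change orderOf n = 7 at hon
      refine hN.A_ne (sylow_two_seven_free hK S hn.1 hon A (hS hAE) ?_)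
      -- orbits on three involutions are trivial
      have hm' : ∀ x ∈ E, n * x * n⁻¹ ∈ E := fun x hx => (Subgroup.mem_normalizer_iff.1 hn.2 x).1 hx
      let E' := {x : E // x ≠ 1}
      let σ : E' → E' := fun x => ⟨⟨n * x.1.1 * n⁻¹, hm' _ x.1.2⟩, fun h =>
        x.2 (Subtype.ext (conj_eq_one_iff.1 (congrArg Subtype.val h)))⟩
      have hσ : Function.Injective σ := fun a b h => Subtype.ext (Subtype.ext
        (mul_left_cancel (mul_right_cancel (congrArg (fun z : E' => ((z.1 : ↥(twistedG2 K (3 ^ m))))) h))))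
      set π : Equiv.Perm E' := Equiv.ofBijective σ (Finite.injective_iff_bijective.1 hσ)
      have hπ : ∀ (i : ℕ) (x : E'), (((π ^ i) x).1 : ↥(twistedG2 K (3 ^ m))) = n ^ i * x.1.1 * (n ^ i)⁻¹ := by
        intro i
        induction i with
        | zero => intro x; simp
        | succ i ih =>
          intro x
          rw [pow_succ', Equiv.Perm.mul_apply]
          show n * ((π ^ i) x).1.1 * n⁻¹ = _
          rw [ih, pow_succ' n i]
          group
      have hπ7 : π ^ 7 = 1 := Equiv.ext fun x => Subtype.ext (Subtype.ext (by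
        rw [hπ, ← hon, pow_orderOf_eq_one, one_mul, inv_one, mul_one]; rfl))
      have hdvd : orderOf π ∣ Nat.gcd 7 6 := Nat.dvd_gcd (orderOf_dvd_of_pow_eq_one hπ7) (by
        refine (orderOf_dvd_natCard π).trans ?_
        rw [Nat.card_perm]
        have : Nat.card E' = 3 := by
          have := Fintype.ofFinite E
          rw [Nat.card_eq_fintype_card, Fintype.card_subtype_compl, Fintype.card_subtype_eq,
            ← Nat.card_eq_fintype_card, hEcard]
        rw [this]; rfl)
      rw [show Nat.gcd 7 6 = 1 by rfl, Nat.dvd_one, orderOf_eq_one_iff] at hdvd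
      have h1 := hπ 1 ⟨⟨A, hAE⟩, fun h => hN.A_ne (congrArg Subtype.val h)⟩
      rw [pow_one π, hdvd] at h1
      simp only [pow_one, Equiv.Perm.one_apply] at h1
      exact (mul_inv_eq_iff_eq_mul.1 h1.symm)
    have hne8 : Nat.card ↥(NS ⊓ NE) ≠ 8 := by
      intro h
      have hidx : ((NS ⊓ NE).subgroupOf NS).index = 21 := by
        have := ((NS ⊓ NE).subgroupOf NS).card_mul_index
        rw [Nat.card_congr (Subgroup.subgroupOfEquivOfLe inf_le_left).toEquiv, h,
          ree_card_normalizer_sylow_two hK hm S] at this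
        omega
      let f : (NS ⧸ (NS ⊓ NE).subgroupOf NS) × Fin 4 → ↥(S : Subgroup ↥(twistedG2 K (3 ^ m))) ×
          ↥(S : Subgroup ↥(twistedG2 K (3 ^ m))) := fun x =>
        Prod.mk (⟨(x.1.out : ↥(twistedG2 K (3 ^ m))) * (P x.2).1 * (x.1.out : ↥(twistedG2 K (3 ^ m)))⁻¹,
          (Subgroup.mem_normalizer_iff.1 x.1.out.2 _).1 (hS (hgen x.2).1)⟩ : (S : Subgroup ↥(twistedG2 K (3 ^ m))))
        (⟨(x.1.out : ↥(twistedG2 K (3 ^ m))) * (P x.2).2 * (x.1.out : ↥(twistedG2 K (3 ^ m)))⁻¹,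
          (Subgroup.mem_normalizer_iff.1 x.1.out.2 _).1 (hS (hgen x.2).2.1)⟩ : (S : Subgroup ↥(twistedG2 K (3 ^ m))))
      have hf : Function.Injective f := by
        rintro ⟨x, i⟩ ⟨y, j⟩ hxy
        have h1 := congrArg (fun z => (z.1 : ↥(twistedG2 K (3 ^ m)))) hxy
        have h2 := congrArg (fun z => (z.2 : ↥(twistedG2 K (3 ^ m)))) hxy
        simp only [f] at h1 h2
        set a := (x.out : ↥(twistedG2 K (3 ^ m)))
        set b := (y.out : ↥(twistedG2 K (3 ^ m)))
        have key : ∀ u w, a * u * a⁻¹ = b * w * b⁻¹ → (b⁻¹ * a) * u * (b⁻¹ * a)⁻¹ = w := by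
          intro u w h
          calc _ = b⁻¹ * (a * u * a⁻¹) * b := by group
            _ = _ := by rw [h]; group
        set c := b⁻¹ * a
        have hle : ∀ z ∈ E, c * z * c⁻¹ ∈ E := fun z hz =>
          (hgen i).2.2 (E.comap (MulAut.conj c).toMonoidHom)
            (show c * (P i).1 * c⁻¹ ∈ E by rw [key _ _ h1]; exact (hgen j).1)
            (show c * (P i).2 * c⁻¹ ∈ E by rw [key _ _ h2]; exact (hgen j).2.1) hz
        have hcNE : c ∈ NE := by
          refine Subgroup.mem_normalizer_iff.2 fun z => ⟨hle z, fun hz => ?_⟩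
          let φ : E → E := fun z => ⟨c * z * c⁻¹, hle z z.2⟩
          have hφ : Function.Injective φ := fun u w h =>
            Subtype.ext (mul_left_cancel (mul_right_cancel (congrArg Subtype.val h)))
          obtain ⟨z', hz'⟩ := Finite.surjective_of_injective hφ ⟨_, hz⟩
          rw [← mul_left_cancel (mul_right_cancel (congrArg Subtype.val hz'))]
          exact z'.2
        have hxy' : x = y := by
          rw [← QuotientGroup.out_eq' x, ← QuotientGroup.out_eq' y]
          refine ((QuotientGroup.eq).2 (Subgroup.mem_subgroupOf.2 ?_)).symm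
          exact Subgroup.mem_inf.2 ⟨mul_mem (inv_mem y.out.2) x.out.2, hcNE⟩
        subst hxy'
        refine Prod.ext rfl ?_
        have e1 := mul_left_cancel (mul_right_cancel h1)
        have e2 := mul_left_cancel (mul_right_cancel h2)
        have hAne : e ≠ A := fun h => hN.Ae_ne (by rw [h, hN.A_sq])
        have n1 : A ≠ A * e := fun h => hN.e_ne (mul_left_cancel (a := A) (by rw [mul_one]; exact h.symm))
        have n2 : e ≠ A * e := fun h => hN.A_ne (mul_right_cancel (b := e) (by rw [one_mul]; exact h.symm))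
        fin_cases i <;> fin_cases j <;>
          simp [P, hAne, hAne.symm, n1, n1.symm, n2, n2.symm] at e1 e2 ⊢
      have := Nat.card_le_card_of_injective f hf
      rw [Nat.card_prod, Nat.card_prod, ← Subgroup.index_eq_card, hidx, h8, Nat.card_eq_fintype_card,
        Fintype.card_fin] at this
      omega
    obtain ⟨d, hd'⟩ := h8d
    rw [hd'] at hd hne7 hne8 ⊢
    have hd21 : d ∣ 21 := Nat.dvd_of_mul_dvd_mul_left (by norm_num : 0 < 8) hd
    have hd0 : d ≤ 21 := Nat.le_of_dvd (by norm_num) hd21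
    interval_cases d <;> omega
  obtain ⟨⟨n, hn⟩, hon⟩ := exists_prime_orderOf_dvd_card' 3 h3
  rw [← Subgroup.orderOf_coe] at hon
  change orderOf n = 3 at hon
  have h3C : ∀ z ∈ C', orderOf z ≠ 3 := by
    intro z hz hoz
    have := Subgroup.orderOf_dvd_natCard C' hz
    rw [hoz, hN.card_cent] at this
    omega
  have hnE : ∀ x ∈ E, n * x * n⁻¹ ∈ E := fun x hx => (Subgroup.mem_normalizer_iff.1 hn.2 x).1 hx
  -- `n` normalises `M`
  have hnN : n ∈ Subgroup.normalizer (M : Set ↥(twistedG2 K (3 ^ m))) := by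
    set ℓ := (orderOf o).minFac
    have hℓ : ℓ.Prime := Nat.minFac_prime (by omega)
    have hℓd : ℓ ∣ orderOf o := Nat.minFac_dvd _
    have hℓ2 : ℓ ≠ 2 := fun h => by
      have := Nat.odd_iff.1 hoodd
      rw [h] at hℓd; omega
    set y := o ^ (orderOf o / ℓ)
    have hy : y ∈ M := pow_mem hN.memo _
    have hoy : orderOf y = ℓ := orderOf_pow_orderOf_div (by omega) hℓd
    refine mem_normalizer_of_centralizer_eq (centralizer_eq_nonsplit hK hN hm hy hℓ hℓ2 hoy) ?_
    refine centralizer_eq_nonsplit hK hN hm ?_ hℓ hℓ2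
      ((orderOf_injective (MulAut.conj n).toMonoidHom (MulAut.conj n).injective y).trans hoy)
    -- the image lies in `C'`, and has odd order
    have hcomm : ∀ x ∈ E, Commute (n * y * n⁻¹) x := by
      intro x hx
      have hx' : n⁻¹ * x * n ∈ E :=
        (Subgroup.mem_normalizer_iff.1 hn.2 (n⁻¹ * x * n)).2 (by
          rw [show n * (n⁻¹ * x * n) * n⁻¹ = x by group]; exact hx)
      have := (show Commute y (n⁻¹ * x * n) from nonsplit_commute hK hN hm hy hx'.1).map (MulAut.conj n).toMonoidHom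
      change Commute (n * y * n⁻¹) (n * (n⁻¹ * x * n) * n⁻¹) at this
      rwa [show n * (n⁻¹ * x * n) * n⁻¹ = x by group] at this
    have hmem : n * y * n⁻¹ ∈ C' := ⟨Subgroup.mem_centralizer_singleton_iff.2 (hcomm A hAE).eq,
      Subgroup.mem_centralizer_singleton_iff.2 (hcomm e heE).eq⟩
    have hpow := Subgroup.pow_index_mem (M.subgroupOf C') ⟨_, hmem⟩
    rw [hidx2] at hpow
    have hsq2 : (n * y * n⁻¹) ^ 2 ∈ M := Subgroup.mem_subgroupOf.1 hpow
    obtain ⟨l, hl⟩ := exists_pow_eq_self_of_coprime (x := n * y * n⁻¹) (n := 2) (by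
      rw [show orderOf (n * y * n⁻¹) = ℓ from
        (orderOf_injective (MulAut.conj n).toMonoidHom (MulAut.conj n).injective y).trans hoy]
      exact Nat.coprime_two_left.2 (hℓ.odd_of_ne_two hℓ2))
    exact hl ▸ pow_mem hsq2 l
  set N := Subgroup.normalizer (M : Set ↥(twistedG2 K (3 ^ m)))
  have hidx3 : (C'.subgroupOf N).index = 3 := by
    have hNE' : ∀ g ∈ N, ∀ x ∈ E, g * x * g⁻¹ ∈ E := fun g hg x hx =>
      ⟨(Subgroup.mem_normalizer_iff.1 hg x).1 hx.1, by rw [show g * x * g⁻¹ * (g * x * g⁻¹) = g * (x * x) * g⁻¹ by group, hx.2, mul_one, mul_inv_cancel]⟩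
    refine le_antisymm ?_ ?_
    · -- at most three
      let f : N ⧸ C'.subgroupOf N → {x : E // x ≠ 1} := fun q =>
        ⟨⟨(q.out : ↥(twistedG2 K (3 ^ m))) * A * (q.out : ↥(twistedG2 K (3 ^ m)))⁻¹, hNE' _ q.out.2 A hAE⟩,
          fun h => hN.A_ne (conj_eq_one_iff.1 (congrArg Subtype.val h))⟩
      have hf : Function.Injective f := by
        intro x y h
        have h1 : (x.out : ↥(twistedG2 K (3 ^ m))) * A * (x.out : ↥(twistedG2 K (3 ^ m)))⁻¹ =
            (y.out : ↥(twistedG2 K (3 ^ m))) * A * (y.out : ↥(twistedG2 K (3 ^ m)))⁻¹ :=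
          congrArg (fun z : {x : E // x ≠ 1} => (z.1 : ↥(twistedG2 K (3 ^ m)))) h
        set c := ((y.out⁻¹ * x.out : N) : ↥(twistedG2 K (3 ^ m)))
        have hcA : c * A * c⁻¹ = A := by
          simp only [c, Subgroup.coe_mul, Subgroup.coe_inv]
          calc _ = (y.out : ↥(twistedG2 K (3 ^ m)))⁻¹ * ((x.out : ↥(twistedG2 K (3 ^ m))) * A *
              (x.out : ↥(twistedG2 K (3 ^ m)))⁻¹) * (y.out : ↥(twistedG2 K (3 ^ m))) := by group
            _ = _ := by rw [h1]; group
        have hcA' : c * A = A * c := mul_inv_eq_iff_eq_mul.1 hcA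
        have hce : c * e * c⁻¹ = e := by
          have hm1 : c * e * c⁻¹ ∈ E := hNE' c (y.out⁻¹ * x.out : N).2 e heE
          rcases hinv_cases _ hm1 (fun h => hN.e_ne (conj_eq_one_iff.1 h)) with h | h | h
          · exact absurd (mul_left_cancel (mul_right_cancel (h.trans hcA.symm))) (fun h' => hN.Ae_ne (by rw [h', hN.A_sq]))
          · exact h
          · exact absurd h (hN.no_swap c hcA')
        rw [← QuotientGroup.out_eq' x, ← QuotientGroup.out_eq' y]
        refine ((QuotientGroup.eq).2 (Subgroup.mem_subgroupOf.2 ?_)).symm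
        exact Subgroup.mem_inf.2 ⟨Subgroup.mem_centralizer_singleton_iff.2 hcA',
            Subgroup.mem_centralizer_singleton_iff.2 (mul_inv_eq_iff_eq_mul.1 hce)⟩
      have := Nat.card_le_card_of_injective f hf
      have hE' : Nat.card {x : E // x ≠ 1} = 3 := by
        have := Fintype.ofFinite E
        rw [Nat.card_eq_fintype_card, Fintype.card_subtype_compl, Fintype.card_subtype_eq,
          ← Nat.card_eq_fintype_card, hEcard]
      rw [Subgroup.index_eq_card]
      omega
    · -- at least three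
      let f : Subgroup.zpowers (⟨n, hnN⟩ : N) → N ⧸ C'.subgroupOf N := fun z => QuotientGroup.mk (z : N)
      have hord : orderOf (⟨n, hnN⟩ : N) = 3 := by rw [← Subgroup.orderOf_coe]; exact hon
      have hf : Function.Injective f := by
        intro x y h
        have h1 := Subgroup.mem_subgroupOf.1 (QuotientGroup.eq.1 h)
        by_contra hne
        set z := (x⁻¹ * y : Subgroup.zpowers (⟨n, hnN⟩ : N))
        have hz : z ≠ 1 := fun h' => hne (inv_mul_eq_one.1 h')
        have hoz : orderOf z = 3 := by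
          have hd : orderOf z ∣ 3 := by
            have := orderOf_dvd_natCard z
            rwa [Nat.card_zpowers, hord] at this
          rcases (Nat.dvd_prime Nat.prime_three).1 hd with h' | h'
          · exact absurd (orderOf_eq_one_iff.1 h') hz
          · exact h'
        refine h3C _ h1 ?_
        rw [show ((x : N)⁻¹ * (y : N) : N) = (z : N) from rfl, Subgroup.orderOf_coe, Subgroup.orderOf_coe]
        exact hoz
      have := Nat.card_le_card_of_injective f hf
      rw [Nat.card_zpowers, hord, ← Subgroup.index_eq_card] at this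
      exact this
  rw [← (C'.subgroupOf N).card_mul_index, hidx3,
    Nat.card_congr (Subgroup.subgroupOfEquivOfLe hC'N).toEquiv, hN.card_cent]
  omega

end CfsgLib.Twisted
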