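import Cfsg.Agent.Lib.Twisted.Weights

/-! `n_r(t) x_r(u) = x_{-r}(-u/t²) n_r(t)` for every root `r`. -/

set_option autoImplicit false

namespace CfsgLib.Twisted

open Cfsg.Lie

variable {D : ChevalleyDatum} {F : Type*} [Field F]

namespace RootCert

variable {cart coro : ℕ → ℕ → ℤ} {σ : ℕ → ℕ → ℕ} {η : ℕ → ℕ → ℤ} {par : ℕ → ℕ × ℕ} {dep : ℕ → ℕ}
  (C : RootCert D cart coro σ η par dep)
include C

theorem nMat_mul_x_self {code : ℕ → ℕ} (hV : IsVec D code)
    (hs : ∀ i < D.rank, σ i (D.simple i) = D.neg (D.simple i) ∧ D.cartan i (D.neg (D.simple i)) = -2)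
    {r : ℕ} (hr : r < D.nroots) {t : F} (ht : t ≠ 0) (u : F) :
    D.nMat F r t * D.x F r u = D.x F (D.neg r) (-(t⁻¹ ^ 2 * u)) * D.nMat F r t := by
  refine C.root_induction (P := fun r => ∀ t : F, t ≠ 0 → ∀ u, D.nMat F r t * D.x F r u =
    D.x F (D.neg r) (-(t⁻¹ ^ 2 * u)) * D.nMat F r t) (fun i hi => ?_) (fun i hi s hs' ih => ?_) hr t ht u
  · intro t ht u
    obtain ⟨hsp, hlt, -, -, -, -, -, -, -, -, hη⟩ := checkSimple_spec (C.simple i hi)
    have hn := C.neg_lt hlt
    have e : D.nMat F (D.simple i) t = D.hMat F (D.simple i) t * D.nMat F (D.simple i) 1 := by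
      rw [C.hMat_eq_nMat, mul_assoc, C.nMat_neg_mul, mul_one]
    rw [e, mul_assoc, C.nMat_mul_x hi hlt, (hs i hi).1, hη, C.hMat_diag hlt ht, ← mul_assoc,
      pairDiag_mul_x hV C.tables _ hn ht, pairing_simple (C.simple i hi), (hs i hi).2, mul_assoc]
    congr 2
    push_cast
    rw [neg_one_mul, mul_neg, zpow_neg, zpow_two, pow_two, mul_inv]
  · intro t ht u
    have hu := C.isUnit_nMat_simple (F := F) hi
    have hA := C.isAut hi
    have hsq : (η i s : F) * (η i s : F) = 1 := by rcases hA.sign s hs' with h | h <;> simp [h]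
    have hη0 : (η i s : F) ≠ 0 := left_ne_zero_of_mul_eq_one hsq
    have key := congrArg (fun M => D.nMat F (D.simple i) 1 * M) (ih ((η i s : F) * t) (mul_ne_zero hη0 ht) ((η i s : F) * u))
    simp only [← mul_assoc] at key
    rw [C.nMat_mul_nMat hi hs', mul_assoc _ (D.nMat F (D.simple i) 1), C.nMat_mul_x hi hs',
      C.nMat_mul_x hi (C.neg_lt hs'), mul_assoc _ (D.nMat F (D.simple i) 1) (D.nMat F s _),
      C.nMat_mul_nMat hi hs', ← mul_assoc, ← mul_assoc] at key
    refine hu.mul_right_cancel ?_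
    have e1 : (η i s : F) * ((η i s : F) * t) = t := by rw [← mul_assoc, hsq, one_mul]
    have e2 : (η i s : F) * ((η i s : F) * u) = u := by rw [← mul_assoc, hsq, one_mul]
    have e3 : (η i (D.neg s) : F) * -(((η i s : F) * t)⁻¹ ^ 2 * ((η i s : F) * u)) = -(t⁻¹ ^ 2 * u) := by
      rw [hA.sign_neg s hs']
      rcases hA.sign s hs' with h | h <;> simp [h, inv_neg, mul_comm]
    simp only [mul_assoc] at key
    rw [e1, e2, e3, hA.map_neg s hs'] at key
    simpa only [mul_assoc] using key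

end RootCert

end CfsgLib.Twisted
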