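import Cfsg.Agent.Lib.Twisted.SL2Lift
import Cfsg.Agent.Lib.Twisted.RootConj
import Cfsg.Agent.Lib.Twisted.PerfectG2
import Cfsg.Agent.Lib.Twisted.VecG2
import Cfsg.Agent.Lib.Twisted.ReeDouble

/-! The subgroup `PSL₂(q)` of ²G₂(q) on the orthogonal roots `a + b`, `3a + b`. -/

set_option autoImplicit false

namespace CfsgLib.Twisted

open Cfsg.Lie
open Matrix
open CfsgLib.Chevalley (auxG2 cert_G2 xG nG hG coe_xG coe_nG coe_hG xG_zero xG_mul torusHom chi acts_torus)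
open CfsgLib.KnownSimple.SL2Presentation (wEl hEl)

variable {K : Type*} [Field K]

/-- the positive root family -/
noncomputable def reeX (m : ℕ) (t : K) : GL chevG2.Idx K :=
  xG cert_G2 g2ab (t ^ 3 ^ m) * xG cert_G2 g2aaab t

/-- the negative root family -/
noncomputable def reeY (m : ℕ) (t : K) : GL chevG2.Idx K :=
  xG cert_G2 g2mab (t ^ 3 ^ m) * xG cert_G2 g2maaab t

theorem reePair_comm (a : ℕ) (ha : a = g2ab ∨ a = g2mab) (b : ℕ) (hb : b = g2aaab ∨ b = g2maaab) (s t : K) :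
    Commute (xG cert_G2 a s) (xG cert_G2 b t) := by
  have hc := g2Comm_ok
  simp only [Bool.and_eq_true, List.all_eq_true, decide_eq_true_eq] at hc
  obtain ⟨⟨⟨⟨⟨⟨⟨⟨⟨⟨⟨⟨⟨⟨⟨⟨⟨⟨⟨⟨⟨⟨⟨c810, c81⟩, c310⟩, c31⟩, -⟩, -⟩, -⟩, -⟩, -⟩, -⟩, -⟩, -⟩, -⟩,
    -⟩, -⟩, -⟩, -⟩, -⟩, -⟩, -⟩, -⟩, -⟩, -⟩, -⟩ := hc
  rcases ha with rfl | rfl <;> rcases hb with rfl | rfl
  · exact Units.ext (rootCertG2.commute_x c810 s t).eq
  · exact Units.ext (rootCertG2.commute_x c81 s t).eq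
  · exact Units.ext (rootCertG2.commute_x c310 s t).eq
  · exact Units.ext (rootCertG2.commute_x c31 s t).eq

theorem reePair_data : chevG2.neg g2ab = g2mab ∧ chevG2.neg g2aaab = g2maaab ∧
    (∀ i < chevG2.rank, sigmaG2 i (chevG2.simple i) = chevG2.neg (chevG2.simple i) ∧
      chevG2.cartan i (chevG2.neg (chevG2.simple i)) = -2) ∧
    (∀ k < 2, chevG2.cartan k g2mab = -chevG2.cartan k g2ab ∧
      chevG2.cartan k g2maaab = -chevG2.cartan k g2aaab) ∧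
    chevG2.pairing g2ab 7 = -1 ∧ chevG2.pairing g2aaab 7 = 1 := by
  decide +kernel

theorem wEl_ree (m : ℕ) {t : K} :
    wEl (reeX m) (reeY m) t = nG cert_G2 g2ab (t ^ 3 ^ m) * nG cert_G2 g2aaab t := by
  have hodd : Odd ((3 : ℕ) ^ m) := (by decide : Odd 3).pow
  have e : reeY m (-t⁻¹) = xG cert_G2 (chevG2.neg g2ab) (-(t ^ 3 ^ m)⁻¹) * xG cert_G2 (chevG2.neg g2aaab) (-t⁻¹) := by
    rw [reeY, reePair_data.1, reePair_data.2.1, hodd.neg_pow, inv_pow]
  rw [wEl, e, reeX, regroup (reePair_comm g2mab (Or.inr rfl) g2aaab (Or.inl rfl) _ _ |>.symm |> fun h => by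
      rw [reePair_data.1]; exact h)
    (reePair_comm g2ab (Or.inl rfl) g2aaab (Or.inl rfl) _ _).symm
    (by rw [reePair_data.2.1]; exact (reePair_comm g2ab (Or.inl rfl) g2maaab (Or.inr rfl) _ _).symm)]
  rfl

theorem nG_self_conj (r : ℕ) (hr : r < chevG2.nroots) {t : K} (ht : t ≠ 0) (u : K) :
    nG cert_G2 r t * xG cert_G2 r u = xG cert_G2 (chevG2.neg r) (-(t⁻¹ ^ 2 * u)) * nG cert_G2 r t := by
  refine Units.ext ?_
  rw [Units.val_mul, Units.val_mul, coe_nG, coe_xG, coe_xG]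
  exact rootCertG2.nMat_mul_x_self isVecG2 reePair_data.2.2.1 hr ht u

theorem commute_nG {b : ℕ} (s : K) (a : ℕ) (t : K) (h : ∀ u : K, Commute (xG cert_G2 b s) (xG cert_G2 a u))
    (h' : ∀ u : K, Commute (xG cert_G2 b s) (xG cert_G2 (chevG2.neg a) u)) :
    Commute (xG cert_G2 b s) (nG cert_G2 a t) :=
  ((h _).mul_right (h' _)).mul_right (h _)

variable [Fintype K] {m : ℕ} (hK : Fintype.card K = 3 ^ (2 * m + 1))
include hK

theorem ree_pow_add (a b : K) : (a + b) ^ 3 ^ m = a ^ 3 ^ m + b ^ 3 ^ m := by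
  have : Fact (Nat.Prime 3) := ⟨Nat.prime_three⟩
  have := charP_ree hK
  exact add_pow_char_pow a b 3 m

theorem reeX_add (a b : K) : reeX m a * reeX m b = reeX m (a + b) := by
  rw [reeX, reeX, reeX, ← xG_mul, ree_pow_add hK, ← xG_mul]
  exact (reePair_comm g2ab (Or.inl rfl) g2aaab (Or.inl rfl) _ _).symm.mul_mul_mul_comm _ _

theorem reeY_add (a b : K) : reeY m a * reeY m b = reeY m (a + b) := by
  rw [reeY, reeY, reeY, ← xG_mul, ree_pow_add hK, ← xG_mul]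
  exact (reePair_comm g2mab (Or.inr rfl) g2maaab (Or.inr rfl) _ _).symm.mul_mul_mul_comm _ _

omit [Fintype K] hK in
theorem ree_conj (t u : K) (ht : t ≠ 0) :
    wEl (reeX m) (reeY m) t * reeX m u * (wEl (reeX m) (reeY m) t)⁻¹ = reeY m (-(t⁻¹ ^ 2 * u)) := by
  have hodd : Odd ((3 : ℕ) ^ m) := (by decide : Odd 3).pow
  rw [mul_inv_eq_iff_eq_mul, wEl_ree, reeX, reeY]
  have h10 : ∀ s : K, ∀ v : K, Commute (xG cert_G2 g2aaab v) (nG cert_G2 g2ab s) := fun s v =>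
    commute_nG v g2ab s (fun w => (reePair_comm g2ab (Or.inl rfl) g2aaab (Or.inl rfl) w v).symm)
      (fun w => by rw [reePair_data.1]; exact (reePair_comm g2mab (Or.inr rfl) g2aaab (Or.inl rfl) w v).symm)
  have h1 : ∀ s : K, ∀ v : K, Commute (xG cert_G2 g2maaab v) (nG cert_G2 g2ab s) := fun s v =>
    commute_nG v g2ab s (fun w => (reePair_comm g2ab (Or.inl rfl) g2maaab (Or.inr rfl) w v).symm)
      (fun w => by rw [reePair_data.1]; exact (reePair_comm g2mab (Or.inr rfl) g2maaab (Or.inr rfl) w v).symm)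
  have h8 : ∀ s : K, ∀ v : K, Commute (xG cert_G2 g2ab v) (nG cert_G2 g2aaab s) := fun s v =>
    commute_nG v g2aaab s (fun w => reePair_comm g2ab (Or.inl rfl) g2aaab (Or.inl rfl) v w)
      (fun w => by rw [reePair_data.2.1]; exact reePair_comm g2ab (Or.inl rfl) g2maaab (Or.inr rfl) v w)
  have e8 := nG_self_conj g2ab (by decide) (pow_ne_zero (3 ^ m) ht) (u ^ 3 ^ m)
  have e10 := nG_self_conj g2aaab (by decide) ht u
  rw [reePair_data.1] at e8
  rw [reePair_data.2.1] at e10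
  rw [show (-(t⁻¹ ^ 2 * u)) ^ 3 ^ m = -((t ^ 3 ^ m)⁻¹ ^ 2 * u ^ 3 ^ m) by
    rw [hodd.neg_pow, mul_pow, ← inv_pow, ← pow_mul, ← pow_mul, mul_comm 2]]
  rw [← mul_assoc, mul_assoc _ (nG cert_G2 g2aaab t), ← (h8 t _).eq, ← mul_assoc, e8, mul_assoc, e10,
    ← mul_assoc, mul_assoc _ (nG cert_G2 g2ab _), ← (h1 _ _).eq]
  simp only [mul_assoc]

theorem exists_reeHom : ∃ φ : SpecialLinearGroup (Fin 2) K →* GL chevG2.Idx K,
    (∀ t, φ (slX t) = reeX m t) ∧ ∀ t, φ (slY t) = reeY m t :=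
  exists_sl2Hom _ _ (reeX_add hK) (reeY_add hK) fun t u ht => ree_conj t u ht

omit [Fintype K] hK in
theorem reeX_eq_word (t : K) : reeX m t = wordG cert_G2 (reeWordU (3 ^ m) 0 t 0) := by
  have he : (3 : ℕ) ^ m ≠ 0 := (Nat.pow_pos (by norm_num)).ne'
  simp [reeX, reeWordU, wordG, zero_pow he, xG_zero]

omit [Fintype K] hK in
theorem reeY_eq_word (t : K) : reeY m t = wordG cert_G2 (reeWordV (3 ^ m) 0 (-t) 0) := by
  have he : (3 : ℕ) ^ m ≠ 0 := (Nat.pow_pos (by norm_num)).ne'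
  have hodd : Odd ((3 : ℕ) ^ m) := (by decide : Odd 3).pow
  rw [reeY, ← reePair_data.1, ← reePair_data.2.1]
  simp [reeWordV, reeWordU, ChevalleyDatum.negWord, ChevalleyDatum.neg, wordG, zero_pow he, xG_zero, hodd.neg_pow]

omit [Fintype K] hK in
theorem reeX_mem (t : K) : reeX m t ∈ twistedG2 K (3 ^ m) := by
  rw [reeX_eq_word]
  exact wordG_mem_gen cert_G2 ⟨0, t, 0, Or.inl rfl⟩

omit [Fintype K] hK in
theorem reeY_mem (t : K) : reeY m t ∈ twistedG2 K (3 ^ m) := by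
  rw [reeY_eq_word]
  exact wordG_mem_gen cert_G2 ⟨0, -t, 0, Or.inr rfl⟩

omit [Fintype K] hK in
theorem hEl_ree (c : K) :
    hEl (reeX m) (reeY m) c = hG cert_G2 g2ab (c ^ 3 ^ m) * hG cert_G2 g2aaab c := by
  have hodd : Odd ((3 : ℕ) ^ m) := (by decide : Odd 3).pow
  have hi : ∀ t : K, (wEl (reeX m) (reeY m) t)⁻¹ =
      nG cert_G2 g2aaab (-t) * nG cert_G2 g2ab (-(t ^ 3 ^ m)) := fun t => by
    rw [wEl_ree, _root_.mul_inv_rev, CfsgLib.Chevalley.nG_inv, CfsgLib.Chevalley.nG_inv]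
  have hnn : ∀ s t : K, Commute (nG cert_G2 g2ab s) (nG cert_G2 g2aaab t) := fun s t => by
    have h : ∀ a, a = g2ab ∨ a = g2mab → ∀ w : K, Commute (xG cert_G2 a w) (nG cert_G2 g2aaab t) := fun a ha w =>
      commute_nG w g2aaab t (fun v => reePair_comm a ha g2aaab (Or.inl rfl) w v)
        (fun v => by rw [reePair_data.2.1]; exact reePair_comm a ha g2maaab (Or.inr rfl) w v)
    exact (((h g2ab (Or.inl rfl) _).mul_left (h (chevG2.neg g2ab) (Or.inr reePair_data.1) _))).mul_left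
      (h g2ab (Or.inl rfl) _)
  rw [hEl, hi, one_pow, wEl_ree, hG, hG]
  simp only [← mul_assoc]
  rw [mul_assoc (nG cert_G2 g2ab _) (nG cert_G2 g2aaab c),
    mul_assoc (nG cert_G2 g2ab _) _ (nG cert_G2 g2ab (-1)),
    ← ((hnn (-1) c).mul_right (hnn (-1) (-1))).eq]
  simp only [mul_assoc]

omit [Fintype K] hK in
theorem hEl_ree_mem_diagonal {c : K} (hc : c ≠ 0) :
    hEl (reeX m) (reeY m) c ∈ chevG2.diagonalSubgroup K ⊓ twistedG2 K (3 ^ m) := by
  refine Subgroup.mem_inf.2 ⟨?_, ?_⟩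
  · rw [hEl_ree]
    exact mul_mem (Subgroup.subset_closure ⟨g2ab, _, by decide, pow_ne_zero _ hc, coe_hG _ _ _⟩)
      (Subgroup.subset_closure ⟨g2aaab, _, by decide, hc, coe_hG _ _ _⟩)
  · have hw : ∀ t : K, wEl (reeX m) (reeY m) t ∈ twistedG2 K (3 ^ m) := fun t =>
      mul_mem (mul_mem (reeX_mem t) (reeY_mem _)) (reeX_mem t)
    exact mul_mem (hw c) (inv_mem (hw 1))

omit hK in
theorem reeTorusVal_hEl {c : K} (hc : c ≠ 0) :
    reeTorusVal ⟨hEl (reeX m) (reeY m) c, hEl_ree_mem_diagonal hc⟩ = (c ^ 3 ^ m)⁻¹ * c := by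
  show ((hEl (reeX m) (reeY m) c : GL chevG2.Idx K) : Matrix chevG2.Idx chevG2.Idx K) _ _ = _
  rw [hEl_ree, Units.val_mul, coe_hG, coe_hG, rootCertG2.hMat_diag (by decide) (pow_ne_zero _ hc),
    rootCertG2.hMat_diag (by decide) hc, pairDiag, pairDiag, Matrix.diagonal_mul_diagonal, Matrix.diagonal_apply_eq]
  show (c ^ 3 ^ m) ^ chevG2.pairing g2ab 7 * c ^ chevG2.pairing g2aaab 7 = _
  simp [reePair_data.2.2.2.2.1, reePair_data.2.2.2.2.2]

theorem hEl_ree_neg_one : hEl (reeX m) (reeY m) (-1 : K) = 1 := by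
  have h1 : (-1 : K) ≠ 0 := neg_ne_zero.2 one_ne_zero
  have hodd : Odd ((3 : ℕ) ^ m) := (by decide : Odd 3).pow
  have : (⟨_, hEl_ree_mem_diagonal h1⟩ : ↥(chevG2.diagonalSubgroup K ⊓ twistedG2 K (3 ^ m))) = 1 := by
    refine reeTorusVal_injective hK ?_
    rw [reeTorusVal_hEl h1, map_one, hodd.neg_one_pow]
    simp
  exact congrArg Subtype.val this

/-- The torus is generated by the involution and the torus of this subgroup. -/
theorem reeTorus_cases {g a : ↥(chevG2.diagonalSubgroup K ⊓ twistedG2 K (3 ^ m))} (ha : reeTorusVal a = -1) :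
    ∃ c : K, c ≠ 0 ∧ ((g : GL chevG2.Idx K) = hEl (reeX m) (reeY m) c ∨
      (g : GL chevG2.Idx K) = a * hEl (reeX m) (reeY m) c) := by
  classical
  set y := reeTorusVal g with hy
  have hy0 : y ≠ 0 := by
    intro e
    have := (map_mul (reeTorusVal (K := K) (m := m)) g g⁻¹)
    rw [mul_inv_cancel, map_one, ← hy, e, zero_mul] at this
    exact one_ne_zero this
  have hn1 : ¬ IsSquare (-1 : K) := by
    rw [FiniteField.isSquare_neg_one_iff, hK, not_not, pow_succ, pow_mul, Nat.mul_mod, Nat.pow_mod]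
    norm_num
  have hfix : ∀ x : K, x ^ (3 * 3 ^ m * 3 ^ m) = x := fun x => by
    rw [show 3 * 3 ^ m * 3 ^ m = Fintype.card K by rw [hK]; ring]
    exact FiniteField.pow_card x
  have hsq : ∀ x : K, x ≠ 0 → ((x ^ (3 * 3 ^ m + 3)) ^ 3 ^ m)⁻¹ * x ^ (3 * 3 ^ m + 3) = x * x := by
    intro x hx
    set e := 3 ^ m with he
    rw [inv_mul_eq_iff_eq_mul₀ (pow_ne_zero _ (pow_ne_zero _ hx))]
    calc x ^ (3 * e + 3) = x ^ (3 * e) * (x * x * x) := by rw [pow_add]; ring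
      _ = x ^ (3 * e) * x ^ (3 * e * e) * (x * x) := by rw [hfix]; ring
      _ = _ := by rw [← pow_mul, ← pow_add]; ring_nf
  by_cases hs : IsSquare y
  · obtain ⟨x, hx⟩ := hs
    have hx0 : x ≠ 0 := fun e => hy0 (by rw [hx, e, mul_zero])
    refine ⟨_, pow_ne_zero (3 * 3 ^ m + 3) hx0, Or.inl ?_⟩
    exact congrArg Subtype.val (reeTorusVal_injective hK (a₂ := ⟨_, hEl_ree_mem_diagonal (pow_ne_zero (3 * 3 ^ m + 3) hx0)⟩)
      (by rw [reeTorusVal_hEl (pow_ne_zero (3 * 3 ^ m + 3) hx0), hsq x hx0, ← hx]))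
  · have hs' : IsSquare (-y) := by
      rw [← quadraticChar_one_iff_isSquare (neg_ne_zero.2 hy0), ← neg_one_mul, map_mul,
        quadraticChar_neg_one_iff_not_isSquare.2 hs, quadraticChar_neg_one_iff_not_isSquare.2 hn1]
      norm_num
    obtain ⟨x, hx⟩ := hs'
    have hx0 : x ≠ 0 := fun e => hy0 (by simpa [e] using hx)
    refine ⟨_, pow_ne_zero (3 * 3 ^ m + 3) hx0, Or.inr ?_⟩
    exact congrArg Subtype.val (reeTorusVal_injective hK (a₁ := g)
      (a₂ := a * ⟨_, hEl_ree_mem_diagonal (pow_ne_zero (3 * 3 ^ m + 3) hx0)⟩)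
      (by rw [map_mul, reeTorusVal_hEl (pow_ne_zero (3 * 3 ^ m + 3) hx0), hsq x hx0, ha, ← hx]; ring))

end CfsgLib.Twisted
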