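import Cfsg.Agent.Lib.Twisted.ReeDouble
import Cfsg.Agent.Lib.Twisted.PerfectG2
import Cfsg.Agent.Lib.Twisted.CoreTrivial

/-! The seven-dimensional representation of ²G₂(q) on the short root vectors. -/

set_option autoImplicit false

open Cfsg.Lie
namespace CfsgLib.Twisted

open CfsgLib.Chevalley (cert_G2 xG coe_xG xG_inv)

/-- the coordinates -/
def reeSevenIdx : Fin 7 → chevG2.Idx :=
  ![Sum.inl (⟨0, by decide⟩ : Fin 2), Sum.inr (⟨2, by decide⟩ : Fin 12), Sum.inr (⟨3, by decide⟩ : Fin 12),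
    Sum.inr (⟨4, by decide⟩ : Fin 12), Sum.inr (⟨7, by decide⟩ : Fin 12), Sum.inr (⟨8, by decide⟩ : Fin 12),
    Sum.inr (⟨9, by decide⟩ : Fin 12)]

theorem reeSeven_check : ∀ r < 12, ∀ j : Fin 7, ∀ a : chevG2.Idx, (∀ i, reeSevenIdx i ≠ a) →
    (CfsgLib.Chevalley.coefMat chevG2 1 r a (reeSevenIdx j)) % 3 = 0 ∧
    (CfsgLib.Chevalley.coefMat chevG2 2 r a (reeSevenIdx j)) % 3 = 0 ∧
    (CfsgLib.Chevalley.coefMat chevG2 3 r a (reeSevenIdx j)) % 3 = 0 := by
  decide +kernel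

theorem reeSevenIdx_injective : Function.Injective reeSevenIdx := by decide +kernel
variable {K : Type*} [Field K] [Fintype K] {m : ℕ} (hK : Fintype.card K = 3 ^ (2 * m + 1))
include hK

/-- Root elements keep the seven-dimensional space. -/
theorem xG_keeps_seven (r : ℕ) (t : K) (a : chevG2.Idx) (j : Fin 7) (ha : ∀ i, reeSevenIdx i ≠ a) :
    (xG cert_G2 r t : Matrix chevG2.Idx chevG2.Idx K) a (reeSevenIdx j) = 0 := by
  have hne : a ≠ reeSevenIdx j := fun e => ha j e.symm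
  rw [coe_xG]
  by_cases hr : r < chevG2.nroots
  · have h3 : (3 : K) = 0 := by
      simpa using natCast_char_zero (p := 3) (k := 2 * m + 1) (by omega) hK
    rw [CfsgLib.Chevalley.x_eq_xR chevG2 K hr, CfsgLib.Chevalley.xR_eq_sum chevG2 cert_G2.wf]
    obtain ⟨h1, h2, h4⟩ := reeSeven_check r hr j a ha
    have hz : ∀ z : ℤ, z % 3 = 0 → (z : K) = 0 := fun z hz => by
      obtain ⟨w, rfl⟩ := Int.dvd_of_emod_eq_zero hz
      push_cast
      rw [h3, zero_mul]
    simp [CfsgLib.Chevalley.coefIn, Matrix.one_apply_ne hne, hz _ h1, hz _ h2, hz _ h4]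
  · simp [ChevalleyDatum.x, hr, Matrix.one_apply_ne hne]

/-- The representation. -/
theorem exists_reeSeven (hm : 1 ≤ m) :
    ∃ ρ : ↥(twistedG2 K (3 ^ m)) →* GL (Fin 7) K, Function.Injective ρ := by
  classical
  let Kp : GL chevG2.Idx K → Prop := fun g => ∀ a j, (∀ i, reeSevenIdx i ≠ a) →
    (g : Matrix chevG2.Idx chevG2.Idx K) a (reeSevenIdx j) = 0
  have hsum : ∀ (M : Matrix chevG2.Idx chevG2.Idx K) (g : GL chevG2.Idx K), Kp g → ∀ a j,
      (M * (g : Matrix chevG2.Idx chevG2.Idx K)) a (reeSevenIdx j) =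
        ∑ i, M a (reeSevenIdx i) * (g : Matrix chevG2.Idx chevG2.Idx K) (reeSevenIdx i) (reeSevenIdx j) := by
    intro M g hg a j
    rw [Matrix.mul_apply]
    refine (Fintype.sum_of_injective reeSevenIdx reeSevenIdx_injective _ _ (fun k hk => ?_) fun i => rfl).symm
    rw [hg k j fun i e => hk ⟨i, e⟩, mul_zero]
  have hmul : ∀ g g', Kp g → Kp g' → Kp (g * g') := by
    intro g g' hg hg' a j ha
    rw [Units.val_mul, hsum _ _ hg']
    exact Finset.sum_eq_zero fun i _ => by rw [hg a i ha, zero_mul]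
  have hone : Kp 1 := fun a j ha => by
    rw [Units.val_one, Matrix.one_apply_ne fun e : a = reeSevenIdx j => ha j e.symm]
  let S : Subgroup (GL chevG2.Idx K) :=
    { carrier := {g | Kp g ∧ Kp g⁻¹}
      one_mem' := ⟨hone, by rw [inv_one]; exact hone⟩
      mul_mem' := fun {g g'} h h' => ⟨hmul _ _ h.1 h'.1, by rw [_root_.mul_inv_rev]; exact hmul _ _ h'.2 h.2⟩
      inv_mem' := fun {g} h => ⟨h.2, by rw [inv_inv]; exact h.1⟩ }
  have hgen : chevG2.group K ≤ S := by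
    refine (Subgroup.closure_le _).2 ?_
    rintro g ⟨r, t, hg⟩
    have e : g = xG cert_G2 r t := Units.ext (hg.trans (by rw [coe_xG, ChevalleyDatum.x, dif_pos r.isLt]))
    subst e
    refine ⟨fun a j ha => xG_keeps_seven hK r t a j ha, fun a j ha => ?_⟩
    rw [xG_inv]
    exact xG_keeps_seven hK r _ a j ha
  have hle : twistedG2 K (3 ^ m) ≤ S := ((g2Twist_isTwist hK).le).trans hgen
  let f : ↥(twistedG2 K (3 ^ m)) →* Matrix (Fin 7) (Fin 7) K :=
    { toFun := fun g => ((g : GL chevG2.Idx K) : Matrix chevG2.Idx chevG2.Idx K).submatrix reeSevenIdx reeSevenIdx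
      map_one' := by
        rw [Subgroup.coe_one, Units.val_one, Matrix.submatrix_one _ reeSevenIdx_injective]
      map_mul' := fun g g' => by
        ext i j
        rw [Matrix.submatrix_apply, Subgroup.coe_mul, Units.val_mul, hsum _ _ (hle g'.2).1]
        rfl }
  refine ⟨f.toHomUnits, ?_⟩
  set ρ := f.toHomUnits
  rw [← MonoidHom.ker_eq_bot_iff]
  obtain ⟨s, hS⟩ := exists_isRankOne_ree hK
  set B := IsRankOne.borelIn chevG2 (twistedG2 K (3 ^ m))
  by_cases hN : ρ.ker ≤ B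
  · exact le_bot_iff.1 ((twistedG2_core_eq_bot hK).le.trans' (Subgroup.normal_le_normalCore.2 hN))
  exfalso
  -- the kernel is then everything
  obtain ⟨n, hn, hnB⟩ := Set.not_subset.1 hN
  have hnB' : (n : GL chevG2.Idx K) ∉ chevG2.borelSubgroup K := fun h => hnB ⟨h, n.2⟩
  obtain ⟨u, b, hu, huU, hb, hbB, e⟩ := (hS.cover _ n.2).resolve_left hnB'
  set sG : ↥(twistedG2 K (3 ^ m)) := ⟨s, hS.mem⟩
  have hsB : sG ∈ ρ.ker ⊔ B := by
    have h : sG = (⟨u, hu⟩ : ↥(twistedG2 K (3 ^ m)))⁻¹ * n * (⟨b, hb⟩ : ↥(twistedG2 K (3 ^ m)))⁻¹ := by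
      refine Subtype.ext ?_
      simp only [Subgroup.coe_mul, Subgroup.coe_inv, e, sG]
      group
    rw [h]
    exact mul_mem (mul_mem (inv_mem (Subgroup.mem_sup_right ⟨Subgroup.mem_sup_left huU, hu⟩))
      (Subgroup.mem_sup_left hn)) (inv_mem (Subgroup.mem_sup_right ⟨hbB, hb⟩))
  have htop : ρ.ker ⊔ B = ⊤ := by
    rw [eq_top_iff]
    rintro ⟨g, hg⟩ -
    rcases hS.cover g hg with h | ⟨u, b, hu, huU, hb, hbB, rfl⟩
    · exact Subgroup.mem_sup_right ⟨h, hg⟩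
    · have hu' : (⟨u, hu⟩ : ↥(twistedG2 K (3 ^ m))) ∈ B := ⟨Subgroup.mem_sup_left huU, hu⟩
      have hb' : (⟨b, hb⟩ : ↥(twistedG2 K (3 ^ m))) ∈ B := ⟨hbB, hb⟩
      exact mul_mem (mul_mem (Subgroup.mem_sup_right hu') hsB) (Subgroup.mem_sup_right hb')
  let π := QuotientGroup.mk' ρ.ker
  have hπ : B.map π = ⊤ := by
    rw [← Subgroup.map_top_of_surjective π (QuotientGroup.mk'_surjective _), ← htop, Subgroup.map_sup,
      (Subgroup.map_eq_bot_iff ρ.ker).2 (QuotientGroup.ker_mk' ρ.ker).ge, bot_sup_eq]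
  -- the quotient is the image of the unipotent part, a 3-group, and perfect
  have hperf : commutator (↥(twistedG2 K (3 ^ m)) ⧸ ρ.ker) = ⊤ := by
    rw [commutator_def, ← Subgroup.map_top_of_surjective π (QuotientGroup.mk'_surjective _),
      ← Subgroup.map_commutator, ← commutator_def, twistedG2_perfect hK hm]
  obtain ⟨P, hP⟩ := exists_sylow_ree hK
  have hcom : ⁅B, B⁆ ≤ (P : Subgroup ↥(twistedG2 K (3 ^ m))) := by
    rw [Subgroup.commutator_le]
    intro x hx y hy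
    obtain ⟨u, t, hu, huU, ht, htH, ex⟩ := hS.borel x x.2 hx.1
    obtain ⟨v, w, hv, hvU, hw, hwH, ey⟩ := hS.borel y y.2 hy.1
    refine (hP _).2 ?_
    rw [commutatorElement_def]
    simp only [Subgroup.coe_mul, Subgroup.coe_inv, ex, ey]
    obtain ⟨c, rfl⟩ := (CfsgLib.Chevalley.diagonalSubgroup_eq_range fullG2).le htH
    obtain ⟨d, rfl⟩ := (CfsgLib.Chevalley.diagonalSubgroup_eq_range fullG2).le hwH
    set t := CfsgLib.Chevalley.torusHom chevG2 K c
    set w := CfsgLib.Chevalley.torusHom chevG2 K d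
    have hc : Commute t w := (Commute.all c d).map _
    have hd : ∀ z ∈ chevG2.diagonalSubgroup K, ∀ v ∈ chevG2.posUnipotent K,
        z * v * z⁻¹ ∈ chevG2.posUnipotent K := fun z hz v hv =>
      IsRankOne.conj_pos fullG2 (Subgroup.mem_sup_right hz) hv
    have e1 : u * t * (v * w) * (u * t)⁻¹ * (v * w)⁻¹ =
        u * (t * v * t⁻¹) * (w * u⁻¹ * w⁻¹) * v⁻¹ := by
      calc u * t * (v * w) * (u * t)⁻¹ * (v * w)⁻¹ = u * (t * v * t⁻¹) * (t * w * t⁻¹) * u⁻¹ * w⁻¹ * v⁻¹ := by group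
        _ = u * (t * v * t⁻¹) * w * u⁻¹ * w⁻¹ * v⁻¹ := by rw [hc.eq, mul_inv_cancel_right]
        _ = _ := by group
    rw [e1]
    exact mul_mem (mul_mem (mul_mem huU (hd _ htH _ hvU)) (hd _ hwH _ (inv_mem huU))) (inv_mem hvU)
  have hfull : (⊤ : Subgroup (↥(twistedG2 K (3 ^ m)) ⧸ ρ.ker)) ≤
      (P : Subgroup ↥(twistedG2 K (3 ^ m))).map π := by
    rw [← hperf, commutator_def, ← hπ, ← Subgroup.map_commutator]
    exact Subgroup.map_mono hcom
  have : Fact (Nat.Prime 3) := ⟨Nat.prime_three⟩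
  have hpg : IsPGroup 3 (↥(twistedG2 K (3 ^ m)) ⧸ ρ.ker) :=
    ((P.isPGroup'.map π).to_le hfull).of_equiv Subgroup.topEquiv
  have : Group.IsNilpotent (↥(twistedG2 K (3 ^ m)) ⧸ ρ.ker) := hpg.isNilpotent
  have hsub : Subsingleton (↥(twistedG2 K (3 ^ m)) ⧸ ρ.ker) := by
    by_contra hns
    have : Nontrivial (↥(twistedG2 K (3 ^ m)) ⧸ ρ.ker) := not_subsingleton_iff_nontrivial.1 hns
    exact (Group.IsSolvable.commutator_lt_top_of_nontrivial _).ne hperf
  obtain ⟨g, hg⟩ := reeTorusVal_surj hK (neg_ne_zero.2 (one_ne_zero (α := K)))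
  have hgk : (⟨g, g.2.2⟩ : ↥(twistedG2 K (3 ^ m))) ∈ ρ.ker :=
    (QuotientGroup.eq_one_iff _).1 (Subsingleton.elim _ _)
  have h := congrArg (fun M : GL (Fin 7) K => (M : Matrix (Fin 7) (Fin 7) K) 4 4) (MonoidHom.mem_ker.1 hgk)
  have h' : reeTorusVal g = (1 : K) := h.trans (Matrix.one_apply_eq 4)
  have : CharP K 3 := charP_ree hK
  exact Ring.neg_one_ne_one_of_char_ne_two (R := K) (by rw [ringChar.eq K 3]; norm_num) (hg.symm.trans h')

end CfsgLib.Twisted
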