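import Cfsg.Agent.Lib.Twisted.ReeSylowTwo
import Cfsg.Agent.Lib.Twisted.ReeSeven
import Cfsg.Agent.Lib.Twisted.ConjCount

/-! The Borel subgroup, the split torus, involutions and 3-elements of ²G₂(q). -/

set_option autoImplicit false
set_option linter.unusedSectionVars false

namespace CfsgLib.Twisted

open Cfsg.Lie
open IsRankOne (borelIn)
open scoped Pointwise
open CfsgLib.KnownSimple.SL2Presentation (wEl hEl)

theorem unipotent_pow_nine {K : Type*} [Field K] [CharP K 3] {d : ℕ} (hd : d ≤ 9)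
    (M : Matrix (Fin d) (Fin d) K) (k : ℕ) (hM : M ^ 3 ^ k = 1) : M ^ 9 = 1 := by
  have : Fact (Nat.Prime 3) := ⟨Nat.prime_three⟩
  rcases Nat.eq_zero_or_pos d with rfl | hd0
  · exact Subsingleton.elim _ _
  have : Nonempty (Fin d) := ⟨⟨0, hd0⟩⟩
  obtain ⟨n, hn⟩ : IsNilpotent (M - 1) := ⟨3 ^ k, by
    rw [sub_pow_char_pow_of_commute 3 k (Commute.one_right M), hM, one_pow, sub_self]⟩
  have hc := (M - 1).aeval_self_charpoly
  have hch : (M - 1).charpoly = Polynomial.X ^ d := by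
    have := Matrix.isNilpotent_charpoly_sub_pow_of_isNilpotent (M := M - 1) ⟨n, hn⟩
    rw [isNilpotent_iff_eq_zero, sub_eq_zero, Fintype.card_fin] at this
    exact this
  rw [hch, map_pow, Polynomial.aeval_X] at hc
  obtain ⟨b, hb⟩ : ∃ b, b = 2 := ⟨2, rfl⟩
  have h9 := sub_pow_char_pow_of_commute (R := Matrix (Fin d) (Fin d) K) 3 b (Commute.one_right M)
  have e : 3 ^ b = d + (9 - d) := by rw [hb]; omega
  rw [e, pow_add (M - 1), hc, zero_mul, one_pow] at h9
  have e2 : d + (9 - d) = 9 := by omega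
  rw [e2] at h9
  exact sub_eq_zero.1 h9.symm

variable (K : Type*) [Field K] (m : ℕ)

/-- The split torus of ²G₂(q). -/
abbrev reeH : Subgroup ↥(twistedG2 K (3 ^ m)) :=
  (chevG2.diagonalSubgroup K ⊓ twistedG2 K (3 ^ m)).subgroupOf (twistedG2 K (3 ^ m))

/-- The positive unipotent subgroup of ²G₂(q). -/
abbrev reeU : Subgroup ↥(twistedG2 K (3 ^ m)) :=
  (chevG2.posUnipotent K ⊓ twistedG2 K (3 ^ m)).subgroupOf (twistedG2 K (3 ^ m))

variable {K : Type*} [Field K] [Fintype K] {m : ℕ}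

theorem mem_reeH {x : ↥(twistedG2 K (3 ^ m))} :
    x ∈ reeH K m ↔ (x : GL chevG2.Idx K) ∈ chevG2.diagonalSubgroup K :=
  ⟨fun h => (Subgroup.mem_subgroupOf.1 h).1, fun h => Subgroup.mem_subgroupOf.2 ⟨h, x.2⟩⟩

theorem mem_reeU {x : ↥(twistedG2 K (3 ^ m))} :
    x ∈ reeU K m ↔ (x : GL chevG2.Idx K) ∈ chevG2.posUnipotent K :=
  ⟨fun h => (Subgroup.mem_subgroupOf.1 h).1, fun h => Subgroup.mem_subgroupOf.2 ⟨h, x.2⟩⟩

theorem mem_borelIn_ree {x : ↥(twistedG2 K (3 ^ m))} :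
    x ∈ borelIn chevG2 (twistedG2 K (3 ^ m)) ↔ (x : GL chevG2.Idx K) ∈ chevG2.borelSubgroup K :=
  ⟨fun h => (Subgroup.mem_subgroupOf.1 h).1, fun h => Subgroup.mem_subgroupOf.2 ⟨h, x.2⟩⟩

theorem ree_q_data (hm : 1 ≤ m) :
    27 ≤ 3 ^ (2 * m + 1) ∧ (3 ^ (2 * m + 1)) % 8 = 3 ∧ (3 ^ (2 * m + 1)) % 3 = 0 := by
  refine ⟨?_, ?_, ?_⟩
  · calc 27 = 3 ^ 3 := by norm_num
      _ ≤ _ := Nat.pow_le_pow_right (by norm_num) (by omega)
  · rw [pow_succ, pow_mul, Nat.mul_mod, Nat.pow_mod]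
    norm_num
  · rw [pow_succ, Nat.mul_mod_left]

variable (hK : Fintype.card K = 3 ^ (2 * m + 1))
include hK

theorem card_reeH : Nat.card (reeH K m) = 3 ^ (2 * m + 1) - 1 := by
  rw [Nat.card_congr (Subgroup.subgroupOfEquivOfLe inf_le_right).toEquiv, card_reeTorus hK]

theorem isCyclic_reeH : IsCyclic (reeH K m) := by
  have := reeTorus_isCyclic hK
  exact isCyclic_of_surjective _ (Subgroup.subgroupOfEquivOfLe
    (inf_le_right (a := chevG2.diagonalSubgroup K) (b := twistedG2 K (3 ^ m)))).symm.surjective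

theorem card_reeU : Nat.card (reeU K m) = (3 ^ (2 * m + 1)) ^ 3 := by
  rw [Nat.card_congr (Subgroup.subgroupOfEquivOfLe inf_le_right).toEquiv, inf_comm,
    card_unipotent_ree hK]

theorem card_reeBorel : Nat.card (borelIn chevG2 (twistedG2 K (3 ^ m))) =
    (3 ^ (2 * m + 1)) ^ 3 * (3 ^ (2 * m + 1) - 1) := by
  obtain ⟨s, hS⟩ := exists_isRankOne_ree hK
  rw [hS.card_borelIn, card_unipotent_ree hK, inf_comm, card_reeTorus hK]

theorem index_reeBorel (hm : 1 ≤ m) :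
    (borelIn chevG2 (twistedG2 K (3 ^ m))).index = (3 ^ (2 * m + 1)) ^ 3 + 1 := by
  have h := (borelIn chevG2 (twistedG2 K (3 ^ m))).card_mul_index
  rw [card_reeBorel hK, card_ree hK] at h
  have := (ree_q_data hm).1
  exact Nat.eq_of_mul_eq_mul_left (Nat.mul_pos (by positivity) (by omega)) h

theorem reeBorel_conj_mem {b u : ↥(twistedG2 K (3 ^ m))}
    (hb : b ∈ borelIn chevG2 (twistedG2 K (3 ^ m))) (hu : u ∈ reeU K m) :
    b * u * b⁻¹ ∈ reeU K m :=
  mem_reeU.2 (IsRankOne.conj_pos fullG2 (mem_borelIn_ree.1 hb) (mem_reeU.1 hu))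

theorem mem_reeBorel_of_conj {c u : ↥(twistedG2 K (3 ^ m))} (hu : u ∈ reeU K m) (hu1 : u ≠ 1)
    (hcu : c * u * c⁻¹ ∈ reeU K m) : c ∈ borelIn chevG2 (twistedG2 K (3 ^ m)) := by
  obtain ⟨s, hS⟩ := exists_isRankOne_ree hK
  exact mem_borelIn_ree.2 (hS.mem_borel_of_conj_mem c.2 (mem_reeU.1 hu)
    (fun e => hu1 (Subtype.ext e)) (mem_reeU.1 hcu))

/-- 3-elements are conjugate into `reeU`. -/
theorem exists_conj_reeU (hm : 1 ≤ m) {g : ↥(twistedG2 K (3 ^ m))} {k : ℕ}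
    (hg : orderOf g = 3 ^ k) : ∃ c, c * g * c⁻¹ ∈ reeU K m := by
  have : Fact (Nat.Prime 3) := ⟨Nat.prime_three⟩
  refine exists_conj_mem_of_index (reeU K m) ?_ hg
  have h := (reeU K m).card_mul_index
  rw [card_reeU hK, card_ree hK, mul_assoc] at h
  rw [Nat.eq_of_mul_eq_mul_left (by positivity) h, Nat.Prime.dvd_mul Nat.prime_three]
  obtain ⟨h27, -, h3⟩ := ree_q_data hm
  have : (3 ^ (2 * m + 1)) ^ 3 % 3 = 0 := by rw [Nat.pow_mod, h3]
  omega

/-- 3-elements have order dividing 9. -/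
theorem pow_nine_eq_one (hm : 1 ≤ m) {g : ↥(twistedG2 K (3 ^ m))} {k : ℕ}
    (hg : orderOf g = 3 ^ k) : g ^ 9 = 1 := by
  have := charP_ree hK
  have : Fact (Nat.Prime 3) := ⟨Nat.prime_three⟩
  obtain ⟨ρ, hρ⟩ := exists_reeSeven hK hm
  apply hρ
  rw [map_pow, map_one]
  apply Units.ext
  rw [Units.val_pow_eq_pow_val, Units.val_one]
  refine unipotent_pow_nine (by norm_num) _ k ?_
  rw [← Units.val_pow_eq_pow_val, ← map_pow, ← hg, pow_orderOf_eq_one, map_one, Units.val_one]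

/-- The involution of the torus. -/
theorem exists_reeH_involution : ∃ A : ↥(twistedG2 K (3 ^ m)),
    A ∈ reeH K m ∧ A ≠ 1 ∧ A * A = 1 := by
  obtain ⟨g, hg⟩ := reeTorus_neg_one hK
  have hg1 : g ≠ 1 := fun e => ree_neg_one_ne_one hK (by rw [← hg, e, map_one])
  have hg2 : g * g = 1 := reeTorusVal_injective hK (by rw [map_mul, hg, map_one]; ring)
  refine ⟨⟨g, g.2.2⟩, mem_reeH.2 g.2.1, fun e => hg1 (Subtype.ext ?_), Subtype.ext ?_⟩
  · exact (congrArg (fun w : ↥(twistedG2 K (3 ^ m)) => (w : GL chevG2.Idx K)) e)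
  · exact (congrArg (fun w : ↥(chevG2.diagonalSubgroup K ⊓ twistedG2 K (3 ^ m)) =>
      (w : GL chevG2.Idx K)) hg2)

theorem reeTorusVal_of_involution {A : ↥(twistedG2 K (3 ^ m))} (hA : A ∈ reeH K m) (hA1 : A ≠ 1)
    (hA2 : A * A = 1) :
    reeTorusVal (⟨A, mem_reeH.1 hA, A.2⟩ : ↥(chevG2.diagonalSubgroup K ⊓ twistedG2 K (3 ^ m))) = -1 :=
  reeTorusVal_involution hK
    (fun e => hA1 (Subtype.ext (congrArg (fun w : ↥(chevG2.diagonalSubgroup K ⊓ twistedG2 K (3 ^ m)) =>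
      (w : GL chevG2.Idx K)) e)))
    (Subtype.ext (congrArg (fun w : ↥(twistedG2 K (3 ^ m)) => (w : GL chevG2.Idx K)) hA2))

/-- The unipotents centralised by the involution of the torus. -/
theorem reeU_centralized {A u : ↥(twistedG2 K (3 ^ m))} (hA : A ∈ reeH K m) (hA1 : A ≠ 1)
    (hA2 : A * A = 1) : u ∈ reeU K m ∧ Commute A u ↔
      ∃ v : K, (u : GL chevG2.Idx K) = reeX m v := by
  have ha := reeTorusVal_of_involution hK hA hA1 hA2
  constructor
  · rintro ⟨hu, hc⟩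
    exact reeInv_unipotent hK ha ⟨u.2, mem_reeU.1 hu⟩
      (congrArg (fun w : ↥(twistedG2 K (3 ^ m)) => (w : GL chevG2.Idx K)) hc.eq)
  · rintro ⟨v, hv⟩
    refine ⟨mem_reeU.2 ?_, Subtype.ext ?_⟩
    · rw [hv, reeX_eq_word]
      exact ((mem_unipotent_g2 hK (g2Twist_isTwist hK) le_rfl _).2 ⟨0, v, 0, rfl⟩).2
    · show (A : GL chevG2.Idx K) * u = u * A
      rw [hv]
      exact (reeInv_commute hK ha v).1

theorem card_reeU_centralized {A : ↥(twistedG2 K (3 ^ m))} (hA : A ∈ reeH K m) (hA1 : A ≠ 1)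
    (hA2 : A * A = 1) :
    Nat.card ↥(reeU K m ⊓ Subgroup.centralizer {A}) = 3 ^ (2 * m + 1) := by
  have hmem : ∀ u, u ∈ reeU K m ⊓ Subgroup.centralizer {A} ↔
      ∃ v : K, (u : GL chevG2.Idx K) = reeX m v := fun u => by
    rw [← reeU_centralized hK hA hA1 hA2, Subgroup.mem_inf, Subgroup.mem_centralizer_singleton_iff]
    exact and_congr_right fun _ => ⟨fun h => h.symm, fun h => h.eq.symm⟩
  let f : K → ↥(reeU K m ⊓ Subgroup.centralizer {A}) := fun v =>
    ⟨⟨reeX m v, reeX_mem v⟩, (hmem _).2 ⟨v, rfl⟩⟩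
  rw [← Nat.card_eq_of_bijective f ⟨fun v w e => ?_, fun u => ?_⟩, Nat.card_eq_fintype_card, hK]
  · have e' : reeX m v = reeX m w :=
      congrArg (fun z : ↥(reeU K m ⊓ Subgroup.centralizer {A}) => ((z : ↥(twistedG2 K (3 ^ m))) : GL chevG2.Idx K)) e
    have h : reeX m (v + -w) = 1 := by
      rw [← reeX_add hK, e', reeX_add hK, add_neg_cancel, (reeX_eq_one_iff hK 0).2 rfl]
    exact eq_of_add_neg_eq_zero ((reeX_eq_one_iff hK _).1 h)
  · obtain ⟨v, hv⟩ := (hmem u).1 u.2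
    exact ⟨v, Subtype.ext (Subtype.ext hv.symm)⟩

theorem card_centralizer_reeInvolution {A : ↥(twistedG2 K (3 ^ m))} (hA : A ∈ reeH K m)
    (hA1 : A ≠ 1) (hA2 : A * A = 1) : Nat.card (Subgroup.centralizer ({A} : Set ↥(twistedG2 K (3 ^ m)))) =
      3 ^ (2 * m + 1) * ((3 ^ (2 * m + 1)) ^ 2 - 1) := by
  obtain ⟨e⟩ := ree_centralizer_involution hK (mem_reeH.1 hA) hA1 hA2
  rw [← Nat.card_congr e.toEquiv, Nat.card_prod, Nat.card_congr Multiplicative.toAdd, Nat.card_zmod,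
    CfsgLib.ClassicalLinear.card_PSL_two_of_odd hK ((by decide : Odd 3).pow)]

/-- 3-elements centralising the involution are conjugate within the centraliser into `reeU`. -/
theorem exists_conj_centralized {A z : ↥(twistedG2 K (3 ^ m))} (hA : A ∈ reeH K m) (hA1 : A ≠ 1)
    (hA2 : A * A = 1) (hc : Commute z A) {k : ℕ} (hz : orderOf z = 3 ^ k) :
    ∃ d, Commute d A ∧ d * z * d⁻¹ ∈ reeU K m := by
  have : Fact (Nat.Prime 3) := ⟨Nat.prime_three⟩
  set C := Subgroup.centralizer ({A} : Set ↥(twistedG2 K (3 ^ m)))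
  have hidx : ¬ 3 ∣ ((reeU K m ⊓ C).subgroupOf C).index := by
    have h := ((reeU K m ⊓ C).subgroupOf C).card_mul_index
    rw [Nat.card_congr (Subgroup.subgroupOfEquivOfLe inf_le_right).toEquiv,
      card_reeU_centralized hK hA hA1 hA2, card_centralizer_reeInvolution hK hA hA1 hA2] at h
    rw [Nat.eq_of_mul_eq_mul_left (by positivity) h]
    have h3 : (3 ^ (2 * m + 1)) ^ 2 % 3 = 0 := by
      rw [Nat.pow_mod, pow_succ 3 (2 * m), Nat.mul_mod_left]
    have : 0 < (3 ^ (2 * m + 1)) ^ 2 := by positivity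
    omega
  obtain ⟨⟨d, hd⟩, hd'⟩ := exists_conj_mem_of_index _ hidx
    (y := (⟨z, Subgroup.mem_centralizer_singleton_iff.2 hc.eq⟩ : C)) (k := k)
    (by rw [← Subgroup.orderOf_coe]; exact hz)
  exact ⟨d, Subgroup.mem_centralizer_singleton_iff.1 hd, (Subgroup.mem_subgroupOf.1 hd').1⟩

/-- Elements of order seven normalising a Sylow 2-subgroup fix only the identity in it. -/
theorem sylow_two_seven_free (S : Sylow 2 ↥(twistedG2 K (3 ^ m))) {n : ↥(twistedG2 K (3 ^ m))}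
    (hn : n ∈ Subgroup.normalizer ((S : Subgroup ↥(twistedG2 K (3 ^ m))) : Set ↥(twistedG2 K (3 ^ m))))
    (ho : orderOf n = 7) : ∀ x ∈ S, Commute n x → x = 1 := by
  classical
  have : Fact (Nat.Prime 7) := ⟨by norm_num⟩
  obtain ⟨h8, hsq, hcen⟩ := ree_sylow_two' hK S
  set φ := (S : Subgroup ↥(twistedG2 K (3 ^ m))).normalizerMonoidHom
  set R := Subgroup.zpowers (φ ⟨n, hn⟩)
  have hR : IsPGroup 7 R := by
    intro r
    obtain ⟨j, hj⟩ := Subgroup.mem_zpowers_iff.1 r.2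
    refine ⟨1, Subtype.ext ?_⟩
    have h7 : (⟨n, hn⟩ : Subgroup.normalizer ((S : Subgroup ↥(twistedG2 K (3 ^ m))) :
      Set ↥(twistedG2 K (3 ^ m)))) ^ 7 = 1 := Subtype.ext (by
        show n ^ 7 = 1; rw [← ho, pow_orderOf_eq_one])
    rw [Subgroup.coe_pow, ← hj, pow_one, ← zpow_natCast, ← zpow_mul, mul_comm, zpow_mul,
      zpow_natCast, ← map_pow, h7, map_one, one_zpow, Subgroup.coe_one]
  set W := (S : Subgroup ↥(twistedG2 K (3 ^ m))) ⊓ Subgroup.centralizer {n}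
  have hmod := hR.card_modEq_card_fixedPoints (S : Subgroup ↥(twistedG2 K (3 ^ m)))
  have hfix : Nat.card (MulAction.fixedPoints R (S : Subgroup ↥(twistedG2 K (3 ^ m)))) = Nat.card W := by
    refine Nat.card_congr
      ⟨fun x => ⟨x.1, x.1.2, ?_⟩, fun x => ⟨⟨x.1, x.2.1⟩, fun r => ?_⟩, fun x => rfl, fun x => rfl⟩
    · have h := congrArg Subtype.val (x.2 ⟨φ ⟨n, hn⟩, Subgroup.mem_zpowers _⟩)
      change n * (x.1 : ↥(twistedG2 K (3 ^ m))) * n⁻¹ = x.1 at h
      exact Subgroup.mem_centralizer_singleton_iff.2 (mul_inv_eq_iff_eq_mul.1 h).symm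
    · have hst : φ ⟨n, hn⟩ ∈ MulAction.stabilizer (MulAut (S : Subgroup ↥(twistedG2 K (3 ^ m))))
          (⟨x.1, x.2.1⟩ : (S : Subgroup ↥(twistedG2 K (3 ^ m)))) :=
        MulAction.mem_stabilizer_iff.2 (Subtype.ext (by
          show n * (x.1 : ↥(twistedG2 K (3 ^ m))) * n⁻¹ = x.1
          rw [mul_inv_eq_iff_eq_mul, Subgroup.mem_centralizer_singleton_iff.1 x.2.2]))
      exact Subgroup.zpowers_le.2 hst r.2
  rw [hfix, show Nat.card (S : Subgroup ↥(twistedG2 K (3 ^ m))) = 8 from h8] at hmod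
  have hW1 : Nat.card W = 1 := by
    have hdvd := Subgroup.card_dvd_of_le (show W ≤ (S : Subgroup ↥(twistedG2 K (3 ^ m))) from inf_le_left)
    rw [show Nat.card (S : Subgroup ↥(twistedG2 K (3 ^ m))) = 8 from h8] at hdvd
    have h8' : Nat.card W ≠ 8 := by
      intro e
      have hWS : W = (S : Subgroup ↥(twistedG2 K (3 ^ m))) :=
        Subgroup.eq_of_le_of_card_ge inf_le_left (le_of_eq (h8.trans e.symm))
      have hnS : n ∈ S := by
        have : n ∈ Subgroup.centralizer ((S : Subgroup ↥(twistedG2 K (3 ^ m))) : Set ↥(twistedG2 K (3 ^ m))) := by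
          refine Subgroup.mem_centralizer_iff.2 fun x hx => ?_
          have hxW : x ∈ W := hWS.ge hx
          exact Subgroup.mem_centralizer_singleton_iff.1 hxW.2
        rwa [hcen] at this
      have h2 : orderOf n ∣ 2 := orderOf_dvd_of_pow_eq_one (by rw [pow_two, hsq n hnS])
      rw [ho] at h2
      norm_num at h2
    have hle := Nat.le_of_dvd (by norm_num) hdvd
    unfold Nat.ModEq at hmod
    interval_cases (Nat.card W) <;> omega
  intro x hx hcx
  have : W = ⊥ := Subgroup.card_eq_one.1 hW1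
  rw [← Subgroup.mem_bot, ← this]
  exact ⟨hx, Subgroup.mem_centralizer_singleton_iff.2 hcx.eq.symm⟩

/-- The involutions form one class. -/
theorem exists_conj_involution (hm : 1 ≤ m) {A t : ↥(twistedG2 K (3 ^ m))} (hA : A ∈ reeH K m)
    (hA1 : A ≠ 1) (hA2 : A * A = 1) (ht1 : t ≠ 1) (ht2 : t * t = 1) :
    ∃ c, c * t * c⁻¹ = A := by
  classical
  have : Fact (Nat.Prime 2) := ⟨Nat.prime_two⟩
  have : Fact (Nat.Prime 7) := ⟨by norm_num⟩
  have h2g : ∀ g : ↥(twistedG2 K (3 ^ m)), g ≠ 1 → g * g = 1 → IsPGroup 2 (Subgroup.zpowers g) :=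
    fun g h1 h2 => IsPGroup.of_card (n := 1) (by
      rw [Nat.card_zpowers, pow_one]
      exact orderOf_eq_prime (by rw [pow_two, h2]) h1)
  obtain ⟨S, hS⟩ := (h2g A hA1 hA2).exists_le_sylow
  obtain ⟨T, hT⟩ := (h2g t ht1 ht2).exists_le_sylow
  obtain ⟨c, hc⟩ := MulAction.exists_smul_eq ↥(twistedG2 K (3 ^ m)) T S
  have ht : c * t * c⁻¹ ∈ S := by
    rw [← hc]
    exact Subgroup.smul_mem_pointwise_smul t (MulAut.conj c) _ (hT (Subgroup.mem_zpowers t))
  obtain ⟨h8, hsq, hcen⟩ := ree_sylow_two' hK S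
  obtain ⟨⟨n, hn⟩, ho⟩ := exists_prime_orderOf_dvd_card' 7
    (show 7 ∣ Nat.card (Subgroup.normalizer ((S : Subgroup ↥(twistedG2 K (3 ^ m))) :
      Set ↥(twistedG2 K (3 ^ m)))) by rw [ree_card_normalizer_sylow_two hK hm S]; norm_num)
  rw [← Subgroup.orderOf_coe] at ho
  change orderOf n = 7 at ho
  have hfree := sylow_two_seven_free hK S hn ho
  have hAS : A ∈ S := hS (Subgroup.mem_zpowers A)
  have hnS : ∀ (i : ℕ) {x}, x ∈ S → n ^ i * x * (n ^ i)⁻¹ ∈ S := fun i x hx =>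
    (Subgroup.mem_normalizer_iff.1 (pow_mem hn i) x).1 hx
  let f : Fin 7 → {x : (S : Subgroup ↥(twistedG2 K (3 ^ m))) // x ≠ 1} := fun i =>
    ⟨⟨n ^ (i : ℕ) * A * (n ^ (i : ℕ))⁻¹, hnS i hAS⟩, fun e => hA1 (conj_eq_one_iff.1 (congrArg Subtype.val e))⟩
  have hinj : Function.Injective f := by
    suffices h : ∀ i j : Fin 7, i ≤ j → f i = f j → i = j by
      intro i j e
      rcases le_total i j with h' | h'
      · exact h i j h' e
      · exact (h j i h' e.symm).symm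
    intro i j hij e
    by_contra hne
    have e' : n ^ (i : ℕ) * A * (n ^ (i : ℕ))⁻¹ = n ^ (j : ℕ) * A * (n ^ (j : ℕ))⁻¹ :=
      congrArg (fun x : {x : (S : Subgroup ↥(twistedG2 K (3 ^ m))) // x ≠ 1} =>
        ((x : (S : Subgroup ↥(twistedG2 K (3 ^ m)))) : ↥(twistedG2 K (3 ^ m)))) e
    have hd : Commute (n ^ ((j : ℕ) - i)) A := by
      have hsplit : n ^ (j : ℕ) = n ^ (i : ℕ) * n ^ ((j : ℕ) - i) := by
        rw [← pow_add, Nat.add_sub_cancel' (Fin.le_def.1 hij)]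
      rw [hsplit, mul_inv_rev] at e'
      refine mul_inv_eq_iff_eq_mul.1 ?_
      refine mul_left_cancel (a := n ^ (i : ℕ)) (mul_right_cancel (b := (n ^ (i : ℕ))⁻¹) ?_)
      calc _ = n ^ (i : ℕ) * n ^ ((j : ℕ) - i) * A * ((n ^ ((j : ℕ) - i))⁻¹ * (n ^ (i : ℕ))⁻¹) := by group
        _ = _ := e'.symm
    have hcop : Nat.Coprime ((j : ℕ) - i) (orderOf n) := by
      rw [ho]
      refine (Nat.Prime.coprime_iff_not_dvd (by norm_num)).2 (fun h => ?_) |>.symm
      have hj := j.isLt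
      have : (i : ℕ) < j := lt_of_le_of_ne (Fin.le_def.1 hij) (fun h' => hne (Fin.ext h'))
      have := Nat.le_of_dvd (by omega) h
      omega
    obtain ⟨l, hl⟩ := exists_pow_eq_self_of_coprime hcop
    exact hA1 (hfree A hAS (hl ▸ hd.pow_left l))
  have hcard : Nat.card {x : (S : Subgroup ↥(twistedG2 K (3 ^ m))) // x ≠ 1} = 7 := by
    have := Fintype.ofFinite (S : Subgroup ↥(twistedG2 K (3 ^ m)))
    rw [Nat.card_eq_fintype_card, Fintype.card_subtype_compl, Fintype.card_subtype_eq,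
      ← Nat.card_eq_fintype_card, h8]
  have hsurj := (hinj.bijective_of_nat_card_le (by rw [hcard, Nat.card_eq_fintype_card, Fintype.card_fin])).2
  obtain ⟨i, hi⟩ := hsurj ⟨⟨c * t * c⁻¹, ht⟩, fun e => ht1 (conj_eq_one_iff.1 (congrArg Subtype.val e))⟩
  have e : n ^ (i : ℕ) * A * (n ^ (i : ℕ))⁻¹ = c * t * c⁻¹ :=
    congrArg (fun x : {x : (S : Subgroup ↥(twistedG2 K (3 ^ m))) // x ≠ 1} =>
      ((x : (S : Subgroup ↥(twistedG2 K (3 ^ m)))) : ↥(twistedG2 K (3 ^ m)))) hi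
  refine ⟨(n ^ (i : ℕ))⁻¹ * c, ?_⟩
  calc _ = (n ^ (i : ℕ))⁻¹ * (c * t * c⁻¹) * n ^ (i : ℕ) := by group
    _ = A := by rw [← e]; group

/-- A non-trivial torus element of odd order has the torus as centraliser, and controls its
normaliser. -/
theorem reeH_odd {y : ↥(twistedG2 K (3 ^ m))} (hy : y ∈ reeH K m) (hy1 : y ≠ 1)
    (hodd : Odd (orderOf y)) :
    ∃ w : ↥(twistedG2 K (3 ^ m)), w ∉ borelIn chevG2 (twistedG2 K (3 ^ m)) ∧
      (∀ h ∈ reeH K m, w * h * w⁻¹ = h⁻¹) ∧ Subgroup.centralizer {y} = reeH K m ∧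
      ∀ g, g * y * g⁻¹ ∈ reeH K m → g ∈ reeH K m ∨ g * w ∈ reeH K m := by
  obtain ⟨A, hA, hA1, hA2⟩ := exists_reeH_involution hK
  have ha := reeTorusVal_of_involution hK hA hA1 hA2
  obtain ⟨φ, hφX, hφY⟩ := exists_reeHom hK
  have hφW : ∀ t, φ (wEl slX slY t) = wEl (reeX m) (reeY m) t := fun t => by simp [wEl, hφX, hφY]
  have hφH : ∀ t, φ (hEl slX slY t) = hEl (reeX m) (reeY m) t := fun t => by simp [hEl, hφW]
  set w := wEl (reeX m) (reeY m) (1 : K) with hw
  have hwG : w ∈ twistedG2 K (3 ^ m) := by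
    simp only [hw, wEl]
    exact mul_mem (mul_mem (reeX_mem _) (reeY_mem _)) (reeX_mem _)
  have hwN : w ∈ chevG2.monomialSubgroup K := by
    rw [hw, wEl_ree, one_pow]
    exact mul_mem (Subgroup.mem_sup_right (Subgroup.subset_closure ⟨g2ab, by decide, CfsgLib.Chevalley.coe_nG _ _ _⟩))
      (Subgroup.mem_sup_right (Subgroup.subset_closure ⟨g2aaab, by decide, CfsgLib.Chevalley.coe_nG _ _ _⟩))
  have hinvH : ∀ {c : K}, c ≠ 0 →
      w * hEl (reeX m) (reeY m) c * w⁻¹ = (hEl (reeX m) (reeY m) c)⁻¹ := by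
    intro c hc
    rw [hw, ← hφW, ← hφH, ← map_inv, ← map_mul, ← map_mul, ← map_inv]
    congr 1
    rw [hEl]
    refine Subtype.ext ?_
    simp only [Matrix.SpecialLinearGroup.coe_mul, Matrix.SpecialLinearGroup.coe_inv,
      coe_wEl_sl (one_ne_zero (α := K)), coe_wEl_sl hc, Matrix.adjugate_fin_two_of, mul_inv_rev,
      inv_inv]
    ext i j
    fin_cases i <;> fin_cases j <;> simp [hc]
  have hwA : Commute (A : GL chevG2.Idx K) w := by
    simp only [hw, wEl]
    exact (((reeInv_commute hK ha _).1.mul_right (reeInv_commute hK ha _).2).mul_right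
      (reeInv_commute hK ha _).1)
  have hA2' : (A : GL chevG2.Idx K) * A = 1 :=
    congrArg (fun x : ↥(twistedG2 K (3 ^ m)) => (x : GL chevG2.Idx K)) hA2
  have hinv : ∀ h ∈ reeH K m, w * (h : GL chevG2.Idx K) * w⁻¹ = (h : GL chevG2.Idx K)⁻¹ := by
    intro h hh
    obtain ⟨c, hc, e | e⟩ := reeTorus_cases hK (g := ⟨_, mem_reeH.1 hh, h.2⟩) ha
    · simp only at e
      rw [e, hinvH hc]
    · simp only at e
      have hcA : Commute (A : GL chevG2.Idx K) (hEl (reeX m) (reeY m) c) := by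
        simp only [hEl, wEl]
        exact ((((reeInv_commute hK ha _).1.mul_right (reeInv_commute hK ha _).2).mul_right
          (reeInv_commute hK ha _).1).mul_right
          ((((reeInv_commute hK ha _).1.mul_right (reeInv_commute hK ha _).2).mul_right
          (reeInv_commute hK ha _).1)).inv_right)
      rw [e, mul_inv_rev, show (A : GL chevG2.Idx K)⁻¹ = A from inv_eq_of_mul_eq_one_left hA2',
        ← (hcA.inv_right).eq, ← mul_assoc w, ← hwA.eq, mul_assoc (A : GL chevG2.Idx K),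
        mul_assoc (A : GL chevG2.Idx K), ← hinvH hc]
  have hwB : w ∉ chevG2.borelSubgroup K := by
    intro hB
    have hd : w ∈ chevG2.diagonalSubgroup K := by
      rw [← CfsgLib.Chevalley.borel_inf_monomial fullG2]
      exact ⟨hB, hwN⟩
    have h1 := hinv y hy
    have h2 := congrArg (fun x : reeH K m => ((x : ↥(twistedG2 K (3 ^ m))) : GL chevG2.Idx K))
      ((isCyclic_reeH hK).isMulCommutative.is_comm.comm ⟨⟨w, hwG⟩, mem_reeH.2 hd⟩ ⟨y, hy⟩)
    simp only [Subgroup.coe_mul] at h2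
    rw [h2, mul_inv_cancel_right] at h1
    have h3 : y * y = 1 := by
      refine Subtype.ext ?_
      show (y : GL chevG2.Idx K) * y = 1
      nth_rw 2 [h1]
      rw [mul_inv_cancel]
    have h4 : orderOf y ∣ 2 := orderOf_dvd_of_pow_eq_one (by rw [pow_two, h3])
    rcases (Nat.dvd_prime Nat.prime_two).1 h4 with h | h
    · exact hy1 (orderOf_eq_one_iff.1 h)
    · rw [h] at hodd; exact absurd hodd (by decide)
  obtain ⟨s, hs⟩ := exists_isRankOne_ree hK
  have hS := hs.of_monomial hwG hwN hwB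
  set W : ↥(twistedG2 K (3 ^ m)) := ⟨w, hwG⟩
  have hWinv : ∀ h ∈ reeH K m, W * h * W⁻¹ = h⁻¹ := fun h hh => Subtype.ext (hinv h hh)
  have hfp : ∀ {z : ↥(twistedG2 K (3 ^ m))}, z ∈ reeH K m → z ≠ 1 → Odd (orderOf z) →
      ∀ {u : GL chevG2.Idx K}, u ∈ twistedG2 K (3 ^ m) → u ∈ chevG2.posUnipotent K →
        Commute (z : GL chevG2.Idx K) u → u = 1 := by
    intro z hz hz1 hzo u hu huU hc
    refine reeTorus_centralizer_trivial hK ⟨mem_reeH.1 hz, z.2⟩
      (fun e => hz1 (Subtype.ext e)) ?_ ⟨huU, hu⟩ hc.eq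
    rwa [Subgroup.orderOf_coe]
  -- inside the Borel subgroup
  have hinB : ∀ {z g : ↥(twistedG2 K (3 ^ m))}, z ∈ reeH K m → z ≠ 1 → Odd (orderOf z) →
      g ∈ borelIn chevG2 (twistedG2 K (3 ^ m)) → g * z * g⁻¹ ∈ reeH K m → g ∈ reeH K m := by
    intro z g hz hz1 hzo hgB hgz
    obtain ⟨u, t, hu, huU, ht, htH, hg⟩ := hS.borel g g.2 (mem_borelIn_ree.1 hgB)
    have htz : Commute t (z : GL chevG2.Idx K) := by
      obtain ⟨c, rfl⟩ := (CfsgLib.Chevalley.diagonalSubgroup_eq_range fullG2).le htH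
      obtain ⟨d, hd⟩ := (CfsgLib.Chevalley.diagonalSubgroup_eq_range fullG2).le (mem_reeH.1 hz)
      rw [← hd]
      exact (Commute.all c d).map _
    have hd : u * (z : GL chevG2.Idx K) * u⁻¹ ∈ chevG2.diagonalSubgroup K := by
      have h := mem_reeH.1 hgz
      rw [show ((g * z * g⁻¹ : ↥(twistedG2 K (3 ^ m))) : GL chevG2.Idx K) =
        u * (t * (z : GL chevG2.Idx K) * t⁻¹) * u⁻¹ by
          simp only [Subgroup.coe_mul, Subgroup.coe_inv, hg]; group] at h
      rwa [htz.eq, mul_inv_cancel_right] at h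
    have h1 : u * ((z : GL chevG2.Idx K) * u⁻¹ * (z : GL chevG2.Idx K)⁻¹) = 1 := by
      refine CfsgLib.Chevalley.eq_one_of_mem_pos_diagonal fullG2
        (mul_mem huU (IsRankOne.conj_pos fullG2 (Subgroup.mem_sup_right (mem_reeH.1 hz)) (inv_mem huU))) ?_
      rw [show u * ((z : GL chevG2.Idx K) * u⁻¹ * (z : GL chevG2.Idx K)⁻¹) =
        u * (z : GL chevG2.Idx K) * u⁻¹ * (z : GL chevG2.Idx K)⁻¹ by group]
      exact mul_mem hd (inv_mem (mem_reeH.1 hz))
    have hu1 : u = 1 := hfp hz hz1 hzo hu huU (by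
      have h2 : u * (z : GL chevG2.Idx K) * u⁻¹ = z := by
        rw [← mul_inv_eq_one]; rw [← h1]; group
      exact (mul_inv_eq_iff_eq_mul.1 h2).symm)
    rw [mem_reeH, hg, hu1, one_mul]
    exact htH
  have main : ∀ g, g * y * g⁻¹ ∈ reeH K m → g ∈ reeH K m ∨ g * W ∈ reeH K m := by
    intro g hg
    rcases hS.cover _ (g⁻¹).2 with hB | ⟨u, b, hu, huU, hb, hbB, e⟩
    · exact Or.inl (hinB hy hy1 hodd (by rw [← inv_inv g]; exact inv_mem (mem_borelIn_ree.2 hB)) hg)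
    refine Or.inr (hinB (z := y⁻¹) (inv_mem hy) (inv_ne_one.2 hy1) (by rwa [orderOf_inv]) ?_ ?_)
    · set y' := g * y * g⁻¹ with hy'
      have ey : (y : GL chevG2.Idx K) * (u * w * b) = u * w * b * (y' : GL chevG2.Idx K) := by
        rw [← e, hy']
        simp only [Subgroup.coe_mul, Subgroup.coe_inv]
        group
      have hyd := mem_reeH.1 hy
      have hu' : u⁻¹ * ((y : GL chevG2.Idx K) * u * (y : GL chevG2.Idx K)⁻¹) = 1 := by
        refine hS.eq_one_of_conj_mem (mul_mem (inv_mem huU)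
          (IsRankOne.conj_pos fullG2 (Subgroup.mem_sup_right hyd) huU)) hyd ?_
        have hmem : b * (y' : GL chevG2.Idx K) * b⁻¹ ∈ chevG2.borelSubgroup K :=
          mul_mem (mul_mem hbB (Subgroup.mem_sup_right (mem_reeH.1 hg))) (inv_mem hbB)
        convert hmem using 1
        calc w⁻¹ * (u⁻¹ * ((y : GL chevG2.Idx K) * u * (y : GL chevG2.Idx K)⁻¹) * (y : GL chevG2.Idx K)) * w
            = w⁻¹ * u⁻¹ * ((y : GL chevG2.Idx K) * (u * w * b)) * b⁻¹ := by group
          _ = _ := by rw [ey]; group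
      have hu1 : u = 1 := hfp hy hy1 hodd hu huU (by
        exact mul_inv_eq_iff_eq_mul.1 (inv_mul_eq_one.1 hu').symm)
      rw [mem_borelIn_ree, Subgroup.coe_mul, show (g : GL chevG2.Idx K) = b⁻¹ * w⁻¹ by
        rw [← inv_inv (g : GL chevG2.Idx K), ← Subgroup.coe_inv, e, hu1]; group]
      show b⁻¹ * w⁻¹ * w ∈ _
      rw [inv_mul_cancel_right]
      exact inv_mem hbB
    · rw [show g * W * y⁻¹ * (g * W)⁻¹ = g * (W * y⁻¹ * W⁻¹) * g⁻¹ by group, hWinv _ (inv_mem hy), inv_inv]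
      exact hg
  refine ⟨W, fun h => hwB (mem_borelIn_ree.1 h), hWinv, ?_, main⟩
  ext g
  rw [Subgroup.mem_centralizer_singleton_iff]
  constructor
  · intro hg
    have hgy : g * y * g⁻¹ = y := by rw [hg, mul_inv_cancel_right]
    rcases main g (hgy.symm ▸ hy) with h | h
    · exact h
    exfalso
    have h2 : (g * W) * y * (g * W)⁻¹ = y := by
      have := congrArg Subtype.val ((isCyclic_reeH hK).isMulCommutative.is_comm.comm ⟨g * W, h⟩ ⟨y, hy⟩)
      simp only [Subgroup.coe_mul] at this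
      rw [this, mul_inv_cancel_right]
    have h3 : g * y⁻¹ * g⁻¹ = y := by
      rw [show g * y⁻¹ * g⁻¹ = g * (W * y * W⁻¹) * g⁻¹ by rw [hWinv y hy]]
      have e2 : g * (W * y * W⁻¹) * g⁻¹ = g * W * y * (g * W)⁻¹ := by group
      rw [e2, h2]
    have h4 : y⁻¹ = y := by rw [← conj_inv, hgy] at h3; exact h3
    have h5 : orderOf y ∣ 2 := orderOf_dvd_of_pow_eq_one (by rw [pow_two]; nth_rw 1 [← h4]; rw [inv_mul_cancel])
    rcases (Nat.dvd_prime Nat.prime_two).1 h5 with h | h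
    · exact hy1 (orderOf_eq_one_iff.1 h)
    · rw [h] at hodd; exact absurd hodd (by decide)
  · intro hg
    exact congrArg Subtype.val ((isCyclic_reeH hK).isMulCommutative.is_comm.comm ⟨g, hg⟩ ⟨y, hy⟩)

/-- An element whose order is divisible by three has order a power of three, or six. -/
theorem orderOf_of_three_dvd (hm : 1 ≤ m) {g : ↥(twistedG2 K (3 ^ m))} (h3 : 3 ∣ orderOf g) :
    (∃ k, orderOf g = 3 ^ k) ∨ orderOf g = 6 := by
  classical
  have : Fact (Nat.Prime 3) := ⟨Nat.prime_three⟩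
  have : Fact (Nat.Prime 2) := ⟨Nat.prime_two⟩
  have hn0 : orderOf g ≠ 0 := (orderOf_pos g).ne'
  have hu : orderOf (g ^ (orderOf g / 3)) = 3 := orderOf_pow_orderOf_div hn0 h3
  obtain ⟨c, hc⟩ := exists_conj_reeU hK hm (k := 1) hu
  set g' := c * g * c⁻¹
  set u := g' ^ (orderOf g / 3) with hud
  have hordg : orderOf g' = orderOf g := orderOf_injective (MulAut.conj c).toMonoidHom (MulAut.conj c).injective g
  have hu' : u ∈ reeU K m ∧ orderOf u = 3 := by
    refine ⟨by rw [hud, conj_pow]; exact hc, ?_⟩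
    rw [hud, ← hordg]
    exact orderOf_pow_orderOf_div (orderOf_pos g').ne' (hordg ▸ h3)
  have hu1 : u ≠ 1 := fun e => by have := hu'.2; rw [e, orderOf_one] at this; omega
  have hgB : g' ∈ borelIn chevG2 (twistedG2 K (3 ^ m)) :=
    mem_reeBorel_of_conj hK hu'.1 hu1 (by rw [hud, (Commute.self_pow g' _).eq, mul_inv_cancel_right]; exact hu'.1)
  have hne : ∀ ℓ, ℓ.Prime → ℓ ∣ orderOf g → ℓ = 2 ∨ ℓ = 3 := by
    intro ℓ hℓ hd
    by_contra hcon
    simp only [not_or] at hcon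
    have : Fact ℓ.Prime := ⟨hℓ⟩
    set B := borelIn chevG2 (twistedG2 K (3 ^ m))
    set y := g' ^ (orderOf g / ℓ)
    have hy : orderOf y = ℓ := by
      show orderOf (g' ^ (orderOf g / ℓ)) = ℓ
      rw [← hordg]
      exact orderOf_pow_orderOf_div (orderOf_pos g').ne' (hordg ▸ hd)
    have hHB : reeH K m ≤ B := fun x hx => mem_borelIn_ree.2 (Subgroup.mem_sup_right (mem_reeH.1 hx))
    have hidx : ¬ ℓ ∣ ((reeH K m).subgroupOf B).index := by
      have h := ((reeH K m).subgroupOf B).card_mul_index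
      rw [Nat.card_congr (Subgroup.subgroupOfEquivOfLe hHB).toEquiv, card_reeH hK, card_reeBorel hK,
        mul_comm ((3 ^ (2 * m + 1)) ^ 3)] at h
      rw [Nat.eq_of_mul_eq_mul_left (by have := (ree_q_data hm).1; omega) h]
      exact fun h => hcon.2 ((Nat.prime_dvd_prime_iff_eq hℓ Nat.prime_three).1
        (hℓ.dvd_of_dvd_pow (hℓ.dvd_of_dvd_pow h)))
    obtain ⟨⟨b, hb⟩, hby⟩ := exists_conj_mem_of_index _ hidx
      (y := (⟨y, pow_mem hgB _⟩ : B)) (k := 1) (by rw [← Subgroup.orderOf_coe, pow_one]; exact hy)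
    have hby' : b * y * b⁻¹ ∈ reeH K m := Subgroup.mem_subgroupOf.1 hby
    have hoy : orderOf (b * y * b⁻¹) = ℓ := by
      rw [← hy]; exact orderOf_injective (MulAut.conj b).toMonoidHom (MulAut.conj b).injective y
    have h1 : b * u * b⁻¹ = 1 := by
      refine Subtype.ext ?_
      refine reeTorus_centralizer_trivial hK ⟨mem_reeH.1 hby', (b * y * b⁻¹).2⟩ ?_ ?_
        ⟨mem_reeU.1 (reeBorel_conj_mem hK hb hu'.1), (b * u * b⁻¹).2⟩ ?_
      · intro e
        have : b * y * b⁻¹ = 1 := Subtype.ext e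
        rw [this, orderOf_one] at hoy
        exact hℓ.one_lt.ne hoy
      · rw [Subgroup.orderOf_coe, hoy]; exact hℓ.odd_of_ne_two hcon.1
      · exact congrArg Subtype.val
          ((((Commute.refl g').pow_pow (orderOf g / ℓ) (orderOf g / 3))).map (MulAut.conj b).toMonoidHom).eq
    exact hu1 (conj_eq_one_iff.1 h1)
  obtain ⟨b, n, hn, hbn⟩ := Nat.exists_eq_pow_mul_and_not_dvd hn0 3 (by norm_num)
  -- the part prime to three
  have hn2 : n ∣ 2 := by
    obtain ⟨a, r, hr, hnr⟩ := Nat.exists_eq_pow_mul_and_not_dvd (n := n)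
      (fun e => hn (e ▸ dvd_zero 3)) 2 (by norm_num)
    have hr1 : r = 1 := by
      by_contra h
      obtain ⟨ℓ, hℓ, hd⟩ := Nat.exists_prime_and_dvd h
      rcases hne ℓ hℓ (hbn ▸ hnr ▸ dvd_mul_of_dvd_right (dvd_mul_of_dvd_right hd _) _) with rfl | rfl
      · exact hr hd
      · exact hn (hnr ▸ dvd_mul_of_dvd_right hd _)
    rw [hr1, mul_one] at hnr
    set z := g ^ 3 ^ b with hz
    have hoz : orderOf z = n := by
      rw [hz, orderOf_pow' g (by positivity), hbn, Nat.gcd_eq_right (dvd_mul_right _ _),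
        Nat.mul_div_cancel_left n (by positivity)]
    obtain ⟨S, hS⟩ := (IsPGroup.of_card (p := 2) (n := a)
      (by rw [Nat.card_zpowers, hoz, hnr]) : IsPGroup 2 (Subgroup.zpowers z)).exists_le_sylow
    rw [← hoz]
    exact orderOf_dvd_of_pow_eq_one (by rw [pow_two]; exact (ree_sylow_two' hK S).2.1 z (hS (Subgroup.mem_zpowers z)))
  rcases (Nat.dvd_prime Nat.prime_two).1 hn2 with rfl | rfl
  · exact Or.inl ⟨b, by rw [hbn, mul_one]⟩
  refine Or.inr ?_
  have hb1 : 1 ≤ b := by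
    rcases Nat.eq_zero_or_pos b with rfl | hb
    · rw [hbn] at h3; norm_num at h3
    · exact hb
  set t := g ^ 3 ^ b with ht
  have hot : orderOf t = 2 := by
    rw [ht, orderOf_pow' g (by positivity), hbn, Nat.gcd_eq_right (dvd_mul_right _ _),
      Nat.mul_div_cancel_left 2 (by positivity)]
  obtain ⟨A, hA, hA1, hA2⟩ := exists_reeH_involution hK
  obtain ⟨d, hd⟩ := exists_conj_involution hK hm (t := t) hA hA1 hA2
    (fun e => by rw [e, orderOf_one] at hot; omega)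
    (by rw [← pow_two, ← hot, pow_orderOf_eq_one])
  set z := d * g ^ 2 * d⁻¹
  have hoz : orderOf z = 3 ^ b := by
    rw [show orderOf z = orderOf (g ^ 2) from orderOf_injective (MulAut.conj d).toMonoidHom (MulAut.conj d).injective _,
      orderOf_pow' g two_ne_zero, hbn, Nat.gcd_eq_right (dvd_mul_left _ _), Nat.mul_div_cancel _ two_pos]
  obtain ⟨e, heA, heU⟩ := exists_conj_centralized hK hA hA1 hA2 (z := z)
    (hd ▸ ((Commute.refl g).pow_pow 2 (3 ^ b)).map (MulAut.conj d).toMonoidHom) hoz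
  have hzA : Commute z A := hd ▸ ((Commute.refl g).pow_pow 2 (3 ^ b)).map (MulAut.conj d).toMonoidHom
  obtain ⟨v, hv⟩ := (reeU_centralized hK hA hA1 hA2).1 ⟨heU, by
    have := hzA.map (MulAut.conj e).toMonoidHom
    change Commute (e * z * e⁻¹) (e * A * e⁻¹) at this
    rw [heA.eq, mul_inv_cancel_right] at this
    exact this.symm⟩
  have h33 : (e * z * e⁻¹) ^ 3 = 1 := by
    refine Subtype.ext ?_
    rw [SubmonoidClass.coe_pow, hv, pow_succ, pow_two, reeX_add hK, reeX_add hK,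
      show v + v + v = 0 by
        have h30 : (3 : K) = 0 := by
          simpa using natCast_char_zero (p := 3) (k := 2 * m + 1) (by omega) hK
        linear_combination v * h30, (reeX_eq_one_iff hK 0).2 rfl]
    rfl
  have hdvd : 3 ^ b ∣ 3 := by
    rw [← hoz, ← show orderOf (e * z * e⁻¹) = orderOf z from
      orderOf_injective (MulAut.conj e).toMonoidHom (MulAut.conj e).injective z]
    exact orderOf_dvd_of_pow_eq_one h33
  have hb : b = 1 := le_antisymm (by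
    have := Nat.pow_dvd_pow_iff_le_right (x := 3) (k := b) (l := 1) (by norm_num)
    exact this.1 (by rwa [pow_one])) hb1
  rw [hbn, hb]
  norm_num

end CfsgLib.Twisted
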