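import Cfsg.Agent.Lib.Twisted.ReeCentralizer
import Cfsg.Agent.Lib.InvChar.AutElementary
import Cfsg.Agent.Lib.ClassicalLinear.Simple

/-! The normaliser of a Sylow 2-subgroup of ²G₂(q) has order 168. -/

set_option autoImplicit false

namespace CfsgLib.Twisted

open Cfsg.Lie
open Matrix
open scoped Pointwise

variable {K : Type*} [Field K] [Fintype K] {m : ℕ} (hK : Fintype.card K = 3 ^ (2 * m + 1))
include hK

set_option maxHeartbeats 800000 in
theorem ree_card_normalizer_sylow_two (hm : 1 ≤ m) (S : Sylow 2 ↥(twistedG2 K (3 ^ m))) :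
    Nat.card (Subgroup.normalizer ((S : Subgroup ↥(twistedG2 K (3 ^ m))) : Set ↥(twistedG2 K (3 ^ m)))) = 168 := by
  classical
  have : Fact (Nat.Prime 2) := ⟨Nat.prime_two⟩
  have : Fact (Nat.Prime 3) := ⟨Nat.prime_three⟩
  have hperf := twistedG2_perfect hK hm
  have hq4 : 4 ≤ Fintype.card K := by
    rw [hK]
    calc 4 ≤ 3 ^ 3 := by norm_num
      _ ≤ 3 ^ (2 * m + 1) := Nat.pow_le_pow_right (by norm_num) (by omega)
  have hperfP : commutator (ProjectiveSpecialLinearGroup (Fin 2) K) = ⊤ :=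
    CfsgLib.ClassicalLinear.commutator_psl_eq_top
      (Or.inr (CfsgLib.ClassicalLinear.exists_sq_ne_one_of_four_le_card (by rwa [Nat.card_eq_fintype_card])))
  obtain ⟨g, hg⟩ := reeTorusVal_surj hK (neg_ne_zero.2 (one_ne_zero (α := K)))
  have hg1 : g ≠ 1 := fun e => ree_neg_one_ne_one hK (by rw [← hg, e, map_one])
  have hg2 : g * g = 1 := reeTorusVal_injective hK (by rw [map_mul, hg, map_one]; ring)
  set A : ↥(twistedG2 K (3 ^ m)) := ⟨g, g.2.2⟩
  have hA1 : A ≠ 1 := fun e =>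
    hg1 (Subtype.ext (congrArg (fun w : ↥(twistedG2 K (3 ^ m)) => (w : GL chevG2.Idx K)) e))
  obtain ⟨T, hAT, h8, hsq, hcen, hN⟩ := exists_ree_sylow_two hK (A := A) g.2.1 hA1
    (Subtype.ext (congrArg (fun w : ↥(chevG2.diagonalSubgroup K ⊓ twistedG2 K (3 ^ m)) => (w : GL chevG2.Idx K)) hg2))
  obtain ⟨n₀, hn₀, hn₀A, x₀, hx₀, hn₀x⟩ := hN hperfP
  suffices hT : Nat.card (Subgroup.normalizer ((T : Subgroup ↥(twistedG2 K (3 ^ m))) :
      Set ↥(twistedG2 K (3 ^ m)))) = 168 by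
    obtain ⟨k, rfl⟩ := MulAction.exists_smul_eq ↥(twistedG2 K (3 ^ m)) T S
    rw [← hT, Sylow.smul_def]
    show Nat.card (Subgroup.normalizer (↑(MulAut.conj k • (T : Subgroup ↥(twistedG2 K (3 ^ m)))) :
      Set ↥(twistedG2 K (3 ^ m)))) = _
    rw [show MulAut.conj k • (T : Subgroup ↥(twistedG2 K (3 ^ m))) =
      (T : Subgroup ↥(twistedG2 K (3 ^ m))).map (MulAut.conj k).toMonoidHom from rfl,
      ← Subgroup.map_normalizer_eq_of_bijective (T : Subgroup ↥(twistedG2 K (3 ^ m)))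
        (f := (MulAut.conj k).toMonoidHom) (MulAut.conj k).bijective]
    exact (Nat.card_congr (Subgroup.equivMapOfInjective _ _ (MulEquiv.injective _)).toEquiv).symm
  have hcT : Subgroup.centralizer ((T : Subgroup ↥(twistedG2 K (3 ^ m))) : Set ↥(twistedG2 K (3 ^ m))) = T :=
    (ree_sylow_two' hK T).2.2
  have hTc : IsMulCommutative (T : Subgroup ↥(twistedG2 K (3 ^ m))) :=
    ⟨⟨fun x y => Subtype.ext ((Subgroup.mem_centralizer_iff.1 (hcT.ge x.2) y y.2).symm)⟩⟩
  let _ : CommGroup (T : Subgroup ↥(twistedG2 K (3 ^ m))) :=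
    { (inferInstance : Group (T : Subgroup ↥(twistedG2 K (3 ^ m)))) with mul_comm := fun x y => mul_comm' x y }
  set φ := (T : Subgroup ↥(twistedG2 K (3 ^ m))).normalizerMonoidHom
  -- the order of the normaliser
  have hker : Nat.card φ.ker = 8 := by
    rw [Subgroup.normalizerMonoidHom_ker,
      Nat.card_congr (Subgroup.subgroupOfEquivOfLe (hcT.le.trans Subgroup.le_normalizer)).toEquiv, hcT]
    exact h8
  have hcard : Nat.card (Subgroup.normalizer ((T : Subgroup ↥(twistedG2 K (3 ^ m))) :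
      Set ↥(twistedG2 K (3 ^ m)))) = Nat.card φ.range * 8 := by
    rw [Subgroup.card_eq_card_quotient_mul_card_subgroup φ.ker, hker,
      Nat.card_congr (QuotientGroup.quotientKerEquivRange φ).toEquiv]
  suffices hd : Nat.card φ.range = 21 by rw [hcard, hd]
  have hexp : ∀ v : (T : Subgroup ↥(twistedG2 K (3 ^ m))), v ^ 2 = 1 := fun v =>
    Subtype.ext (by rw [pow_two]; exact hsq v v.2)
  have h168 : Nat.card φ.range ∣ 168 := by
    obtain ⟨f, hf⟩ := CfsgLib.InvChar.exists_injective_mulAut_GL (p := 2) (d := 3) hexp h8.le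
    have h := Subgroup.card_dvd_of_injective f hf
    rw [Matrix.card_GL_field, ZMod.card, Fin.prod_univ_three] at h
    exact (Subgroup.card_subgroup_dvd_card φ.range).trans h
  have hodd : ¬ 2 ∣ Nat.card φ.range := by
    intro h2
    have hdvd := Subgroup.card_subgroup_dvd_card (Subgroup.normalizer ((T : Subgroup ↥(twistedG2 K (3 ^ m))) :
      Set ↥(twistedG2 K (3 ^ m))))
    rw [hcard, ← Subgroup.card_mul_index (T : Subgroup ↥(twistedG2 K (3 ^ m))), h8, mul_comm] at hdvd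
    exact T.not_dvd_index (h2.trans (Nat.dvd_of_mul_dvd_mul_left (by norm_num) hdvd))
  -- nothing but one is fixed
  have hfix : ∀ x : (T : Subgroup ↥(twistedG2 K (3 ^ m))), (∀ r : φ.range, r • x = x) → x = 1 := by
    intro x hx
    refine Subtype.ext (eq_one_of_central_normalizer hperf T x.2 fun n hn => ?_)
    have h := congrArg Subtype.val (hx ⟨φ ⟨n⁻¹, inv_mem hn⟩, ⟨_, rfl⟩⟩)
    change n⁻¹ * (x : ↥(twistedG2 K (3 ^ m))) * n⁻¹⁻¹ = x at h
    rwa [inv_inv] at h
  have h3 : ∀ k, Nat.card φ.range ≠ 3 ^ k := by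
    intro k hk
    have hp : IsPGroup 3 φ.range := IsPGroup.of_card hk
    have hmod := hp.card_modEq_card_fixedPoints (T : Subgroup ↥(twistedG2 K (3 ^ m)))
    rw [show Nat.card (T : Subgroup ↥(twistedG2 K (3 ^ m))) = 8 from h8] at hmod
    have hsub : Subsingleton (MulAction.fixedPoints φ.range (T : Subgroup ↥(twistedG2 K (3 ^ m)))) :=
      ⟨fun a b => Subtype.ext ((hfix a a.2).trans (hfix b b.2).symm)⟩
    have : Nat.card (MulAction.fixedPoints φ.range (T : Subgroup ↥(twistedG2 K (3 ^ m)))) ≤ 1 :=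
      Finite.card_le_one_iff_subsingleton.2 hsub
    have hne : Nonempty (MulAction.fixedPoints φ.range (T : Subgroup ↥(twistedG2 K (3 ^ m)))) :=
      ⟨⟨1, fun r => smul_one r⟩⟩
    have := Nat.card_pos (α := MulAction.fixedPoints φ.range (T : Subgroup ↥(twistedG2 K (3 ^ m))))
    unfold Nat.ModEq at hmod
    omega
  have h7 : Nat.card φ.range ≠ 7 := by
    intro h7
    have : Fact (Nat.Prime 7) := ⟨by norm_num⟩
    set r₀ : φ.range := ⟨φ ⟨n₀⁻¹, inv_mem hn₀⟩, ⟨_, rfl⟩⟩
    have hr₀ : r₀ ≠ 1 := by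
      intro e
      have h := congrArg (fun r : φ.range =>
        (((r : MulAut (T : Subgroup ↥(twistedG2 K (3 ^ m)))) ⟨x₀, hx₀⟩ : (T : Subgroup ↥(twistedG2 K (3 ^ m)))) :
          ↥(twistedG2 K (3 ^ m)))) e
      change n₀⁻¹ * x₀ * n₀⁻¹⁻¹ = x₀ at h
      rw [inv_inv] at h
      exact hn₀x h
    have hA : (⟨A, hAT⟩ : (T : Subgroup ↥(twistedG2 K (3 ^ m)))) = 1 := by
      refine hfix _ fun r => ?_
      have hr : r ∈ Subgroup.zpowers r₀ := mem_zpowers_of_prime_card h7 hr₀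
      have hst : r₀ ∈ MulAction.stabilizer φ.range (⟨A, hAT⟩ : (T : Subgroup ↥(twistedG2 K (3 ^ m)))) := by
        refine MulAction.mem_stabilizer_iff.2 (Subtype.ext ?_)
        show n₀⁻¹ * A * n₀⁻¹⁻¹ = A
        rw [inv_inv, mul_assoc, ← hn₀A.eq, inv_mul_cancel_left]
      exact (Subgroup.zpowers_le.2 hst) hr
    exact hA1 (congrArg Subtype.val hA)
  have hle : Nat.card φ.range ≤ 168 := Nat.le_of_dvd (by norm_num) h168
  have h1 := h3 0
  have h1' := h3 1
  rw [pow_zero] at h1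
  rw [pow_one] at h1'
  have hmem : Nat.card φ.range ∈ Nat.divisors 168 := Nat.mem_divisors.2 ⟨h168, by norm_num⟩
  rw [show Nat.divisors 168 = {1, 2, 3, 4, 6, 7, 8, 12, 14, 21, 24, 28, 42, 56, 84, 168} by decide] at hmem
  simp only [Finset.mem_insert, Finset.mem_singleton] at hmem
  rcases hmem with h | h | h | h | h | h | h | h | h | h | h | h | h | h | h | h <;> omega

end CfsgLib.Twisted
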