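import Cfsg.Agent.Lib.Twisted.ReeCensus

/-! The two classes of tori of orders `q ± r + 1` of ²G₂(q), by counting; element orders. -/

set_option autoImplicit false
set_option linter.unusedSectionVars false

namespace CfsgLib.Twisted

open Cfsg.Lie

theorem nat_card_split {α : Type*} [Finite α] (P Q : α → Prop) :
    Nat.card {x : α // P x} = Nat.card {x : α // P x ∧ Q x} + Nat.card {x : α // P x ∧ ¬ Q x} := by
  classical
  have := Fintype.ofFinite α
  simp only [Nat.card_eq_fintype_card, Fintype.card_subtype]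
  rw [← Finset.filter_filter, ← Finset.filter_filter, Finset.card_filter_add_card_filter_not]

theorem card_six_kinds {α : Type*} [Finite α] (P : Fin 6 → α → Prop) (one : α)
    (hcover : ∀ x, x ≠ one → ∃ i, P i x) (hdisj : ∀ i j x, P i x → P j x → i = j)
    (hone : ∀ i, ¬ P i one) : Nat.card α = 1 + ∑ i, Nat.card {x : α // P i x} := by
  classical
  have := Fintype.ofFinite α
  have hu : (Finset.univ.erase one : Finset α) = Finset.univ.biUnion fun i => Finset.univ.filter (P i) := by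
    ext x
    simp only [Finset.mem_erase, Finset.mem_univ, and_true, Finset.mem_biUnion, Finset.mem_filter, true_and]
    exact ⟨hcover x, fun ⟨i, hi⟩ e => hone i (e ▸ hi)⟩
  have hc := Finset.card_biUnion (s := (Finset.univ : Finset (Fin 6))) (t := fun i => Finset.univ.filter (P i))
    (fun i _ j _ hij => Finset.disjoint_left.2 fun x hx hx' =>
      hij (hdisj i j x (Finset.mem_filter.1 hx).2 (Finset.mem_filter.1 hx').2))
  rw [← hu, Finset.card_erase_of_mem (Finset.mem_univ _), Finset.card_univ] at hc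
  simp only [Nat.card_eq_fintype_card, Fintype.card_subtype]
  rw [← hc]
  have := Fintype.card_pos_iff.2 ⟨one⟩
  omega

variable {K : Type*} [Field K] [Fintype K] {m : ℕ} (hK : Fintype.card K = 3 ^ (2 * m + 1))
include hK

/-- The elements of the tori of orders `q ± r + 1`. -/
theorem card_coxeter_type (hm : 1 ≤ m) :
    3 * Nat.card {g : ↥(twistedG2 K (3 ^ m)) //
      BigPrime ((3 ^ (2 * m + 1)) ^ 2 - 3 ^ (2 * m + 1) + 1) (orderOf g)} =
      (3 ^ (2 * m + 1)) ^ 4 * (3 ^ (2 * m + 1) - 2) * ((3 ^ (2 * m + 1)) ^ 2 - 1) := by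
  obtain ⟨h27, hq8, hq3⟩ := ree_q_data (m := m) hm
  have h2 := card_involutions hK hm
  have h3 := card_three_elements hK hm
  have h6 := card_order_six hK hm
  have hH := card_split_type hK hm
  have hM := card_nonsplit_type hK hm
  have hkinds := fun g => ree_kinds hK hm (g := g)
  have hcf := fun ℓ hℓ => ree_coprime_facts hm (ℓ := ℓ) hℓ
  have hG := card_ree' hK
  generalize 3 ^ (2 * m + 1) = q at *
  generalize hNdef : q ^ 2 - q + 1 = N at *
  let P : Fin 6 → ↥(twistedG2 K (3 ^ m)) → Prop :=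
    ![fun g => orderOf g = 2, fun g => ∃ k, orderOf g = 3 ^ (k + 1), fun g => orderOf g = 6,
      fun g => BigPrime (q - 1) (orderOf g), fun g => BigPrime (q + 1) (orderOf g),
      fun g => BigPrime N (orderOf g)]
  have hsmall : ∀ {n d}, BigPrime n d → d ≠ 1 ∧ d ≠ 2 ∧ d ≠ 6 ∧ ∀ k, d ≠ 3 ^ (k + 1) := by
    rintro n d ⟨ℓ, hℓ, h5, -, hd⟩
    refine ⟨?_, ?_, ?_, fun k e => ?_⟩
    · rintro rfl; exact hℓ.not_dvd_one hd
    · rintro rfl; have := Nat.le_of_dvd two_pos hd; omega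
    · rintro rfl
      rcases hℓ.dvd_mul.1 (show ℓ ∣ 2 * 3 from hd) with h | h <;>
        (have := Nat.le_of_dvd (by norm_num) h; omega)
    · rw [e] at hd
      have := (Nat.prime_dvd_prime_iff_eq hℓ Nat.prime_three).1 (hℓ.dvd_of_dvd_pow hd)
      omega
  have h45 : ∀ g : ↥(twistedG2 K (3 ^ m)), BigPrime (q - 1) (orderOf g) → BigPrime (q + 1) (orderOf g) → False := by
    intro g hg hg'
    have hg1 : g ≠ 1 := fun e => (hsmall hg).1 (by rw [e, orderOf_one])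
    obtain ⟨ℓ, hℓ, h5, hn, hd⟩ := hg
    obtain ⟨ℓ', hℓ', h5', hn', hd'⟩ := hg'
    have key : ∀ l, l.Prime → 5 ≤ l → l ∣ q - 1 → l ∣ q + 1 → False := by
      intro l hl h5l ha hb
      have h2 := Nat.dvd_sub hb ha
      rw [show q + 1 - (q - 1) = 2 by omega] at h2
      have := Nat.le_of_dvd two_pos h2
      omega
    rcases hkinds g hg1 with h | ⟨k, h⟩ | h | ⟨-, h⟩ | ⟨-, h⟩ | ⟨-, h⟩
    · exact (hsmall (n := q - 1) ⟨ℓ, hℓ, h5, hn, hd⟩).2.1 h
    · exact (hsmall (n := q - 1) ⟨ℓ, hℓ, h5, hn, hd⟩).2.2.2 k h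
    · exact (hsmall (n := q - 1) ⟨ℓ, hℓ, h5, hn, hd⟩).2.2.1 h
    · exact key ℓ' hℓ' h5' (hd'.trans h) hn'
    · exact key ℓ hℓ h5 hn ((hd.trans h).trans (Nat.div_dvd_of_dvd (by omega)))
    · exact (hcf ℓ hℓ (hd.trans h)).2.2.1 hn
  have h46 : ∀ g : ↥(twistedG2 K (3 ^ m)), BigPrime (q - 1) (orderOf g) → BigPrime N (orderOf g) → False := by
    intro g hg hg'
    have hg1 : g ≠ 1 := fun e => (hsmall hg).1 (by rw [e, orderOf_one])
    obtain ⟨ℓ', hℓ', h5', hn', hd'⟩ := hg'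
    rcases hkinds g hg1 with h | ⟨k, h⟩ | h | ⟨-, h⟩ | ⟨-, h⟩ | ⟨-, h⟩
    · exact (hsmall hg).2.1 h
    · exact (hsmall hg).2.2.2 k h
    · exact (hsmall hg).2.2.1 h
    · exact (hcf ℓ' hℓ' hn').2.2.1 (hd'.trans h)
    · exact (hcf ℓ' hℓ' hn').2.2.2 ((hd'.trans h).trans (Nat.div_dvd_of_dvd (by omega)))
    · obtain ⟨ℓ, hℓ, h5, hn, hd⟩ := hg
      exact (hcf ℓ hℓ (hd.trans h)).2.2.1 hn
  have h56 : ∀ g : ↥(twistedG2 K (3 ^ m)), BigPrime (q + 1) (orderOf g) → BigPrime N (orderOf g) → False := by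
    intro g hg hg'
    have hg1 : g ≠ 1 := fun e => (hsmall hg).1 (by rw [e, orderOf_one])
    obtain ⟨ℓ', hℓ', h5', hn', hd'⟩ := hg'
    rcases hkinds g hg1 with h | ⟨k, h⟩ | h | ⟨-, h⟩ | ⟨-, h⟩ | ⟨-, h⟩
    · exact (hsmall hg).2.1 h
    · exact (hsmall hg).2.2.2 k h
    · exact (hsmall hg).2.2.1 h
    · exact (hcf ℓ' hℓ' hn').2.2.1 (hd'.trans h)
    · exact (hcf ℓ' hℓ' hn').2.2.2 ((hd'.trans h).trans (Nat.div_dvd_of_dvd (by omega)))
    · obtain ⟨ℓ, hℓ, h5, hn, hd⟩ := hg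
      exact (hcf ℓ hℓ (hd.trans h)).2.2.2 hn
  have h36 : ∀ k, (3 : ℕ) ^ (k + 1) ≠ 2 ∧ (3 : ℕ) ^ (k + 1) ≠ 6 := by
    intro k
    constructor <;> intro e
    · have : 3 ∣ 2 := e ▸ dvd_pow_self 3 (by omega)
      omega
    · have : 2 ∣ 3 ^ (k + 1) := e ▸ (by norm_num)
      have := (Nat.prime_dvd_prime_iff_eq Nat.prime_two Nat.prime_three).1 (Nat.prime_two.dvd_of_dvd_pow this)
      omega
  have hd : ∀ i j x, P i x → P j x → i = j := by
    intro i j x hi hj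
    fin_cases i <;> fin_cases j <;>
      first
        | rfl
        | exact (h45 x hi hj).elim
        | exact (h45 x hj hi).elim
        | exact (h46 x hi hj).elim
        | exact (h46 x hj hi).elim
        | exact (h56 x hi hj).elim
        | exact (h56 x hj hi).elim
        | exact absurd hi (hsmall hj).2.1
        | exact absurd hj (hsmall hi).2.1
        | exact absurd hi (hsmall hj).2.2.1
        | exact absurd hj (hsmall hi).2.2.1
        | exact (hi.elim fun k hk => (hsmall hj).2.2.2 k hk).elim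
        | exact (hj.elim fun k hk => (hsmall hi).2.2.2 k hk).elim
        | exact absurd ((show orderOf x = 2 from hi).symm.trans (show orderOf x = 6 from hj)) (by norm_num)
        | exact absurd ((show orderOf x = 2 from hj).symm.trans (show orderOf x = 6 from hi)) (by norm_num)
        | exact (hi.elim fun k hk => (h36 k).1 (hk.symm.trans hj)).elim
        | exact (hi.elim fun k hk => (h36 k).2 (hk.symm.trans hj)).elim
        | exact (hj.elim fun k hk => (h36 k).1 (hk.symm.trans hi)).elim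
        | exact (hj.elim fun k hk => (h36 k).2 (hk.symm.trans hi)).elim
  have htot := card_six_kinds P 1
    (fun x hx => by
      rcases hkinds x hx with h | h | h | ⟨h, -⟩ | ⟨h, -⟩ | ⟨h, -⟩
      exacts [⟨0, h⟩, ⟨1, h⟩, ⟨2, h⟩, ⟨3, h⟩, ⟨4, h⟩, ⟨5, h⟩])
    hd
    (fun i h => by
      fin_cases i
      · exact absurd (orderOf_one.symm.trans h) (by norm_num)
      · obtain ⟨k, hk⟩ := h
        exact absurd (orderOf_one.symm.trans hk) (Nat.one_lt_pow (by omega) (by norm_num)).ne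
      · exact absurd (orderOf_one.symm.trans h) (by norm_num)
      · exact (hsmall h).1 orderOf_one
      · exact (hsmall h).1 orderOf_one
      · exact (hsmall h).1 orderOf_one)
  simp only [Fin.sum_univ_six] at htot
  simp [P, -Nat.card_eq_fintype_card] at htot
  generalize Nat.card {g : ↥(twistedG2 K (3 ^ m)) // orderOf g = 2} = a2 at h2 htot
  generalize Nat.card {g : ↥(twistedG2 K (3 ^ m)) // ∃ k, orderOf g = 3 ^ (k + 1)} = a3 at h3 htot
  generalize Nat.card {g : ↥(twistedG2 K (3 ^ m)) // orderOf g = 6} = a6 at h6 htot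
  generalize Nat.card {g : ↥(twistedG2 K (3 ^ m)) // BigPrime (q - 1) (orderOf g)} = aH at hH htot
  generalize Nat.card {g : ↥(twistedG2 K (3 ^ m)) // BigPrime (q + 1) (orderOf g)} = aM at hM htot
  generalize Nat.card {g : ↥(twistedG2 K (3 ^ m)) // BigPrime N (orderOf g)} = aT at htot ⊢
  generalize Nat.card ↥(twistedG2 K (3 ^ m)) = G at *
  obtain ⟨w, rfl⟩ : ∃ w, q = w + 3 := ⟨q - 3, by omega⟩
  have hsq : (w + 3) ≤ (w + 3) ^ 2 := Nat.le_self_pow two_ne_zero _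
  have hN' : N + (w + 3) = (w + 3) ^ 2 + 1 := by omega
  rw [Nat.add_sub_cancel] at hH hM
  rw [show w + 3 - 1 = w + 2 by omega] at h6 hH hG
  rw [show w + 3 - 2 = w + 1 by omega]
  have hsq1 : (w + 3) ^ 2 - 1 = (w + 2) * (w + 4) := by
    rw [show (w + 3) ^ 2 = (w + 2) * (w + 4) + 1 by ring, Nat.add_sub_cancel]
  rw [hsq1] at h2 ⊢
  zify at h2 h3 h6 hH hM hG htot hN' ⊢
  set q : ℤ := (w : ℤ) + 3 with hq
  have e2 : (a2 : ℤ) = q ^ 2 * N := by
    refine mul_right_cancel₀ (b := q * ((w + 2) * (w + 4))) (by positivity) ?_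
    rw [h2, hG]; ring
  have e6 : (a6 : ℤ) = q ^ 2 * (w + 2) * (w + 4) * N := by
    refine mul_right_cancel₀ (b := q * (w + 2)) (by positivity) ?_
    rw [h6, hG]; ring
  have eH : 2 * (aH : ℤ) = q ^ 3 * (w + 4) * N * w := by
    refine mul_right_cancel₀ (b := ((w : ℤ) + 2)) (by positivity) ?_
    rw [show 2 * (aH : ℤ) * (w + 2) = aH * (2 * (w + 2)) by ring, hH, hG]; ring
  have eM : 6 * (aM : ℤ) = q ^ 3 * (w + 2) * N * w := by
    refine mul_right_cancel₀ (b := ((w : ℤ) + 4)) (by positivity) ?_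
    rw [show 6 * (aM : ℤ) * (w + 4) = aM * (6 * (w + 4)) by ring,
      show (w : ℤ) + 4 = q + 1 by rw [hq]; ring, hM, hG]; ring
  have hN'' : (N : ℤ) = q ^ 2 + 1 - q := by linear_combination hN'
  have e3 : (a3 : ℤ) = (q ^ 3) ^ 2 - 1 := by linear_combination h3
  refine mul_left_cancel₀ (two_ne_zero (α := ℤ)) ?_
  have key : 6 * (aT : ℤ) = 6 * G - 6 - 6 * a2 - 6 * a3 - 6 * a6 - 3 * (2 * aH) - 6 * aM := by
    linear_combination -6 * htot
  rw [show 2 * (3 * (aT : ℤ)) = 6 * aT by ring, key, eH, eM, e2, e3, e6, hG, hN'', hq]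
  ring

set_option maxHeartbeats 800000 in
/-- The two classes of tori of orders `q - r + 1`, `q + r + 1`. -/
theorem exists_coxeter_tori (hm : 1 ≤ m) :
    (∀ a, (a = 3 ^ (2 * m + 1) - 3 ^ (m + 1) + 1 ∨ a = 3 ^ (2 * m + 1) + 3 ^ (m + 1) + 1) →
      ∃ B : Subgroup ↥(twistedG2 K (3 ^ m)), IsCyclic B ∧ Nat.card B = a ∧
        Nat.card (Subgroup.normalizer (B : Set ↥(twistedG2 K (3 ^ m)))) = 6 * a ∧
        ∀ z ∈ B, z ≠ 1 → Subgroup.centralizer {z} = B) ∧
    ∀ g : ↥(twistedG2 K (3 ^ m)),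
      BigPrime ((3 ^ (2 * m + 1)) ^ 2 - 3 ^ (2 * m + 1) + 1) (orderOf g) →
      orderOf g ∣ 3 ^ (2 * m + 1) - 3 ^ (m + 1) + 1 ∨ orderOf g ∣ 3 ^ (2 * m + 1) + 3 ^ (m + 1) + 1 := by
  classical
  obtain ⟨h27, hq8, hq3⟩ := ree_q_data (m := m) hm
  have hcardT := card_coxeter_type hK hm
  have hG := card_ree' hK
  have hcf := fun (ℓ : ℕ) (hℓ : ℓ.Prime) => ree_coprime_facts hm (ℓ := ℓ) hℓ
  have hsix : ∀ (ℓ : ℕ) [Fact ℓ.Prime], ℓ ∣ (3 ^ (2 * m + 1)) ^ 2 - 3 ^ (2 * m + 1) + 1 →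
      orderOf ((3 ^ (2 * m + 1) : ℕ) : ZMod ℓ) = 6 := fun ℓ _ h => orderOf_q_eq_six hm h
  have hct := fun g hg => coxeter_type_centralizer hK hm (g := g) hg
  have hcc := fun x p (hp : Fact p.Prime) hd hx => centralizer_coxeter hK hm (x := x) (p := p) (hp := hp) hd hx
  have hce := fun x p (hp : Fact p.Prime) hd hx z hz hz1 =>
    centralizer_coxeter_eq hK hm (x := x) (p := p) (hp := hp) hd hx (z := z) hz hz1
  have hnc := fun x p (hp : Fact p.Prime) hd hx => normalizer_coxeter hK hm (x := x) (p := p) (hp := hp) hd hx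
  set q := 3 ^ (2 * m + 1) with hqdef
  obtain ⟨N, hNdef⟩ : ∃ N, N = q ^ 2 - q + 1 := ⟨_, rfl⟩
  simp only [← hNdef] at hcardT hG hcf hsix hct hcc hce hnc ⊢
  set T : ↥(twistedG2 K (3 ^ m)) → Prop := fun g => BigPrime N (orderOf g) with hT
  have hqq : q ≤ q ^ 2 := Nat.le_self_pow two_ne_zero q
  have hN0 : 0 < N := by omega
  set G := Nat.card ↥(twistedG2 K (3 ^ m)) with hGdef
  have hG0 : 0 < G := Nat.card_pos
  -- a class: the torus `B` and the elements conjugate into it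
  let In : Subgroup ↥(twistedG2 K (3 ^ m)) → ↥(twistedG2 K (3 ^ m)) → Prop := fun B g =>
    ∃ c, c * g * c⁻¹ ∈ B ∧ c * g * c⁻¹ ≠ 1
  let Good : Subgroup ↥(twistedG2 K (3 ^ m)) → Prop := fun B => IsCyclic B ∧ Nat.card B ∣ N ∧
    1 < Nat.card B ∧ (∀ z ∈ B, z ≠ 1 → Subgroup.centralizer {z} = B) ∧
    ∃ f', f' ∣ 6 ∧ Nat.card (Subgroup.normalizer (B : Set ↥(twistedG2 K (3 ^ m)))) = Nat.card B * f'
  have hexists : ∀ g, T g → ∃ B, Good B ∧ g ∈ B ∧ g ≠ 1 := by
    intro g hg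
    obtain ⟨p, x, hp, hpN, hx, hgx, hg1⟩ := hct g hg
    have : Fact p.Prime := ⟨hp⟩
    obtain ⟨hcyc, hdvd⟩ := hcc x p ⟨hp⟩ hpN hx
    refine ⟨_, ⟨hcyc, hdvd, ?_, fun z hz hz1 => hce x p ⟨hp⟩ hpN hx z hz hz1,
      hnc x p ⟨hp⟩ hpN hx⟩, hgx, hg1⟩
    exact lt_of_lt_of_le hp.one_lt (Nat.le_of_dvd Nat.card_pos
      (hx ▸ Subgroup.orderOf_dvd_natCard _ (Subgroup.mem_centralizer_singleton_iff.2 rfl)))
  have hInT : ∀ B, Good B → ∀ g, In B g → T g := by
    rintro B ⟨-, hdvd, -, -⟩ g ⟨c, hc, hc1⟩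
    have hd : orderOf g ∣ N := (ree_orderOf_conj hK c g ▸ Subgroup.orderOf_dvd_natCard _ hc).trans hdvd
    obtain ⟨ℓ, hℓ, hℓd⟩ := Nat.exists_prime_and_dvd (n := orderOf g) (fun h => hc1 (by
      rw [orderOf_eq_one_iff.1 h, mul_one, mul_inv_cancel]))
    exact ⟨ℓ, hℓ, (hcf ℓ hℓ (hℓd.trans hd)).1, hℓd.trans hd, hℓd⟩
  have hsame : ∀ B B', Good B → Good B' → ∀ g, In B g → In B' g →
      ∃ d, ∀ y, y ∈ B ↔ d * y * d⁻¹ ∈ B' := by
    rintro B B' ⟨-, -, -, hB, -⟩ ⟨-, -, -, hB', -⟩ g ⟨c, hc, hc1⟩ ⟨c', hc', hc1'⟩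
    refine ⟨c' * c⁻¹, fun y => ?_⟩
    rw [← hB _ hc hc1, ← hB' _ hc' hc1', centralizer_conj, centralizer_conj]
    rw [show c'⁻¹ * (c' * c⁻¹ * y * (c' * c⁻¹)⁻¹) * c' = c⁻¹ * y * c by group]
  -- the number of elements of a class
  have hcount : ∀ B, Good B → ∃ f, 1 ≤ f ∧ ∃ b, b * Nat.card B = N ∧ 7 * b ≤ N ∧
      6 * Nat.card {g // In B g} * N = G * (f * (N - b)) ∧
      (f = 1 → Nat.card (Subgroup.normalizer (B : Set ↥(twistedG2 K (3 ^ m)))) = 6 * Nat.card B) := by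
    rintro B ⟨hcyc, hdvd, h1, hB, f', hf', hnorm⟩
    obtain ⟨b, hb⟩ := hdvd
    obtain ⟨f, hf⟩ := hf'
    set NB := Subgroup.normalizer (B : Set ↥(twistedG2 K (3 ^ m)))
    have hf1 : 1 ≤ f := by
      rcases Nat.eq_zero_or_pos f with rfl | h
      · omega
      · exact h
    have hf'0 : 1 ≤ f' := by
      rcases Nat.eq_zero_or_pos f' with rfl | h
      · omega
      · exact h
    have h7 : 7 ≤ Nat.card B := by
      obtain ⟨ℓ, hℓ, hℓd⟩ := Nat.exists_prime_and_dvd (show Nat.card B ≠ 1 by omega)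
      have hℓN : ℓ ∣ N := hℓd.trans ⟨b, hb⟩
      obtain ⟨h5, -⟩ := hcf ℓ hℓ hℓN
      have h6 : ℓ ≠ 5 := by
        rintro rfl
        have : Fact (Nat.Prime 5) := ⟨hℓ⟩
        have h6 := hsix 5 hℓN
        have h4 : ((3 ^ (2 * m + 1) : ℕ) : ZMod 5) ^ (5 - 1) = 1 := ZMod.pow_card_sub_one_eq_one (fun h0 => by
          rw [h0, orderOf_eq_zero_iff'.2 fun n hn => by simp [zero_pow hn.ne']] at h6
          omega)
        have := orderOf_dvd_of_pow_eq_one h4
        rw [h6] at this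
        omega
      have h6' : ℓ ≠ 6 := fun h => by rw [h] at hℓ; norm_num at hℓ
      have := Nat.le_of_dvd (by omega) hℓd
      omega
    have hcount := card_conj_into NB (fun s => s ∈ B ∧ s ≠ 1)
      (fun n hn s hs => ⟨(Subgroup.mem_normalizer_iff.1 hn s).1 hs.1, fun e => hs.2 (conj_eq_one_iff.1 e)⟩)
      (fun c s hs hc => mem_normalizer_of_centralizer_eq (hB s hs.1 hs.2) (hB _ hc.1 hc.2))
    have hS : Nat.card {s : ↥(twistedG2 K (3 ^ m)) // s ∈ B ∧ s ≠ 1} = Nat.card B - 1 := by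
      have := Fintype.ofFinite B
      rw [Nat.card_congr (⟨fun x => ⟨⟨x.1, x.2.1⟩, fun e => x.2.2 (congrArg Subtype.val e)⟩,
          fun x => ⟨x.1.1, x.1.2, fun e => x.2 (Subtype.ext e)⟩, fun x => rfl, fun x => rfl⟩ :
          {s : ↥(twistedG2 K (3 ^ m)) // s ∈ B ∧ s ≠ 1} ≃ {s : B // s ≠ 1}),
        Nat.card_eq_fintype_card, Fintype.card_subtype_compl, Fintype.card_subtype_eq,
        ← Nat.card_eq_fintype_card]
    have hidx := NB.card_mul_index
    rw [hnorm] at hidx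
    refine ⟨f, hf1, b, by rw [hb, mul_comm], by rw [hb]; exact Nat.mul_le_mul_right _ h7, ?_, fun h => ?_⟩
    · change 6 * Nat.card {g // ∃ c, c * g * c⁻¹ ∈ B ∧ c * g * c⁻¹ ≠ 1} * N = _
      rw [hcount, hS, hb, hGdef, ← hidx, hf,
        show Nat.card B * b - b = (Nat.card B - 1) * b by rw [Nat.sub_mul, one_mul]]
      ring
    · rw [hnorm]
      rw [h, mul_one] at hf
      rw [← hf, mul_comm]
  -- the total
  have htotal : 6 * Nat.card {g // T g} * N = G * (2 * (N - (q + 1))) := by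
    have e : N - (q + 1) = q * (q - 2) := by
      rw [Nat.mul_sub, mul_comm q 2]
      have : q * q = q ^ 2 := (pow_two q).symm
      omega
    rw [e, show 6 * Nat.card {g // T g} = 2 * (3 * Nat.card {g // T g}) by ring, hT, hcardT, hG,
      show q ^ 2 - 1 = (q + 1) * (q - 1) by rw [← Nat.sq_sub_sq, one_pow]]
    ring
  have hNq : 2 * (q + 1) < N := by
    have : 4 * q + 2 < q ^ 2 := by nlinarith
    omega
  have hmono : ∀ {S : ↥(twistedG2 K (3 ^ m)) → Prop}, (∀ g, S g → T g) →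
      Nat.card {g // S g} ≤ Nat.card {g // T g} := fun h =>
    Nat.card_le_card_of_injective (fun x => (⟨x.1, h x.1 x.2⟩ : {g // T g}))
      fun a b e => Subtype.ext (by simpa using e)
  -- comparisons
  have hcmp : ∀ {X Y cX cY : ℕ}, 6 * cX * N = G * X → 6 * cY * N = G * Y → cX ≤ cY → X ≤ Y := by
    intro X Y cX cY hX hY h
    refine Nat.le_of_mul_le_mul_left ?_ hG0
    rw [← hX, ← hY]
    exact Nat.mul_le_mul_right _ (Nat.mul_le_mul_left _ h)
  have hadd : ∀ {X Y cX cY : ℕ}, 6 * cX * N = G * X → 6 * cY * N = G * Y →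
      6 * (cX + cY) * N = G * (X + Y) := by
    intro X Y cX cY hX hY
    rw [mul_add 6 cX cY, add_mul (6 * cX) (6 * cY) N, hX, hY, mul_add]
  have hsum2 : ∀ (S S' : ↥(twistedG2 K (3 ^ m)) → Prop), (∀ g, S g → S' g → False) →
      Nat.card {g // S g} + Nat.card {g // S' g} = Nat.card {g // S g ∨ S' g} := by
    intro S S' h
    rw [nat_card_split (fun g => S g ∨ S' g) S,
      Nat.card_congr (Equiv.subtypeEquivRight (p := fun g => (S g ∨ S' g) ∧ S g) (q := S) fun g =>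
        ⟨fun h => h.2, fun h => ⟨Or.inl h, h⟩⟩),
      Nat.card_congr (Equiv.subtypeEquivRight (p := fun g => (S g ∨ S' g) ∧ ¬ S g) (q := S') fun g =>
        ⟨fun h => h.1.resolve_left h.2, fun h' => ⟨Or.inr h', fun h'' => h g h'' h'⟩⟩)]
  -- a first class
  have hTne : ∃ g, T g := by
    by_contra hno
    simp only [not_exists] at hno
    have h0 : Nat.card {g // T g} = 0 := by
      have : IsEmpty {g // T g} := ⟨fun g => hno g.1 g.2⟩
      exact Nat.card_of_isEmpty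
    rw [h0] at htotal
    simp at htotal
    omega
  obtain ⟨g1, hg1⟩ := hTne
  obtain ⟨B1, hG1, hgB1, hg11⟩ := hexists g1 hg1
  obtain ⟨f1, hf1, b1, hb1, hb17, hc1, hn1⟩ := hcount B1 hG1
  have hX1 := hcmp hc1 htotal (hmono (hInT B1 hG1))
  have hlow : ∀ {f b : ℕ}, 7 * b ≤ N → 1 ≤ f → 6 * f * N ≤ 7 * (f * (N - b)) := by
    intro f b h hf
    rw [show 6 * f * N = f * (6 * N) by ring, show 7 * (f * (N - b)) = f * (7 * (N - b)) by ring]
    exact Nat.mul_le_mul_left _ (by omega)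
  -- there is a second class
  have hsecond : ∃ g, T g ∧ ¬ In B1 g := by
    by_contra hno
    simp only [not_exists, not_and, not_not] at hno
    have e : Nat.card {g // In B1 g} = Nat.card {g // T g} :=
      Nat.card_congr (Equiv.subtypeEquivRight fun g => ⟨hInT B1 hG1 g, hno g⟩)
    rw [e, htotal] at hc1
    have he := Nat.eq_of_mul_eq_mul_left hG0 hc1
    have hl := hlow hb17 hf1
    rcases (show f1 = 1 ∨ f1 = 2 ∨ 3 ≤ f1 by omega) with h | h | h
    · rw [h, one_mul] at he; omega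
    · rw [h] at he
      -- then `(q + 1) ∣ N`
      have hb : b1 = q + 1 := by omega
      obtain ⟨ℓ, hℓ, hℓd⟩ := Nat.exists_prime_and_dvd (show q + 1 ≠ 1 by omega)
      exact (hcf ℓ hℓ (hℓd.trans ⟨Nat.card B1, by rw [← hb]; exact hb1.symm⟩)).2.2.2 hℓd
    · have : 18 * N ≤ 6 * f1 * N := Nat.mul_le_mul_right _ (by omega)
      omega
  obtain ⟨g2, hg2, hg2n⟩ := hsecond
  obtain ⟨B2, hG2, hgB2, hg21⟩ := hexists g2 hg2
  obtain ⟨f2, hf2, b2, hb2, hb27, hc2, hn2⟩ := hcount B2 hG2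
  have hIn2 : In B2 g2 := ⟨1, by simpa using hgB2, by simpa using hg21⟩
  have hdis : ∀ g, In B1 g → In B2 g → False := by
    intro g h h'
    obtain ⟨d, hd⟩ := hsame B1 B2 hG1 hG2 g h h'
    exact hg2n ⟨d⁻¹, (hd _).2 (by simpa [mul_assoc] using hgB2), fun e => hg21 (conj_eq_one_iff.1 e)⟩
  have hc12 := hadd hc1 hc2
  rw [hsum2 _ _ hdis] at hc12
  have hX12 := hcmp hc12 htotal (hmono fun g h => h.elim (hInT B1 hG1 g) (hInT B2 hG2 g))
  have hl1 := hlow hb17 hf1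
  have hl2 := hlow hb27 hf2
  have hf11 : f1 = 1 := by
    by_contra h
    have : 2 * (6 * N) ≤ 6 * f1 * N := by
      rw [show 2 * (6 * N) = 6 * 2 * N by ring]; exact Nat.mul_le_mul_right _ (by omega)
    have : 6 * N ≤ 6 * f2 * N := Nat.mul_le_mul_right _ (by omega)
    omega
  have hf21 : f2 = 1 := by
    by_contra h
    have : 2 * (6 * N) ≤ 6 * f2 * N := by
      rw [show 2 * (6 * N) = 6 * 2 * N by ring]; exact Nat.mul_le_mul_right _ (by omega)
    have : 6 * N ≤ 6 * f1 * N := Nat.mul_le_mul_right _ (by omega)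
    omega
  subst hf11 hf21
  rw [one_mul, one_mul] at hX12 hc12
  -- no third class
  have hall : ∀ g, T g → In B1 g ∨ In B2 g := by
    intro g hg
    by_contra hno
    simp only [not_or] at hno
    obtain ⟨B3, hG3, hgB3, hg31⟩ := hexists g hg
    obtain ⟨f3, hf3, b3, hb3, hb37, hc3, -⟩ := hcount B3 hG3
    have hd3 : ∀ x, (In B1 x ∨ In B2 x) → In B3 x → False := by
      rintro x (h | h) h'
      · obtain ⟨d, hd⟩ := hsame B1 B3 hG1 hG3 x h h'
        exact hno.1 ⟨d⁻¹, (hd _).2 (by simpa [mul_assoc] using hgB3), fun e => hg31 (conj_eq_one_iff.1 e)⟩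
      · obtain ⟨d, hd⟩ := hsame B2 B3 hG2 hG3 x h h'
        exact hno.2 ⟨d⁻¹, (hd _).2 (by simpa [mul_assoc] using hgB3), fun e => hg31 (conj_eq_one_iff.1 e)⟩
    have hc123 := hadd hc12 hc3
    rw [hsum2 _ _ hd3] at hc123
    have := hcmp hc123 htotal (hmono fun x h => h.elim (fun h => h.elim (hInT B1 hG1 x) (hInT B2 hG2 x))
      (hInT B3 hG3 x))
    have hl3 := hlow hb37 hf3
    have : 6 * N ≤ 6 * f3 * N := Nat.mul_le_mul_right _ (by omega)
    omega
  have heq : (N - b1) + (N - b2) = 2 * (N - (q + 1)) := by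
    refine Nat.eq_of_mul_eq_mul_left hG0 (hc12.symm.trans ?_)
    rw [Nat.card_congr (Equiv.subtypeEquivRight (q := T) fun g =>
      ⟨fun h => h.elim (hInT B1 hG1 g) (hInT B2 hG2 g), hall g⟩), htotal]
  have hbsum : b1 + b2 = 2 * (q + 1) := by omega
  set a1 := Nat.card B1
  set a2 := Nat.card B2
  -- the orders are coprime
  have hcop : Nat.Coprime a1 a2 := by
    refine Nat.coprime_of_dvd fun ℓ hℓ h1 h2 => ?_
    have : Fact ℓ.Prime := ⟨hℓ⟩
    obtain ⟨⟨x1, hx1⟩, ho1⟩ := exists_prime_orderOf_dvd_card' ℓ h1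
    obtain ⟨⟨x2, hx2⟩, ho2⟩ := exists_prime_orderOf_dvd_card' ℓ h2
    rw [← Subgroup.orderOf_coe] at ho1 ho2
    change orderOf x1 = ℓ at ho1
    change orderOf x2 = ℓ at ho2
    obtain ⟨h5, -⟩ := hcf ℓ hℓ (h1.trans ⟨b1, hb1.symm.trans (mul_comm _ _)⟩)
    obtain ⟨S⟩ : Nonempty (Sylow ℓ ↥(twistedG2 K (3 ^ m))) := inferInstance
    obtain ⟨c1, hc1'⟩ := exists_conj_mem_of_index (p := ℓ) (S : Subgroup ↥(twistedG2 K (3 ^ m))) S.not_dvd_index (k := 1)
      (show orderOf x1 = ℓ ^ 1 by rw [pow_one, ho1])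
    obtain ⟨c2, hc2'⟩ := exists_conj_mem_of_index (p := ℓ) (S : Subgroup ↥(twistedG2 K (3 ^ m))) S.not_dvd_index (k := 1)
      (show orderOf x2 = ℓ ^ 1 by rw [pow_one, ho2])
    have := isCyclic_sylow_ree hK hm (show 3 < ℓ by omega) S
    have hmem := GLSeven.mem_zpowers_of_cyclic (x := (⟨_, hc1'⟩ : (S : Subgroup ↥(twistedG2 K (3 ^ m)))))
      (y := ⟨_, hc2'⟩) hℓ.pos (by rw [← Subgroup.orderOf_coe]; exact (ree_orderOf_conj hK c1 x1).trans ho1)
      (Subtype.ext (by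
        show (c2 * x2 * c2⁻¹) ^ ℓ = 1
        rw [conj_pow, orderOf_dvd_iff_pow_eq_one.1 ho2.dvd, mul_one, mul_inv_cancel]))
    obtain ⟨i, hi⟩ := Subgroup.mem_zpowers_iff.1 hmem
    have hi' : (c1 * x1 * c1⁻¹) ^ i = c2 * x2 * c2⁻¹ := congrArg Subtype.val hi
    have hne : c1⁻¹ * (c2 * x2 * c2⁻¹) * c1 ∈ B1 := by
      rw [← hi', conj_zpow]
      simpa [mul_assoc] using zpow_mem hx1 i
    have hx21 : x2 ≠ 1 := fun e => by rw [e, orderOf_one] at ho2; exact hℓ.one_lt.ne ho2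
    refine hdis x2 ⟨c1⁻¹ * c2, ?_, fun e => hx21 (conj_eq_one_iff.1 e)⟩
      ⟨1, by simpa using hx2, by simpa using hx21⟩
    rw [show c1⁻¹ * c2 * x2 * (c1⁻¹ * c2)⁻¹ = c1⁻¹ * (c2 * x2 * c2⁻¹) * c1 by group]
    exact hne
  have hd12 : a1 * a2 ∣ N :=
    hcop.mul_dvd_of_dvd_of_dvd ⟨b1, hb1.symm.trans (mul_comm _ _)⟩ ⟨b2, hb2.symm.trans (mul_comm _ _)⟩
  have hdN : N ∣ a1 * a2 := by
    refine (Nat.dvd_iff_prime_pow_dvd_dvd _ _).2 fun ℓ k hℓ hk => ?_
    rcases Nat.eq_zero_or_pos k with rfl | hk0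
    · rw [pow_zero]; exact one_dvd _
    have : Fact ℓ.Prime := ⟨hℓ⟩
    have hℓN : ℓ ∣ N := (dvd_pow_self ℓ hk0.ne').trans hk
    have hkG : ℓ ^ k ∣ G := hk.trans (by
      rw [hG]; exact dvd_mul_of_dvd_right (dvd_mul_of_dvd_right (dvd_mul_left _ _) _) _)
    obtain ⟨S, hScard⟩ := Sylow.exists_subgroup_card_pow_prime ℓ hkG
    have hSnt : Nontrivial S := by
      rw [← Finite.one_lt_card_iff_nontrivial, hScard]
      exact Nat.one_lt_pow hk0.ne' hℓ.one_lt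
    have hSp : IsPGroup ℓ S := IsPGroup.of_card hScard
    obtain ⟨P, hP⟩ := hSp.exists_le_sylow
    have := isCyclic_sylow_ree hK hm (show 3 < ℓ by have := (hcf ℓ hℓ hℓN).1; omega) P
    obtain ⟨⟨y, hy⟩, hyo⟩ := exists_prime_orderOf_dvd_card' ℓ (show ℓ ∣ Nat.card S by
      rw [hScard]; exact dvd_pow_self ℓ hk0.ne')
    rw [← Subgroup.orderOf_coe] at hyo
    change orderOf y = ℓ at hyo
    have hy1 : y ≠ 1 := fun e => by rw [e, orderOf_one] at hyo; exact hℓ.one_lt.ne hyo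
    have key : ∀ B, Good B → In B y → ℓ ^ k ∣ Nat.card B := by
      rintro B ⟨-, -, -, hB, -⟩ ⟨c, hc, hc1⟩
      rw [← hScard, ← Subgroup.card_map_of_injective (MulAut.conj c).injective (f := (MulAut.conj c).toMonoidHom)]
      refine Subgroup.card_dvd_of_le ?_
      rintro _ ⟨s, hs, rfl⟩
      rw [← hB _ hc hc1]
      refine Subgroup.mem_centralizer_singleton_iff.2 ?_
      have hsy : s * y = y * s := congrArg Subtype.val
        ((IsCyclic.isMulCommutative (α := (P : Subgroup ↥(twistedG2 K (3 ^ m))))).is_comm.comm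
          ⟨s, hP hs⟩ ⟨y, hP hy⟩)
      exact ((show Commute s y from hsy).map (MulAut.conj c).toMonoidHom).eq
    rcases hall y ⟨ℓ, hℓ, (hcf ℓ hℓ hℓN).1, hℓN, by rw [hyo]⟩ with h | h
    · exact dvd_mul_of_dvd_left (key B1 hG1 h) _
    · exact dvd_mul_of_dvd_right (key B2 hG2 h) _
  have hprod : a1 * a2 = N := Nat.dvd_antisymm hd12 hdN
  have hb1' : b1 = a2 := Nat.eq_of_mul_eq_mul_right Nat.card_pos (hb1.trans (hprod.symm.trans (mul_comm _ _)))
  have hb2' : b2 = a1 := Nat.eq_of_mul_eq_mul_right Nat.card_pos (hb2.trans hprod.symm)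
  -- solve
  set r := 3 ^ (m + 1) with hr
  have hr2 : r ^ 2 = 3 * q := by rw [hr, hqdef, ← pow_mul, ← pow_succ']; congr 1; omega
  have hrq : r ≤ q := by
    by_contra h
    rw [not_le] at h
    have h1 : q * q < r * r := Nat.mul_lt_mul'' h h
    rw [← pow_two r, hr2] at h1
    have h2 : q < 3 := Nat.lt_of_mul_lt_mul_right h1
    omega
  have hsolve : (a1 = q - r + 1 ∧ a2 = q + r + 1) ∨ (a1 = q + r + 1 ∧ a2 = q - r + 1) := by
    have h1 : (a1 : ℤ) + a2 = 2 * (q + 1) := by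
      have : a1 + a2 = 2 * (q + 1) := by omega
      exact_mod_cast this
    have h2 : (a1 : ℤ) * a2 = (q : ℤ) ^ 2 - q + 1 := by
      rw [← Nat.cast_mul, hprod, hNdef]; push_cast [hqq]; ring
    have h3 : ((r : ℤ)) ^ 2 = 3 * q := by exact_mod_cast hr2
    have h4 : ((a1 : ℤ) - (q - r + 1)) * ((a1 : ℤ) - (q + r + 1)) = 0 := by
      linear_combination (a1 : ℤ) * h1 - h2 - h3
    rcases mul_eq_zero.1 h4 with h | h
    · refine Or.inl ⟨?_, ?_⟩ <;> zify [hrq] <;> linarith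
    · refine Or.inr ⟨?_, ?_⟩ <;> zify [hrq] <;> linarith
  refine ⟨?_, fun g hg => ?_⟩
  · intro a ha
    rcases hsolve with ⟨e1, e2⟩ | ⟨e1, e2⟩ <;> rcases ha with rfl | rfl
    · exact ⟨B1, hG1.1, e1, e1 ▸ hn1 rfl, hG1.2.2.2.1⟩
    · exact ⟨B2, hG2.1, e2, e2 ▸ hn2 rfl, hG2.2.2.2.1⟩
    · exact ⟨B2, hG2.1, e2, e2 ▸ hn2 rfl, hG2.2.2.2.1⟩
    · exact ⟨B1, hG1.1, e1, e1 ▸ hn1 rfl, hG1.2.2.2.1⟩
  · rcases hall g hg with ⟨c, hc, -⟩ | ⟨c, hc, -⟩ <;>
      [have hd : orderOf g ∣ a1 := ree_orderOf_conj hK c g ▸ Subgroup.orderOf_dvd_natCard _ hc;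
       have hd : orderOf g ∣ a2 := ree_orderOf_conj hK c g ▸ Subgroup.orderOf_dvd_natCard _ hc] <;>
      (rcases hsolve with ⟨e1, e2⟩ | ⟨e1, e2⟩ <;>
        first
          | exact Or.inl (e1 ▸ hd)
          | exact Or.inr (e1 ▸ hd)
          | exact Or.inl (e2 ▸ hd)
          | exact Or.inr (e2 ▸ hd))

end CfsgLib.Twisted
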