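import Cfsg.Agent.Lib.Twisted.Weights
import Cfsg.Agent.Lib.Twisted.CertE6

/-! Root vectors for the datum of type E6 (generated; checked by the kernel below). -/

set_option autoImplicit false

namespace CfsgLib.Twisted

open Cfsg.Lie

def codeE6 (s : ℕ) : ℕ := (0x4524d24914524d24514524924514514924514114924514524914514514914514114914514514514514114514514104514514514514114114514114104514114104114114104104114524914504514914504114914504514514504114514504104514504514504504114504504104504504104104504514514104114514104104514104104114104514504104114504104104504104514104104114104104504104103d041041040f4104103cf4104104103d041040f3d04103cf3d041041040f4104103cf41040f3cf4103cf3cf4104104103d04103d03d040f3d03d03cf3d03d04103cf3d040f3cf3d03cf3cf3d040f38f3d03cf38f3d03ce38f3d041041040f41040f40f4103cf40f40f3cf40f3cf3cf40f4103cf3cf40f3cf3cf3cf3cf3cf40f38f3cf3cf38f3cf3ce38f3cf40f38e3cf3cf38e3cf3ce38e3cf3ce34e3cf3ce34e38f >>> (36 * s)) % 68719476736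

theorem vecE6_check : checkVec chevE6 cartE6 codeE6 = true := by
  decide +kernel

theorem isVecE6 : IsVec chevE6 codeE6 := isVec_of_check chevE6 tablesE6 vecE6_check

end CfsgLib.Twisted
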