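import Cfsg.Agent.Lib.Twisted.Weights
import Cfsg.Agent.Lib.Twisted.CertB2

/-! Root vectors for the datum of type B2 (generated; checked by the kernel below). -/

set_option autoImplicit false

namespace CfsgLib.Twisted

open Cfsg.Lie

def codeB2 (s : ℕ) : ℕ := (0x4524514114503d040f3cf3ce >>> (12 * s)) % 4096

theorem vecB2_check : checkVec chevB2 cartB2 codeB2 = true := by
  decide +kernel

theorem isVecB2 : IsVec chevB2 codeB2 := isVec_of_check chevB2 tablesB2 vecB2_check

end CfsgLib.Twisted
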