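import Cfsg.Agent.Lib.Twisted.Weights
import Cfsg.Agent.Lib.Twisted.CertE7

/-! Root vectors for the datum of type E7 (generated; checked by the kernel below). -/

set_option autoImplicit false

namespace CfsgLib.Twisted

open Cfsg.Lie

def codeE7 (s : ℕ) : ℕ := (0x4524d44d24914935134914524d44924514934d24914524934924514524d24914114934924514934d24514524934914514524d245141149349145149249245145149249145045249245145145249145045149245141045249145149249145145149245145045249145145145245145045149145141045245145145145145141145145145041145145141041145145145145141141145145045041145141141041145045041041141141041041045149249145045149245141045249145045145245141045149145041045245141145145145041145145141041145145041041145141145145045041145141141041145045041041141141041041045045145145041045145141041045145041041045141041041045041145145041041145141041041145041041041141041145141041041145041041041141041045141041041045041041045041041040f41041041040f41041040f3d04104104103d04104103cf4104103cf3d04104104103d04104103cf4104103cf3d04103cf3cf41041041040f41041040f3d041040f3cf41040f3cf3d040f3cf3cf41041041040f4104103d03d04103cf40f4103cf3d03d03cf3cf40f4104103cf3d04103cf3cf4103cf3cf3d03cf3cf3cf41040f38f3d040f3ce3cf40f3cf38f3d040f38e3cf40f3ce38f3d03ce38e3cf41041041040f4104103d03d04103cf40f4103cf3d03d03cf3cf40f3cf3cf3d03d04103cf3cf4103cf3cf3d03cf3cf3cf3cf3cf3cf3d040f38f3cf40f3ce3cf3cf3cf38f3cf40f38e3cf3cf3ce38f3cf3ce38e3cf3d040f38e3cf40f3ce38f3cf3cf38e3cf40f38e38f3cf3ce38e3cf3ce38e38f3d03ce34e3cf3cf38d38f3cf38e34e3cf3ce34d38f3d03ce34e38f3cf38d38e3cf38e34e38f3ce34d38e3cf38d30e38f3ce34c34e3cf38d30d38e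 >>> (42 * s)) % 4398046511104

theorem vecE7_check : checkVec chevE7 cartE7 codeE7 = true := by
  decide +kernel

theorem isVecE7 : IsVec chevE7 codeE7 := isVec_of_check chevE7 tablesE7 vecE7_check

end CfsgLib.Twisted
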