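import Cfsg.Agent.Lib.Twisted.Weights
import Cfsg.Agent.Lib.Twisted.CertE8

/-! Root vectors for the datum of type E8 (generated; checked by the kernel below). -/

set_option autoImplicit false

namespace CfsgLib.Twisted

open Cfsg.Lie

def codeE8 (s : ℕ) : ℕ := (0x4935155944d24535155944d24525155944d24524d55944d24524d45944d24524d45544d24524d45534d24524d45544924524d45534924524d45134924524d35134924524935134924514935134924114935134924524d45534d14524d45534914524d45134914524d35134914524935134914514935134914114935134914524d45124914524d35124914524935124914514935124914114935124914524d34d24914524934d24914514934d24914114934d24914524924d24914514924d24914114924d24914514524d24914114524d24914104524d24914524d34d24514524934d24514514934d24514114934d24514524924d24514514924d24514114924d24514514524d24514114524d24514104524d2451452492492451451492492451411492492451451452492451411452492451410452492451451451492451411451492451410451492451410411492451452492491451451492491451411492491451451452491451411452491451410452491451451451491451411451491451410451491451410411491451451451451451411451451451410451451451410411451451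4104104514514514514514114114514514114104514514114104114514114104104514114104104114114104104104114524924914504514924914504114924914504514524914504114524914504104524914504514514914504114514914504104514914504104114914504514514514504114514514504104514514504104114514504104104514504514514504504114514504504104514504504104114504504104104504504104104104504514514514104114514514104104514514104104114514104104104514104104104114104514514504104114514504104104514504104104114504104104104504104514514104104114514104104104514104104104114104104514504104104114504104104104504104104514104104104114104104104504104104103d041041041040f4104104103cf4104104104103d041041040f3d04104103cf3d041041041040f4104104103cf41041040f3cf4104103cf3cf4104104104103d041041040f3d04104103cf3d041040f3cf3d04103cf3cf3d041041041040f4104104103cf41041040f3cf4104103cf3cf41040f3cf3cf4103cf3cf3cf4104104104103d04104103d03d041040f3d03d04103cf3d03d040f3cf3d03d03cf3cf3d03d04104103cf3d041040f3cf3d04103cf3cf3d040f3cf3cf3d03cf3cf3cf3d041040f38f3d04103cf38f3d040f3cf38f3d03cf3cf38f3d04103ce38f3d040f3ce38f3d03cf3ce38f3d040f38e38f3d03cf38e38f3d03ce38e38f3d041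041041040f41041040f40f4104103cf40f41040f3cf40f4103cf3cf40f40f3cf3cf40f3cf3cf3cf40f4104103cf3cf41040f3cf3cf4103cf3cf3cf40f3cf3cf3cf3cf3cf3cf3cf41040f38f3cf4103cf38f3cf40f3cf38f3cf3cf3cf38f3cf4103ce38f3cf40f3ce38f3cf3cf3ce38f3cf40f38e38f3cf3cf38e38f3cf3ce38e38f3cf41040f38e3cf4103cf38e3cf40f3cf38e3cf3cf3cf38e3cf4103ce38e3cf40f3ce38e3cf3cf3ce38e3cf40f38e38e3cf3cf38e38e3cf3ce38e38e3cf4103ce34e3cf40f3ce34e3cf3cf3ce34e3cf40f38e34e3cf3cf38e34e3cf3ce38e34e3cf40f38d34e3cf3cf38d34e3cf3ce38d34e3cf3ce34d34e3cf4103ce34e38f40f3ce34e38f3cf3ce34e38f40f38e34e38f3cf38e34e38f3ce38e34e38f40f38d34e38f3cf38d34e38f3ce38d34e38f3ce34d34e38f40f38d30e38f3cf38d30e38f3ce38d30e38f3ce34d30e38f3ce34c30e38f40f38d30d38f3cf38d30d38f3ce38d30d38f3ce34d30d38f3ce34c30d38f3ce34c2cd38f3ce34c2cd34f40f38d30d38e3cf38d30d38e3ce38d30d38e3ce34d30d38e3ce34c30d38e3ce34c2cd38e3ce34c2cc38e3ce34c2cd34e3ce34c2cc34e3ce34c28c34e3ce34b28c34e3ce30b28c34e3cd30b28c34e38d30b28c34e >>> (48 * s)) % 281474976710656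

theorem vecE8_check : checkVec chevE8 cartE8 codeE8 = true := by
  decide +kernel

theorem isVecE8 : IsVec chevE8 codeE8 := isVec_of_check chevE8 tablesE8 vecE8_check

end CfsgLib.Twisted
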